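import Mathlib
import Groth.Prelude.Def_RelProj2
import Groth.Agent.FittLib.Generated
import Groth.Agent.SymGenLib.Basic

/-!
# Evaluating the symmetric algebra of a locally free module on a trivialising affine open
-/

set_option autoImplicit false
set_option linter.style.haveILetI false
set_option linter.unusedSectionVars false

universe u

open AlgebraicGeometry CategoryTheory CategoryTheory.Limits Opposite TopologicalSpace MvPolynomial

noncomputable section

namespace CycPBLib

variable {X : Scheme.{u}} {E : X.Modules} {N : ℕ} {U : X.Opens}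

section Coord

variable (φ : E.restrict U.ι ≅ FlatMod.freeMod (↑U) N)

/-- The part of `W` inside `U`. -/
abbrev inU (U W : X.Opens) : X.Opens := U.ι ''ᵁ (U.ι ⁻¹ᵁ W)

theorem inU_le (W : X.Opens) : inU U W ≤ W := U.ι.image_preimage_le W

theorem le_inU {W V : X.Opens} (hW : V ≤ W) (hU : V ≤ U) : V ≤ inU U W := by
  rw [inU, Scheme.Hom.image_preimage_eq_opensRange_inf, Scheme.Opens.opensRange_ι]
  exact le_inf hU hW

/-- The coordinate functions of sections of `E` over the part inside `U`. -/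
def crd (W : X.Opens) (e : Γ(E, W)) (k : Fin N) : Γ(X, inU U W) :=
  show Γ(U, U.ι ⁻¹ᵁ W) from FittLib.coord (Z := (U : Scheme.{u})) (V := U.ι ⁻¹ᵁ W) (φ.hom.app (U.ι ⁻¹ᵁ W)
    (show Γ(E.restrict U.ι, U.ι ⁻¹ᵁ W) from E.presheaf.map (homOfLE (inU_le W)).op e)) k

/-- The same, as an additive map. -/
def crdHom (W : X.Opens) (k : Fin N) : Γ(E, W) →+ Γ(X, inU U W) :=
  AddMonoidHom.mk' (fun e => crd φ W e k) fun a b => by
    have h1 : (show Γ(E.restrict U.ι, U.ι ⁻¹ᵁ W) from E.presheaf.map (homOfLE (inU_le W)).op (a + b)) =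
        (show Γ(E.restrict U.ι, U.ι ⁻¹ᵁ W) from E.presheaf.map (homOfLE (inU_le W)).op a) +
          (show Γ(E.restrict U.ι, U.ι ⁻¹ᵁ W) from E.presheaf.map (homOfLE (inU_le W)).op b) := map_add _ _ _
    show crd φ W (a + b) k = crd φ W a k + crd φ W b k
    unfold crd FittLib.coord
    rw [h1, map_add]
    exact map_add _ _ _

theorem crd_smul (W : X.Opens) (r : Γ(X, W)) (e : Γ(E, W)) (k : Fin N) :
    crd φ W (r • e) k = X.presheaf.map (homOfLE (inU_le W)).op r * crd φ W e k := by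
  let r' : Γ(U, U.ι ⁻¹ᵁ W) := X.presheaf.map (homOfLE (inU_le W)).op r
  have h1 : (show Γ(E.restrict U.ι, U.ι ⁻¹ᵁ W) from E.presheaf.map (homOfLE (inU_le W)).op (r • e)) =
      r' • (show Γ(E.restrict U.ι, U.ι ⁻¹ᵁ W) from E.presheaf.map (homOfLE (inU_le W)).op e) :=
    (QCohLib.map_smul' E (homOfLE (inU_le W)) r e).trans (FittLib.smul_restrict E U _ r' _).symm
  refine (congrArg (fun t => FittLib.coord (φ.hom.app _ t) k) h1).trans ?_
  refine (congrArg (fun t => FittLib.coord t k) (QCohLib.app_smul φ.hom _ r' _)).trans ?_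
  exact QCohLib.app_smul _ _ r' _

theorem crd_res {W W' : X.Opens} (h : W' ≤ W) (e : Γ(E, W)) (k : Fin N) :
    crd φ W' (E.presheaf.map (homOfLE h).op e) k =
      X.presheaf.map (homOfLE (U.ι.image_mono (U.ι.preimage_mono h))).op (crd φ W e k) := by
  let t : Γ(E.restrict U.ι, U.ι ⁻¹ᵁ W) := E.presheaf.map (homOfLE (inU_le W)).op e
  have h1 : (show Γ(E.restrict U.ι, U.ι ⁻¹ᵁ W') from
        E.presheaf.map (homOfLE (inU_le W')).op (E.presheaf.map (homOfLE h).op e)) =
      (E.restrict U.ι).presheaf.map (homOfLE (U.ι.preimage_mono h)).op t := by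
    refine (QCohLib.map_map' E (homOfLE (inU_le W')) (homOfLE h) e).trans ?_
    exact (QCohLib.map_map' E (homOfLE (U.ι.image_mono (U.ι.preimage_mono h))) (homOfLE (inU_le W)) e).symm
  refine (congrArg (fun t => FittLib.coord (φ.hom.app _ t) k) h1).trans ?_
  refine (congrArg (fun t => FittLib.coord t k)
    (QCohLib.app_map φ.hom (homOfLE (U.ι.preimage_mono h)) t)).trans ?_
  exact QCohLib.app_map _ (homOfLE (U.ι.preimage_mono h)) _

/-- The basis of sections over `U`. -/
def bas (k : Fin N) : Γ(E, U) :=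
  E.presheaf.map (homOfLE (le_inU (U := U) le_rfl le_rfl)).op
    (show Γ(E, inU U U) from φ.inv.app (U.ι ⁻¹ᵁ U) (FittLib.stdSec _ N _ k))

theorem res_bas (k : Fin N) :
    E.presheaf.map (homOfLE (inU_le U)).op (bas φ k) =
      (show Γ(E, inU U U) from φ.inv.app (U.ι ⁻¹ᵁ U) (FittLib.stdSec _ N _ k)) := by
  refine (QCohLib.map_map' E _ _ _).trans ?_
  exact congr($(E.presheaf.map_id _) _)

theorem crd_bas (k l : Fin N) : crd φ U (bas φ k) l = if k = l then 1 else 0 := by
  rw [crd, res_bas]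
  refine (congrArg (fun t => FittLib.coord t l) ?_).trans (FittLib.coord_stdSec k l)
  exact congrArg (fun ψ : FlatMod.freeMod (↑U) N ⟶ FlatMod.freeMod (↑U) N =>
    ψ.app (U.ι ⁻¹ᵁ U) (FittLib.stdSec _ N _ k)) φ.inv_hom_id

theorem span_bas (t : Γ(E, U)) : t ∈ Submodule.span Γ(X, U) (Set.range (bas φ)) := by
  let t' : Γ(E.restrict U.ι, U.ι ⁻¹ᵁ U) := E.presheaf.map (homOfLE (inU_le U)).op t
  let hle : U ≤ inU U U := le_inU le_rfl le_rfl
  have h1 : (show Γ(E, inU U U) from t') = ∑ k, crd φ U t k •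
      (show Γ(E, inU U U) from φ.inv.app (U.ι ⁻¹ᵁ U) (FittLib.stdSec _ N _ k)) := by
    have h := congrArg (fun ψ : E.restrict U.ι ⟶ E.restrict U.ι => ψ.app (U.ι ⁻¹ᵁ U) t') φ.hom_inv_id
    refine h.symm.trans ((congrArg (φ.inv.app _) (FittLib.sum_coord _)).trans ?_)
    refine (map_sum (φ.inv.app (U.ι ⁻¹ᵁ U)).hom _ _).trans (Finset.sum_congr rfl fun k _ => ?_)
    exact (QCohLib.app_smul φ.inv _ _ _).trans (FittLib.smul_restrict E U _ _ _)
  have h2 : t = E.presheaf.map (homOfLE hle).op (show Γ(E, inU U U) from t') := by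
    refine (Eq.trans ?_ (QCohLib.map_map' E _ _ _).symm)
    exact congr($(E.presheaf.map_id _) t).symm
  rw [h2, h1, map_sum]
  refine Submodule.sum_mem _ fun k _ => ?_
  rw [QCohLib.map_smul' E]
  exact Submodule.smul_mem _ _ (Submodule.subset_span ⟨k, rfl⟩)

end Coord

/-- The map from a symmetric algebra to the sections over a scheme mapping into `U`, with prescribed
values on the basis. -/
theorem exists_eval (φ : E.restrict U.ι ≅ FlatMod.freeMod (↑U) N) {A : RelSpec.QCAlg X}
    {j : E ⟶ A.toModule} (hj : RelSpec.IsSymAlg E A j) {T : Scheme.{u}} (g : T ⟶ X) [QuasiCompact g]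
    [QuasiSeparated g] (hg : g ⁻¹ᵁ U = ⊤) (v : Fin N → Γ(T, g ⁻¹ᵁ U)) :
    ∃ Φ : A.presheaf.obj (op U) →+* Γ(T, g ⁻¹ᵁ U),
      (∀ r, Φ ((A.str.app (op U)).hom r) = g.app U r) ∧ ∀ k, Φ (j.app U (bas φ k)) = v k := by
  classical
  let B := RelSpec.QCAlg.directImage g
  have hle : ∀ W : X.Opens, g ⁻¹ᵁ W ≤ g ⁻¹ᵁ inU U W := fun W x hx =>
    le_inU (V := W ⊓ U) inf_le_left inf_le_right ⟨hx, hg.ge (Opens.mem_top x)⟩
  have hleU : ∀ W : X.Opens, g ⁻¹ᵁ W ≤ g ⁻¹ᵁ U := fun W => le_top.trans hg.ge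
  let val : ∀ W : X.Opens, Γ(E, W) → Γ(T, g ⁻¹ᵁ W) := fun W e =>
    ∑ k, g.appLE _ _ (hle W) (crd φ W e k) * T.presheaf.map (homOfLE (hleU W)).op (v k)
  have hmap : ∀ (W : X.Opens) (k : Fin N) (a b : Γ(E, W)), crd φ W (a + b) k = crd φ W a k + crd φ W b k :=
    fun W k => (crdHom φ W k).map_add
  have hadd : ∀ (W : X.Opens) (a b : Γ(E, W)), val W (a + b) = val W a + val W b := fun W a b => by
    simp only [val, hmap, map_add, add_mul, Finset.sum_add_distrib]
  have hnat : ∀ (W W' : X.Opens) (h : W' ≤ W) (e : Γ(E, W)),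
      val W' (E.presheaf.map (homOfLE h).op e) = T.presheaf.map (homOfLE (g.preimage_mono h)).op (val W e) := by
    intro W W' h e
    simp only [val, map_sum, map_mul, crd_res φ h]
    refine Finset.sum_congr rfl fun k _ => ?_
    congr 1
    · rw [← CommRingCat.comp_apply, Scheme.Hom.map_appLE, ← CommRingCat.comp_apply, Scheme.Hom.appLE_map]
    · rw [← CommRingCat.comp_apply, ← T.presheaf.map_comp]
      rfl
  have hsmul : ∀ (W : X.Opens) (r : Γ(X, W)) (e : Γ(E, W)), val W (r • e) = g.app W r * val W e := by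
    intro W r e
    simp only [val, crd_smul φ W r e, map_mul, Finset.mul_sum, ← mul_assoc]
    refine Finset.sum_congr rfl fun k _ => ?_
    congr 2
    rw [← CommRingCat.comp_apply, Scheme.Hom.map_appLE, Scheme.Hom.appLE_eq_app]
  let ψ : E ⟶ B.toModule :=
    ⟨letI := B.moduleSect
    PresheafOfModules.homMk
      { app := fun W => AddCommGrpCat.ofHom (AddMonoidHom.mk' (val W.unop) fun a b => by
          exact hadd W.unop a b)
        naturality := fun W W' i => by
          ext e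
          exact hnat W.unop W'.unop i.unop.le e }
      fun W r e => hsmul W.unop r e⟩
  obtain ⟨θ, hθ, -⟩ := hj B ψ
  refine ⟨(θ.hom.app (op U)).hom, fun r => ?_, fun k => ?_⟩
  · have h0 := NatTrans.congr_app θ.comm (op U)
    exact congr($(h0).hom r)
  · have h1 := congrArg (fun χ : E ⟶ B.toModule => χ.app U (bas φ k)) hθ
    refine h1.trans ?_
    show val U (bas φ k) = v k
    simp only [val, crd_bas]
    rw [Finset.sum_eq_single k (fun l _ hl => by rw [if_neg (Ne.symm hl), map_zero, zero_mul])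
      (fun h => absurd (Finset.mem_univ k) h), if_pos rfl, map_one, one_mul]
    exact congr($(T.presheaf.map_id _) (v k))

end CycPBLib

end
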