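import Mathlib
import Groth.Agent.CycPBLib.Triv

/-!
# The standard charts of the symmetric algebra of a free module
-/

set_option autoImplicit false
set_option linter.style.haveILetI false
set_option linter.unusedSectionVars false

universe u

open AlgebraicGeometry CategoryTheory MvPolynomial HomogeneousLocalization

noncomputable section

namespace CycPBLib

variable {R A σ' : Type u} [CommRing R] [CommRing A] [SetLike σ' A] [AddSubgroupClass σ' A] (𝒜 : ℕ → σ')
  [GradedRing 𝒜] (ρ : R →+* 𝒜 0) {n : ℕ} (x : Fin (n + 1) → A) (hx : ∀ k, x k ∈ 𝒜 1)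

/-- The base ring in a homogeneous localization. -/
abbrev base (j : Fin (n + 1)) : R →+* Away 𝒜 (x j) :=
  (fromZeroRingHom 𝒜 (Submonoid.powers (x j))).comp ρ

/-- The coordinate `x_k / x_j`. -/
def rat (j k : Fin (n + 1)) : Away 𝒜 (x j) := Away.mk 𝒜 (hx j) 1 (x k) (by simpa using hx k)

/-- The standard chart, on rings. -/
def toAway (j : Fin (n + 1)) : MvPolynomial (ULift.{u} (Fin n)) R →+* Away 𝒜 (x j) :=
  eval₂Hom (base 𝒜 ρ x j) fun m => rat 𝒜 x hx j (j.succAbove m.down)

theorem val_rat (j k : Fin (n + 1)) :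
    (rat 𝒜 x hx j k).val = Localization.mk (x k) (⟨x j, 1, pow_one _⟩ : Submonoid.powers (x j)) :=
  (Away.val_mk 𝒜 1 (hx j) (x k) _).trans (congrArg (Localization.mk (x k)) (Subtype.ext (pow_one _)))

theorem val_base (j : Fin (n + 1)) (r : R) :
    (base 𝒜 ρ x j r).val = algebraMap A (Localization (Submonoid.powers (x j))) (ρ r : A) := by
  rw [← Localization.mk_one_eq_algebraMap]
  rfl

theorem rat_self (j : Fin (n + 1)) : rat 𝒜 x hx j j = 1 := by
  apply val_injective
  rw [val_rat, val_one]
  exact Localization.mk_self (⟨x j, 1, pow_one _⟩ : Submonoid.powers (x j))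

theorem rat_mem_range (j k : Fin (n + 1)) : rat 𝒜 x hx j k ∈ (toAway 𝒜 ρ x hx j).range := by
  rcases Fin.eq_self_or_eq_succAbove j k with h | ⟨m, h⟩
  · rw [h, rat_self]
    exact one_mem _
  · subst h
    exact ⟨X ⟨m⟩, by rw [toAway, eval₂Hom_X']⟩

variable (hgen : Function.Surjective (eval₂Hom ((algebraMap (𝒜 0) A).comp ρ) x))

include hgen in
theorem toAway_surjective (j : Fin (n + 1)) : Function.Surjective (toAway 𝒜 ρ x hx j) := by
  classical
  intro z
  obtain ⟨d, a, ha, rfl⟩ := Away.mk_surjective 𝒜 (hx j) z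
  let L := Localization (Submonoid.powers (x j))
  let xj : Submonoid.powers (x j) := ⟨x j, 1, pow_one _⟩
  let ι : Away 𝒜 (x j) →+* L := algebraMap _ L
  let M : Subring L := (toAway 𝒜 ρ x hx j).range.map ι
  suffices h : Localization.mk a (xj ^ d) ∈ M by
    obtain ⟨w, ⟨q, rfl⟩, hw⟩ := h
    refine ⟨q, val_injective _ ?_⟩
    rw [Away.val_mk]
    exact hw.trans (congrArg (Localization.mk a) (Subtype.ext (by simp [xj])))
  obtain ⟨p, hp⟩ := hgen a
  have ha' : a ∈ 𝒜 d := by simpa using ha
  rw [← DirectSum.decompose_of_mem_same 𝒜 ha', ← hp]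
  clear hp ha' ha
  induction p using MvPolynomial.induction_on' with
  | monomial s r =>
    rw [eval₂Hom_monomial, RingHom.comp_apply]
    let e := s.sum fun _ b => b
    have hmem : (algebraMap (𝒜 0) A) (ρ r) * s.prod (fun k b => x k ^ b) ∈ 𝒜 e := by
      rw [← zero_add e]
      refine SetLike.mul_mem_graded (ρ r).2 ?_
      have h := SetLike.prod_pow_mem_graded 𝒜 (i := fun _ : Fin (n + 1) => 1) (g := x) (F := s.support) (n := (s : Fin (n + 1) → ℕ)) (fun k _ => hx k)
      simpa [e, Finsupp.sum, Finsupp.prod] using h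
    show Localization.mk (DirectSum.decompose 𝒜 _ d : A) (xj ^ d) ∈ M
    by_cases hed : e = d
    · subst hed
      rw [DirectSum.decompose_of_mem_same 𝒜 hmem]
      have : Localization.mk ((algebraMap (𝒜 0) A) (ρ r) * s.prod fun k b => x k ^ b) (xj ^ e) =
          ι (base 𝒜 ρ x j r * s.prod fun k b => rat 𝒜 x hx j k ^ b) := by
        rw [map_mul, map_finsuppProd]
        show _ = (base 𝒜 ρ x j r).val * _
        rw [val_base, ← Localization.mk_one_eq_algebraMap]
        simp only [Finsupp.prod, map_pow, e, Finsupp.sum]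
        have h2 : ∀ k, ι (rat 𝒜 x hx j k) = Localization.mk (x k) xj := fun k => val_rat 𝒜 x hx j k
        rw [Finset.prod_congr rfl fun k _ =>
          (congrArg (fun t : L => t ^ s k) (h2 k)).trans (Localization.mk_pow (s k) (x k) xj), Localization.mk_prod,
          Localization.mk_mul, one_mul, Finset.prod_pow_eq_pow_sum]
        rfl
      rw [this]
      exact ⟨_, mul_mem (show base 𝒜 ρ x j r ∈ (toAway 𝒜 ρ x hx j).range from ⟨C r, by rw [toAway, eval₂Hom_C]⟩)
        (prod_mem fun k _ => pow_mem (rat_mem_range 𝒜 ρ x hx j k) _), rfl⟩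
    · rw [DirectSum.decompose_of_mem_ne 𝒜 hmem hed, Localization.mk_zero]
      exact zero_mem _
  | add p q hp hq =>
    rw [map_add, DirectSum.decompose_add, DirectSum.add_apply, AddMemClass.coe_add, ← Localization.add_mk_self]
    exact add_mem hp hq

/-- The inverse of the standard chart, from an evaluation. -/
theorem toAway_bijective
    (hgen : Function.Surjective (eval₂Hom ((algebraMap (𝒜 0) A).comp ρ) x)) (j : Fin (n + 1))
    (Φ : A →+* MvPolynomial (ULift.{u} (Fin n)) R) (hρ : ∀ r, Φ (ρ r : A) = C r)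
    (hΦ : ∀ k, Φ (x k) = (Fin.insertNth j 1 (fun m => X ⟨m⟩) : Fin (n + 1) → _) k) :
    Function.Bijective (toAway 𝒜 ρ x hx j) := by
  refine ⟨?_, toAway_surjective 𝒜 ρ x hx hgen j⟩
  have hu : ∀ y : Submonoid.powers (x j), IsUnit (Φ y) := by
    rintro ⟨_, m, rfl⟩
    rw [map_pow, hΦ, Fin.insertNth_apply_same, one_pow]
    exact isUnit_one
  let ψ : Away 𝒜 (x j) →+* MvPolynomial (ULift.{u} (Fin n)) R :=
    (IsLocalization.lift (S := Localization (Submonoid.powers (x j))) hu).comp (algebraMap _ _)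
  have h : ψ.comp (toAway 𝒜 ρ x hx j) = RingHom.id _ := by
    refine MvPolynomial.ringHom_ext (fun r => ?_) fun m => ?_
    · rw [RingHom.comp_apply, toAway, eval₂Hom_C]
      show IsLocalization.lift hu (base 𝒜 ρ x j r).val = _
      rw [val_base, IsLocalization.lift_eq, hρ]
      rfl
    · rw [RingHom.comp_apply, toAway, eval₂Hom_X']
      show IsLocalization.lift hu (rat 𝒜 x hx j (j.succAbove m.down)).val = _
      rw [val_rat, Localization.mk_eq_mk', IsLocalization.lift_mk'_spec, hΦ, hΦ, Fin.insertNth_apply_succAbove,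
        Fin.insertNth_apply_same, one_mul]
      rfl
  exact Function.LeftInverse.injective (g := ψ) fun p => RingHom.congr_fun h p

end CycPBLib

end
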