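import Mathlib
import Groth.Agent.CycPBLib.Triv
import Groth.Agent.CycPBLib.Alg
import Groth.Agent.MiscFlat6.RelTwist
import Groth.Agent.OmegaAffLib.Rank
import Groth.Agent.CurvLib.EulerTensor
import Groth.Agent.GrTwistLib.Basic

/-!
# The standard charts of a projective bundle
-/

set_option autoImplicit false
set_option linter.style.haveILetI false
set_option linter.unusedSectionVars false

universe u

open AlgebraicGeometry CategoryTheory CategoryTheory.Limits Opposite TopologicalSpace MvPolynomial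
open scoped HomogeneousIdeal

noncomputable section

namespace CycPBLib

variable {X P : Scheme.{u}}

/-- Polynomial ring of a standard chart. -/
abbrev Pol (R : Type u) [CommRing R] (n : ℕ) : Type u := MvPolynomial (ULift.{u} (Fin n)) R

/-- Standard charts of `p` over an affine open, with coordinates for the sections `e`. -/
structure LocData (p : P ⟶ X) (O1 : P.Modules) (n : ℕ) where
  U : X.Opens
  hU : IsAffineOpen U
  e : Fin (n + 1) → Γ(O1, p ⁻¹ᵁ U)
  D : Fin (n + 1) → P.Opens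
  le : ∀ j, D j ≤ p ⁻¹ᵁ U
  c : Fin (n + 1) → (Spec (CommRingCat.of (Pol Γ(X, U) n)) ⟶ P)
  openImm : ∀ j, IsOpenImmersion (c j)
  range_c : ∀ j, (c j).opensRange = D j
  cover : ∀ z, p z ∈ U → ∃ j, z ∈ D j
  over_ : ∀ j, c j ≫ p = Spec.map (CommRingCat.ofHom (C : Γ(X, U) →+* Pol Γ(X, U) n)) ≫ hU.fromSpec
  gen : ∀ j, AmpleLib.GenOn O1 (AmpleLib.res O1 (le j) (e j))
  top_le : ∀ j, (⊤ : (Spec (CommRingCat.of (Pol Γ(X, U) n))).Opens) ≤ c j ⁻¹ᵁ D j
  coord : ∀ j (m : ULift.{u} (Fin n)), ∃ t : Γ(P, D j),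
    AmpleLib.res O1 (le j) (e (j.succAbove m.down)) = t • AmpleLib.res O1 (le j) (e j) ∧
      (c j).appLE (D j) ⊤ (top_le j) t = (Scheme.ΓSpecIso (CommRingCat.of (Pol Γ(X, U) n))).inv (MvPolynomial.X m)
  inter : ∀ j (m : ULift.{u} (Fin n)),
    c j ⁻¹ᵁ D (j.succAbove m.down) = PrimeSpectrum.basicOpen (MvPolynomial.X m : Pol Γ(X, U) n)

theorem fromSpec_appLE_self {U : X.Opens} (hU : IsAffineOpen U) :
    hU.fromSpec.appLE U ⊤ hU.fromSpec_preimage_self.ge = (Scheme.ΓSpecIso Γ(X, U)).inv := by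
  rw [Scheme.Hom.appLE, hU.fromSpec_app_self, Category.assoc, ← Functor.map_comp]
  exact (congrArg (_ ≫ ·) ((Spec Γ(X, U)).presheaf.map_id _)).trans (Category.comp_id _)

theorem appLE_top {Y Z : Scheme.{u}} (f : Y ⟶ Z) (h : (⊤ : Y.Opens) ≤ f ⁻¹ᵁ ⊤) :
    f.appLE ⊤ ⊤ h = f.app ⊤ := by
  simp only [Scheme.Hom.appLE]
  exact (congrArg (f.app ⊤ ≫ ·) (Y.presheaf.map_id _)).trans (Category.comp_id _)

theorem exists_locData [IsLocallyNoetherian X] {E : X.Modules} [Coh.IsQCoh E] {n : ℕ}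
    (hE : FlatMod.IsFinLocFreeOfRank (n + 1) E) {𝒮 : RelProj.QCGrAlg X} {j₀ : E ⟶ 𝒮.toModule}
    (hS : RelProj.IsGrSymAlg E 𝒮 j₀) {p : P ⟶ X}
    {chart : ∀ (U : X.Opens) (hU : IsAffineOpen U), (((p ⁻¹ᵁ U : P.Opens) : Scheme.{u}) ≅ Proj (𝒮.deg U hU))}
    (hP : RelProj.IsRelProj 𝒮 p chart) {O1 : P.Modules}
    {lam : ∀ (U : X.Opens) (hU : IsAffineOpen U),
      O1 ⟶ (Scheme.Modules.pushforward (RelProj.emb p chart U hU)).obj (GrTwist.twist (𝒮.deg U hU) 1)}
    (hO1 : RelProj.IsRelTwist 𝒮 p chart 1 O1 lam) (η : X) :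
    ∃ D : LocData p O1 n, η ∈ D.U := by
  classical
  obtain ⟨U₀, hη₀, ⟨φ₀⟩⟩ := hE η
  obtain ⟨U, hU, hη, hle⟩ := exists_isAffineOpen_mem_and_subset (X := X) (x := η) (U := U₀) hη₀
  obtain ⟨b⟩ := FittLib.nonempty_basis_of_iso E φ₀ (V := U) hle
  obtain ⟨φ⟩ := OmegaAffLib.nonempty_restrict_iso_freeMod hU E b
  let R : Type u := Γ(X, U)
  let 𝒜 := 𝒮.deg U hU
  let str : R →+* 𝒮.presheaf.obj (op U) := (𝒮.str.app (op U)).hom
  let ρ : R →+* 𝒜 0 := (𝒮.strZero U hU).hom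
  let x : Fin (n + 1) → 𝒮.presheaf.obj (op U) := fun k => j₀.app U (bas φ k)
  have hx : ∀ k, x k ∈ 𝒜 1 := fun k => hS.2 U hU _
  have hgen : Function.Surjective (eval₂Hom ((algebraMap (𝒜 0) (𝒮.presheaf.obj (op U))).comp ρ) x) := by
    rw [← RingHom.range_eq_top]
    refine eq_top_iff.2 ((SymGenLib.gen_eq_top 𝒮.toQCAlg j₀ hS.1 U hU).ge.trans ?_)
    refine Subring.closure_le.2 ?_
    rintro _ (⟨r, rfl⟩ | ⟨e, rfl⟩)
    · exact ⟨C r, eval₂Hom_C _ _ r⟩
    · obtain ⟨c, hc⟩ := (Submodule.mem_span_range_iff_exists_fun _).1 (span_bas φ e)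
      refine ⟨∑ k, C (c k) * MvPolynomial.X k, ?_⟩
      simp only [map_sum, map_mul, eval₂Hom_C, eval₂Hom_X']
      rw [← hc]
      refine Eq.trans ?_ (map_sum (j₀.app U).hom _ _).symm
      exact Finset.sum_congr rfl fun k _ => (QCohLib.app_smul j₀ U (c k) (bas φ k)).symm
  -- the evaluations
  let T := Spec (CommRingCat.of (Pol R n))
  let g : T ⟶ X := Spec.map (CommRingCat.ofHom (C : R →+* Pol R n)) ≫ hU.fromSpec
  have hg : g ⁻¹ᵁ U = ⊤ := by
    show Spec.map _ ⁻¹ᵁ hU.fromSpec ⁻¹ᵁ U = ⊤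
    rw [hU.fromSpec_preimage_self]
    rfl
  have hgapp : g.appLE U ⊤ hg.ge = CommRingCat.ofHom (C : R →+* Pol R n) ≫ (Scheme.ΓSpecIso _).inv := by
    show (Spec.map (CommRingCat.ofHom (C : R →+* Pol R n)) ≫ hU.fromSpec).appLE U ⊤ hg.ge = _
    rw [← Scheme.Hom.appLE_comp_appLE _ _ U ⊤ ⊤ hU.fromSpec_preimage_self.ge le_top, fromSpec_appLE_self hU,
      appLE_top, Scheme.ΓSpecIso_inv_naturality]
    rfl
  have hΦ : ∀ j : Fin (n + 1), ∃ Φ : 𝒮.presheaf.obj (op U) →+* Pol R n, (∀ r, Φ (str r) = C r) ∧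
      ∀ k, Φ (x k) = (Fin.insertNth j 1 (fun m => MvPolynomial.X ⟨m⟩) : Fin (n + 1) → Pol R n) k := by
    intro j
    let v' : Fin (n + 1) → Pol R n := Fin.insertNth j 1 (fun m => MvPolynomial.X ⟨m⟩)
    let i : (⊤ : T.Opens) ≤ g ⁻¹ᵁ U := hg.ge
    obtain ⟨Φ, h1, h2⟩ := exists_eval φ hS.1 g hg
      fun k => T.presheaf.map (homOfLE (le_top : g ⁻¹ᵁ U ≤ ⊤)).op ((Scheme.ΓSpecIso _).inv (v' k))
    refine ⟨((T.presheaf.map (homOfLE i).op ≫ (Scheme.ΓSpecIso (CommRingCat.of (Pol R n))).hom).hom).comp Φ,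
      fun r => ?_, fun k => ?_⟩
    · rw [RingHom.comp_apply, h1, ← CommRingCat.comp_apply]
      show (((g.app U ≫ T.presheaf.map (homOfLE i).op) ≫ (Scheme.ΓSpecIso _).hom)) r = _
      rw [show g.app U ≫ T.presheaf.map (homOfLE i).op = g.appLE U ⊤ hg.ge from rfl, hgapp, Category.assoc,
        Iso.inv_hom_id, Category.comp_id]
      rfl
    · rw [RingHom.comp_apply, h2, ← CommRingCat.comp_apply, ← Category.assoc, ← Functor.map_comp,
        ← CommRingCat.comp_apply]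
      have e : (Scheme.ΓSpecIso (CommRingCat.of (Pol R n))).inv ≫
          T.presheaf.map ((homOfLE (le_top : g ⁻¹ᵁ U ≤ ⊤)).op ≫ (homOfLE i).op) ≫
            (Scheme.ΓSpecIso (CommRingCat.of (Pol R n))).hom = 𝟙 _ := by
        rw [show ((homOfLE (le_top : g ⁻¹ᵁ U ≤ ⊤)).op ≫ (homOfLE i).op) = 𝟙 _ from rfl,
          T.presheaf.map_id, Category.id_comp, Iso.inv_hom_id]
      exact congr($(e) (v' k))
  choose Φ hΦρ hΦx using hΦ
  let iso : ∀ j, CommRingCat.of (Pol R n) ≅ CommRingCat.of (HomogeneousLocalization.Away 𝒜 (x j)) := fun j =>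
    (RingEquiv.ofBijective _ (toAway_bijective 𝒜 ρ x hx hgen j (Φ j) (hΦρ j) (hΦx j))).toCommRingCatIso
  have hisoC : ∀ j, 𝒮.strZero U hU ≫ CommRingCat.ofHom (HomogeneousLocalization.fromZeroRingHom 𝒜 (Submonoid.powers (x j))) ≫
      (iso j).inv = CommRingCat.ofHom (C : R →+* Pol R n) := by
    intro j
    rw [← Category.assoc, Iso.comp_inv_eq]
    refine CommRingCat.hom_ext (RingHom.ext fun r => ?_)
    show base 𝒜 ρ x j r = toAway 𝒜 ρ x hx j (C r)
    exact (eval₂Hom_C (base 𝒜 ρ x j) (fun m : ULift.{u} (Fin n) => rat 𝒜 x hx j (j.succAbove m.down)) r).symm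
  have hisoX : ∀ j (m : ULift.{u} (Fin n)), (iso j).inv (rat 𝒜 x hx j (j.succAbove m.down)) = MvPolynomial.X m :=
    fun j m => by
    have e : (iso j).hom (MvPolynomial.X m) = rat 𝒜 x hx j (j.succAbove m.down) := eval₂Hom_X' _ _ m
    rw [← e, ← CommRingCat.comp_apply, Iso.hom_inv_id]
    rfl
  -- the charts
  let emb := RelProj.emb p chart U hU
  have hembU : emb.opensRange = p ⁻¹ᵁ U := MiscFlat6.emb_opensRange U hU
  let aw : ∀ j, Spec (CommRingCat.of (HomogeneousLocalization.Away 𝒜 (x j))) ⟶ Proj 𝒜 :=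
    fun j => Proj.awayι 𝒜 (x j) (hx j) one_pos
  let D : Fin (n + 1) → P.Opens := fun j => emb ''ᵁ Proj.basicOpen 𝒜 (x j)
  have hDle : ∀ j, D j ≤ p ⁻¹ᵁ U := fun j => (emb.image_le_opensRange _).trans hembU.le
  have hembD : ∀ j, emb ⁻¹ᵁ D j = Proj.basicOpen 𝒜 (x j) := fun j => emb.preimage_image_eq _
  let c : Fin (n + 1) → (T ⟶ P) := fun j => Spec.map (iso j).inv ≫ aw j ≫ emb
  have hembp : emb ≫ p = Proj.toSpecZero 𝒜 ≫ Spec.map (𝒮.strZero U hU) ≫ hU.fromSpec := by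
    show ((chart U hU).inv ≫ (p ⁻¹ᵁ U).ι) ≫ p = _
    rw [Category.assoc, Iso.inv_comp_eq]
    exact (hP.chart_over U hU).symm
  have hrange : ∀ j, (c j).opensRange = D j := fun j => by
    show (Spec.map (iso j).inv ≫ aw j ≫ emb).opensRange = emb ''ᵁ _
    rw [Scheme.Hom.opensRange_comp_of_isIso, Scheme.Hom.opensRange_comp, Proj.opensRange_awayι]
  have htop : ∀ j, (⊤ : T.Opens) ≤ c j ⁻¹ᵁ D j := fun j z _ => (hrange j).le ⟨z, rfl⟩
  -- the sections
  have hV : ∀ k, ∃ e : Γ(O1, p ⁻¹ᵁ U), (lam U hU).app (p ⁻¹ᵁ U) e =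
      GrTwistLib.fracSec (n := (1 : ℤ)) (U := emb ⁻¹ᵁ (p ⁻¹ᵁ U)) (hx k) (SetLike.GradedOne.one_mem (A := 𝒜)) (by simp)
        (fun y h => y.1.isPrime.ne_top ((Ideal.eq_top_iff_one _).mpr h)) :=
    fun k => (hO1.bijective U hU _ le_rfl).2 _
  choose e he using hV
  have hval : ∀ k (W : P.Opens) (h : W ≤ p ⁻¹ᵁ U) (y : emb ⁻¹ᵁ W),
      GrTwistLib.val ((lam U hU).app W (AmpleLib.res O1 h (e k))) y = Localization.mk (x k) 1 := fun k W h y => by
    rw [show (lam U hU).app W (AmpleLib.res O1 h (e k)) =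
      ((Scheme.Modules.pushforward emb).obj (GrTwist.twist 𝒜 1)).presheaf.map (homOfLE h).op
        ((lam U hU).app (p ⁻¹ᵁ U) (e k)) from QCohLib.app_map (lam U hU) (homOfLE h) (e k), he]
    rfl
  have hgenOn : ∀ j, AmpleLib.GenOn O1 (AmpleLib.res O1 (hDle j) (e j)) := fun j V hV => by
    rw [AmpleLib.res_res]
    let gj : GrTwistLib.Unit' 𝒜 (1 : ℤ) (Proj.basicOpen 𝒜 (x j)) :=
      ⟨1, 0, x j, 1, hx j, SetLike.GradedOne.one_mem, by simp, fun y => y.2,
        fun y h => y.1.isPrime.ne_top ((Ideal.eq_top_iff_one _).mpr h)⟩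
    have hV' : emb ⁻¹ᵁ V ≤ Proj.basicOpen 𝒜 (x j) := (emb.preimage_mono hV).trans (hembD j).le
    haveI := Scheme.Hom.isIso_app emb V ((hV.trans (emb.image_le_opensRange _)))
    have hb : Function.Bijective fun r : Γ(P, V) =>
        emb.app V r • AmpleLib.res (GrTwist.twist 𝒜 1) hV' gj.sec :=
      (gj.genOn _ hV').comp (ConcreteCategory.bijective_of_isIso (emb.app V))
    refine ((hO1.bijective U hU V (hV.trans (hDle j))).of_comp_iff' _).1 ?_
    refine (congrArg Function.Bijective (funext fun r => ?_)).mpr hb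
    refine (QCohLib.app_smul (lam U hU) V r _).trans ?_
    refine congrArg (fun s : Γ(GrTwist.twist 𝒜 1, emb ⁻¹ᵁ V) => emb.app V r • s) ?_
    exact GrTwistLib.sec_ext fun y => hval j V _ y
  have hcoord : ∀ j (m : ULift.{u} (Fin n)), ∃ t : Γ(P, D j),
      AmpleLib.res O1 (hDle j) (e (j.succAbove m.down)) = t • AmpleLib.res O1 (hDle j) (e j) ∧
      (c j).appLE (D j) ⊤ (htop j) t = (Scheme.ΓSpecIso (CommRingCat.of (Pol R n))).inv (MvPolynomial.X m) := by
    intro j m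
    let k := j.succAbove m.down
    let a := rat 𝒜 x hx j k
    haveI := Scheme.Hom.isIso_app emb (D j) (emb.image_le_opensRange _)
    obtain ⟨t, ht⟩ := (ConcreteCategory.bijective_of_isIso (emb.app (D j))).2
      ((Proj 𝒜).presheaf.map (homOfLE (hembD j).le).op (Proj.awayToSection 𝒜 (x j) a))
    refine ⟨t, (hO1.bijective U hU (D j) (hDle j)).1 ?_, ?_⟩
    · refine Eq.trans ?_ (QCohLib.app_smul (lam U hU) (D j) t _).symm
      refine GrTwistLib.sec_ext fun y => ?_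
      refine (hval _ _ _ y).trans ?_
      show _ = GrTwistLib.val ((emb.app (D j) t) •
        (show Γ(GrTwist.twist 𝒜 1, emb ⁻¹ᵁ D j) from (lam U hU).app (D j) (AmpleLib.res O1 (hDle j) (e j)))) y
      rw [GrTwistLib.val_smul, ht, hval j (D j) _ y]
      have hyj : x j ∉ y.1.asHomogeneousIdeal := (hembD j).le y.2
      have hy : (Submonoid.powers (x j)) ≤ y.1.asHomogeneousIdeal.toIdeal.primeCompl :=
        Submonoid.powers_le.mpr hyj
      show _ = (HomogeneousLocalization.mapId 𝒜 hy a).val * _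
      rw [show HomogeneousLocalization.mapId 𝒜 hy a = HomogeneousLocalization.mk
          ⟨1 • 1, ⟨x k, by simpa using hx k⟩, ⟨x j ^ 1, SetLike.pow_mem_graded 1 (hx j)⟩, hy ⟨1, rfl⟩⟩ from rfl,
        HomogeneousLocalization.val_mk, Localization.mk_mul, Localization.mk_eq_mk_iff, Localization.r_iff_exists]
      exact ⟨1, by simp [mul_comm, k]⟩
    · have hV := Proj.isAffineOpen_basicOpen 𝒜 (x j) (hx j) one_pos
      have h1 : hV.fromSpec = Spec.map (Proj.awayToSection 𝒜 (x j)) ≫ aw j := by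
        rw [← cancel_epi hV.isoSpec.hom, IsAffineOpen.isoSpec_hom_fromSpec, IsAffineOpen.isoSpec_hom, ← Category.assoc]
        show _ = Proj.basicOpenToSpec _ (x j) ≫ aw j
        rw [show aw j = (Proj.basicOpenIsoSpec 𝒜 (x j) (hx j) one_pos).inv ≫ (Proj.basicOpen 𝒜 (x j)).ι from rfl,
          ← Proj.basicOpenIsoSpec_hom _ (x j) (hx j) one_pos, Iso.hom_inv_id_assoc]
      let isoA := Proj.basicOpenIsoAway 𝒜 (x j) (hx j) one_pos
      have h2 : aw j = Spec.map isoA.inv ≫ hV.fromSpec := by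
        rw [h1, ← Category.assoc, ← Spec.map_comp, show Proj.awayToSection 𝒜 (x j) = isoA.hom from rfl,
          Iso.hom_inv_id, Spec.map_id, Category.id_comp]
      have h3 : c j = Spec.map (isoA.inv ≫ (iso j).inv) ≫ hV.fromSpec ≫ emb := by
        show Spec.map (iso j).inv ≫ aw j ≫ emb = _
        rw [h2, Spec.map_comp]
        simp only [Category.assoc]
      simp only [h3]
      rw [← Scheme.Hom.appLE_comp_appLE _ _ (D j) ⊤ ⊤
          (le_of_eq_of_le rfl fun z _ => by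
            show emb (hV.fromSpec z) ∈ D j
            exact ⟨_, hV.range_fromSpec.le ⟨z, rfl⟩, rfl⟩) le_top,
        ← Scheme.Hom.appLE_comp_appLE hV.fromSpec emb (D j) (Proj.basicOpen 𝒜 (x j)) ⊤ (hembD j).ge
          hV.fromSpec_preimage_self.ge, fromSpec_appLE_self hV, appLE_top]
      have h4 : emb.appLE (D j) (Proj.basicOpen 𝒜 (x j)) (hembD j).ge t = Proj.awayToSection 𝒜 (x j) a := by
        rw [Scheme.Hom.appLE, CommRingCat.comp_apply, ht, ← CommRingCat.comp_apply, ← Functor.map_comp]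
        exact congr($((Proj 𝒜).presheaf.map_id _) _)
      simp only [CommRingCat.comp_apply]
      erw [h4]
      rw [← CommRingCat.comp_apply, ← CommRingCat.comp_apply]
      have h5 : Proj.awayToSection 𝒜 (x j) ≫ (Scheme.ΓSpecIso _).inv ≫ (Spec.map (isoA.inv ≫ (iso j).inv)).app ⊤ =
          (iso j).inv ≫ (Scheme.ΓSpecIso _).inv := by
        refine (congrArg (Proj.awayToSection 𝒜 (x j) ≫ ·)
          (Scheme.ΓSpecIso_inv_naturality (isoA.inv ≫ (iso j).inv)).symm).trans ?_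
        rw [show Proj.awayToSection 𝒜 (x j) = isoA.hom from rfl]
        simp only [Category.assoc, Iso.hom_inv_id_assoc]
      refine (congr($(h5) a)).trans ?_
      rw [CommRingCat.comp_apply]
      exact congrArg (Scheme.ΓSpecIso (CommRingCat.of (Pol R n))).inv.hom (hisoX j m)
  refine ⟨⟨U, hU, e, D, hDle, c, fun j => inferInstance, hrange, fun z hz => ?_, fun j => ?_, hgenOn, htop, hcoord,
    fun j m => ?_⟩, hη⟩
  · obtain ⟨y, rfl⟩ := hembU.ge (show z ∈ p ⁻¹ᵁ U from hz)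
    obtain ⟨f, hf, hyf⟩ := GrTwistLib.exists_basicOpen_of_genDegOne 𝒜 (SymGenLib.isGenDegOne hS U hU) y
    by_contra! hno
    have hk : ∀ k, x k ∈ y.asHomogeneousIdeal := fun k => by_contra fun h => hno k ⟨y, h, rfl⟩
    obtain ⟨q, rfl⟩ := hgen f
    have key : ∀ q, (DirectSum.decompose 𝒜
        (eval₂Hom ((algebraMap (𝒜 0) (𝒮.presheaf.obj (op U))).comp ρ) x q) 1 : 𝒮.presheaf.obj (op U)) ∈
          y.asHomogeneousIdeal := fun q => by
      induction q using MvPolynomial.induction_on with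
      | C r =>
        rw [eval₂Hom_C]
        show (DirectSum.decompose 𝒜 (ρ r : 𝒮.presheaf.obj (op U)) 1 : 𝒮.presheaf.obj (op U)) ∈ _
        rw [DirectSum.decompose_of_mem_ne 𝒜 (i := 0) (ρ r).2 zero_ne_one]
        exact Ideal.zero_mem _
      | add q q' h h' =>
        rw [map_add, DirectSum.decompose_add, DirectSum.add_apply, AddMemClass.coe_add]
        exact Ideal.add_mem _ h h'
      | mul_X q k _ =>
        refine y.asHomogeneousIdeal.isHomogeneous 1 ?_
        rw [map_mul, eval₂Hom_X']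
        exact Ideal.mul_mem_left _ _ (hk k)
    exact hyf (DirectSum.decompose_of_mem_same 𝒜 hf ▸ key q)
  · show (Spec.map (iso j).inv ≫ aw j ≫ emb) ≫ p = _
    simp only [Category.assoc, hembp]
    rw [Proj.awayι_toSpecZero_assoc, ← Spec.map_comp_assoc, ← Spec.map_comp_assoc]
    rw [← hisoC j]
  · show Spec.map (iso j).inv ⁻¹ᵁ (aw j ⁻¹ᵁ (emb ⁻¹ᵁ D (j.succAbove m.down))) = _
    rw [hembD, show aw j ⁻¹ᵁ Proj.basicOpen 𝒜 (x (j.succAbove m.down)) = _ from
      Proj.awayι_preimage_basicOpen 𝒜 (hx j) one_pos (hx (j.succAbove m.down)) one_pos,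
      show HomogeneousLocalization.Away.isLocalizationElem (hx j) (hx (j.succAbove m.down)) =
        rat 𝒜 x hx j (j.succAbove m.down) from HomogeneousLocalization.val_injective _ (by
          rw [val_rat, HomogeneousLocalization.Away.val_mk]
          exact congrArg₂ Localization.mk (pow_one _) (Subtype.ext (pow_one _))),
      ← hisoX j m]
    rfl

end CycPBLib

end
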