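import Mathlib
import Groth.Agent.CycPBLib.Triv
import Groth.Agent.TwistLib.ProjSymExt
import Groth.Agent.CohCmpLib.PuSec

/-!
# Morphisms out of the pullback of a module trivialised on an open
-/

set_option autoImplicit false
set_option linter.style.haveILetI false
set_option linter.unusedSectionVars false

universe u

open AlgebraicGeometry CategoryTheory CategoryTheory.Limits Opposite TopologicalSpace
open AmpleLib (res GenOn GenAt)
open KFlatLib (pb puSec)

noncomputable section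

namespace CycPBLib

variable {X T : Scheme.{u}} {E : X.Modules} {N : ℕ} {U : X.Opens}

/-- Restricted to the part inside `U`, a section is a combination of the basis. -/
theorem sum_crd (φ : E.restrict U.ι ≅ FlatMod.freeMod (↑U) N) (W : X.Opens) (e : Γ(E, W))
    (h : inU U W ≤ U) :
    res E (inU_le W) e = ∑ k, crd φ W e k • res E h (bas φ k) := by
  let t' : Γ(E.restrict U.ι, U.ι ⁻¹ᵁ W) := res E (inU_le W) e
  have hb : ∀ k, res E h (bas φ k) =
      (show Γ(E, inU U W) from φ.inv.app (U.ι ⁻¹ᵁ W) (FittLib.stdSec _ N _ k)) := fun k => by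
    have hle : inU U W ≤ inU U U := fun x hx => le_inU (U := U) le_rfl le_rfl (h hx)
    have hle' : U.ι ⁻¹ᵁ W ≤ U.ι ⁻¹ᵁ U := fun x _ => x.2
    have h1 : res E h (bas φ k) = res E hle (res E (inU_le U) (bas φ k)) := (AmpleLib.res_res E _ _ _).symm
    rw [h1, show res E (inU_le U) (bas φ k) = _ from res_bas φ k]
    refine (QCohLib.app_map φ.inv (homOfLE hle') _).symm.trans ?_
    refine congrArg (fun s => φ.inv.app (U.ι ⁻¹ᵁ W) s) ?_
    refine (QCohLib.app_map (Sigma.ι (fun _ : Fin N => Coh.structureModule (U : Scheme.{u})) k) (homOfLE hle') _).symm.trans ?_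
    exact congrArg _ (map_one (((U : Scheme.{u}).presheaf.map (homOfLE hle').op).hom))
  simp only [hb]
  have h0 := congrArg (fun ψ : E.restrict U.ι ⟶ E.restrict U.ι => ψ.app (U.ι ⁻¹ᵁ W) t') φ.hom_inv_id
  refine h0.symm.trans ((congrArg (φ.inv.app _) (FittLib.sum_coord _)).trans ?_)
  refine (map_sum (φ.inv.app (U.ι ⁻¹ᵁ W)).hom _ _).trans (Finset.sum_congr rfl fun k _ => ?_)
  exact (QCohLib.app_smul φ.inv _ _ _).trans (FittLib.smul_restrict E U _ _ _)

variable (φ : E.restrict U.ι ≅ FlatMod.freeMod (↑U) N) (g : T ⟶ X) {L : T.Modules}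

/-- Morphisms out of the pullback are determined by the basis. -/
theorem hom_ext_bas (hg : g ⁻¹ᵁ U = ⊤) (a b : pb g E ⟶ L)
    (h : ∀ k, a.app (g ⁻¹ᵁ U) (puSec g (bas φ k)) = b.app (g ⁻¹ᵁ U) (puSec g (bas φ k))) : a = b := by
  refine ((Scheme.Modules.pullbackPushforwardAdjunction g).homEquiv _ _).injective ?_
  refine Scheme.Modules.hom_ext _ _ fun W => ConcreteCategory.hom_ext _ _ fun e => ?_
  show a.app (g ⁻¹ᵁ W) (puSec g e) = b.app (g ⁻¹ᵁ W) (puSec g e)
  have hWU : inU U W ≤ U := by rintro x ⟨y, -, rfl⟩; exact y.2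
  have hle : g ⁻¹ᵁ W ≤ g ⁻¹ᵁ inU U W := fun x hx =>
    le_inU (V := W ⊓ U) inf_le_left inf_le_right ⟨hx, hg.ge (Opens.mem_top x)⟩
  have e0 : ∀ s : Γ(L, g ⁻¹ᵁ W), res L hle (res L (g.preimage_mono (inU_le W)) s) = s := fun s => by
    rw [AmpleLib.res_res, AmpleLib.res_refl]
  have key : ∀ c : pb g E ⟶ L, res L (g.preimage_mono (inU_le W)) (c.app (g ⁻¹ᵁ W) (puSec g e)) =
      ∑ k, g.app (inU U W) (crd φ W e k) •
        res L (g.preimage_mono hWU) (c.app (g ⁻¹ᵁ U) (puSec g (bas φ k))) := fun c => by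
    refine (QCohLib.app_map c (homOfLE (g.preimage_mono (inU_le W))) (puSec g e)).symm.trans ?_
    change c.app (g ⁻¹ᵁ inU U W) (res (pb g E) (g.preimage_mono (inU_le W)) (puSec g e)) = _
    rw [← TwistLib.puSec_res g (inU_le W), sum_crd φ W e hWU]
    refine (congrArg (c.app (g ⁻¹ᵁ inU U W))
      (map_sum (((Scheme.Modules.pullbackPushforwardAdjunction g).unit.app E).app (inU U W)).hom _ _)).trans ?_
    refine (map_sum (c.app (g ⁻¹ᵁ inU U W)).hom _ _).trans (Finset.sum_congr rfl fun k _ => ?_)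
    show c.app _ (puSec g (crd φ W e k • res E hWU (bas φ k))) = _
    rw [TwistLib.puSec_smul, QCohLib.app_smul, TwistLib.puSec_res]
    exact congrArg (g.app (inU U W) (crd φ W e k) • ·)
      (QCohLib.app_map c (homOfLE (g.preimage_mono hWU)) _)
  have := (key a).trans ((Finset.sum_congr rfl fun k _ => by rw [h k]).trans (key b).symm)
  have := congrArg (res L hle) this
  rwa [e0, e0] at this

/-- A morphism out of the pullback with prescribed values on the basis. -/
theorem exists_hom_bas (hg : g ⁻¹ᵁ U = ⊤) (v : Fin N → Γ(L, g ⁻¹ᵁ U)) :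
    ∃ s : pb g E ⟶ L, ∀ k, s.app (g ⁻¹ᵁ U) (puSec g (bas φ k)) = v k := by
  classical
  have hle : ∀ W : X.Opens, g ⁻¹ᵁ W ≤ g ⁻¹ᵁ inU U W := fun W x hx =>
    le_inU (V := W ⊓ U) inf_le_left inf_le_right ⟨hx, hg.ge (Opens.mem_top x)⟩
  have hleU : ∀ W : X.Opens, g ⁻¹ᵁ W ≤ g ⁻¹ᵁ U := fun W => le_top.trans hg.ge
  let val : ∀ W : X.Opens, Γ(E, W) → Γ(L, g ⁻¹ᵁ W) := fun W e =>
    ∑ k, g.appLE _ _ (hle W) (crd φ W e k) • res L (hleU W) (v k)
  have hadd : ∀ (W : X.Opens) (a b : Γ(E, W)), val W (a + b) = val W a + val W b := fun W a b => by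
    have hmap : ∀ k, crd φ W (a + b) k = crd φ W a k + crd φ W b k := fun k => (crdHom φ W k).map_add a b
    simp only [val, hmap, map_add, add_smul, Finset.sum_add_distrib]
  have hnat : ∀ (W W' : X.Opens) (h : W' ≤ W) (e : Γ(E, W)),
      val W' (E.presheaf.map (homOfLE h).op e) = res L (g.preimage_mono h) (val W e) := by
    intro W W' h e
    simp only [val, res, map_sum, crd_res φ h]
    refine Finset.sum_congr rfl fun k _ => ?_
    rw [QCohLib.map_smul' L, QCohLib.map_map' L]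
    congr 1
    rw [← CommRingCat.comp_apply, Scheme.Hom.map_appLE, ← CommRingCat.comp_apply, Scheme.Hom.appLE_map]
  have hsmul : ∀ (W : X.Opens) (r : Γ(X, W)) (e : Γ(E, W)), val W (r • e) = g.app W r • val W e := by
    intro W r e
    simp only [val, crd_smul φ W r e, map_mul, Finset.smul_sum, smul_smul]
    refine Finset.sum_congr rfl fun k _ => ?_
    congr 2
    rw [← CommRingCat.comp_apply, Scheme.Hom.map_appLE, Scheme.Hom.appLE_eq_app]
  let ψ : E ⟶ (Scheme.Modules.pushforward g).obj L :=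
    ⟨PresheafOfModules.homMk
      { app := fun W => AddCommGrpCat.ofHom (AddMonoidHom.mk' (val W.unop) fun a b => hadd W.unop a b)
        naturality := fun W W' i => by
          ext e
          exact hnat W.unop W'.unop i.unop.le e }
      fun W r e => hsmul W.unop r e⟩
  refine ⟨((Scheme.Modules.pullbackPushforwardAdjunction g).homEquiv _ _).symm ψ, fun k => ?_⟩
  have h1 := ((Scheme.Modules.pullbackPushforwardAdjunction g).homEquiv_unit _ _
    (((Scheme.Modules.pullbackPushforwardAdjunction g).homEquiv _ _).symm ψ)).symm.trans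
      (Equiv.apply_symm_apply _ ψ)
  refine (congr($(h1).app U (bas φ k))).trans ?_
  show val U (bas φ k) = v k
  simp only [val, crd_bas]
  rw [Finset.sum_eq_single k (fun l _ hl => by rw [if_neg (Ne.symm hl), map_zero, zero_smul])
    (fun h => absurd (Finset.mem_univ k) h), if_pos rfl, map_one, one_smul, AmpleLib.res_refl]

section Gen

variable {M : T.Modules} {W : T.Opens} (σ : Γ(M, W))

/-- The locus in `W` where a section generates is open. -/
theorem isOpen_genAt' (hM : PicF.IsInvertible M) : IsOpen {z : T | ∃ h : z ∈ W, GenAt M σ h} := by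
  rw [isOpen_iff_forall_mem_open]
  rintro z ⟨hz, hgen⟩
  obtain ⟨V, e, hzV, he⟩ := TwistLib.exists_genOn hM z
  obtain ⟨r, hr⟩ := (he (V ⊓ W) inf_le_left).2 (res M inf_le_right σ)
  dsimp only at hr
  have key : ∀ (y : T) (hy : y ∈ V ⊓ W), GenAt M σ (show y ∈ W from hy.2) ↔ y ∈ T.basicOpen r := fun y hy => by
    rw [← AmpleLib.genAt_res (inf_le_right : V ⊓ W ≤ W) σ hy, ← hr]
    exact AmpleLib.genAt_smul_iff r _ hy ((he.res inf_le_left).genAt hy)
  refine ⟨T.basicOpen r, fun y hy => ?_, (T.basicOpen r).2, (key z ⟨hzV, hz⟩).1 hgen⟩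
  exact ⟨(T.basicOpen_le r hy).2, (key y (T.basicOpen_le r hy)).2 hy⟩

/-- The open in `W` where a section generates. -/
def genLocus' (hM : PicF.IsInvertible M) : T.Opens := ⟨_, isOpen_genAt' σ hM⟩

theorem genLocus'_le (hM : PicF.IsInvertible M) : genLocus' σ hM ≤ W := fun _ h => h.1

theorem genLocus'_genOn (hM : PicF.IsInvertible M) : GenOn M (res M (genLocus'_le σ hM) σ) :=
  TwistLib.genOn_of_genAt fun _ hx => (AmpleLib.genAt_res _ σ hx).mpr hx.2

end Gen

/-- A pulled back section generates exactly over the generating locus. -/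
theorem genAt_puSec_iff' {P : Scheme.{u}} (f : T ⟶ P) {M : P.Modules} (hM : PicF.IsInvertible M)
    {W : P.Opens} (σ : Γ(M, W)) {x : T} (hx : f x ∈ W) :
    GenAt (pb f M) (W := f ⁻¹ᵁ W) (puSec f σ) hx ↔ GenAt M σ hx := by
  refine ⟨fun h => ?_, fun h => TwistLib.GenAt.puSec f h⟩
  obtain ⟨V, e, hxV, he⟩ := TwistLib.exists_genOn hM (f x)
  obtain ⟨c, hc⟩ := (he (V ⊓ W) inf_le_left).2 (res M inf_le_right σ)
  dsimp only at hc
  have hx' : f x ∈ V ⊓ W := ⟨hxV, hx⟩
  have hE := (he.res (inf_le_left : V ⊓ W ≤ V)).genAt hx'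
  rw [← AmpleLib.genAt_res (f.preimage_mono (inf_le_right : V ⊓ W ≤ W)) (puSec f σ) (show x ∈ f ⁻¹ᵁ (V ⊓ W) from hx'),
    ← TwistLib.puSec_res f (inf_le_right : V ⊓ W ≤ W), ← hc, TwistLib.puSec_smul,
    AmpleLib.genAt_smul_iff _ _ (show x ∈ f ⁻¹ᵁ (V ⊓ W) from hx') (TwistLib.GenAt.puSec f hE),
    ← Scheme.preimage_basicOpen] at h
  rw [← AmpleLib.genAt_res (inf_le_right : V ⊓ W ≤ W) σ hx', ← hc,
    AmpleLib.genAt_smul_iff c _ hx' hE]
  exact h

/-- An iso to the structure sheaf sending a generator to `1`. -/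
theorem exists_iso_one {M : T.Modules} (σ : Γ(M, ⊤)) (h : GenOn M σ) :
    ∃ e : M ≅ Coh.structureModule T, ∀ (V : T.Opens) (r : Γ(T, V)),
      e.hom.app V (r • res M le_top σ) = r := by
  haveI := AmpleLib.isIso_unitHom σ h
  refine ⟨(asIso (QCohLib.unitHom M σ)).symm, fun V r => ?_⟩
  refine (congrArg _ (QCohLib.unitHom_app M σ V r).symm).trans ?_
  exact congr($((asIso (QCohLib.unitHom M σ)).hom_inv_id).app V r)

end CycPBLib

end
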