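import Mathlib
import Groth.Prelude.Def_KRR
import Groth.Agent.CycPBLib.Charts
import Groth.Agent.CycPBLib.UnivHom
import Groth.Agent.CohCmpLib.LineBundle
import Groth.Agent.LocSuppLib.LocFree

/-!
# The standard charts of a projective bundle given by its universal property
-/

set_option autoImplicit false
set_option linter.style.haveILetI false
set_option linter.unusedSectionVars false

universe u

open AlgebraicGeometry CategoryTheory CategoryTheory.Limits Opposite TopologicalSpace MvPolynomial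
open AmpleLib (res GenOn GenAt)
open KFlatLib (pb puSec)

noncomputable section

namespace CycPBLib

variable {X P T : Scheme.{u}} {p : P ⟶ X} {O1 : P.Modules} {E : X.Modules} {N : ℕ} {U : X.Opens}

/-- `f` pulls the sections `e` back to the functions `v`. -/
def Cond (e : Fin N → Γ(O1, p ⁻¹ᵁ U)) (f : T ⟶ P) (v : Fin N → Γ(T, ⊤)) : Prop :=
  ∃ i : pb f O1 ≅ Coh.structureModule T, ∀ k,
    i.hom.app (f ⁻¹ᵁ (p ⁻¹ᵁ U)) (puSec f (e k)) = T.presheaf.map (homOfLE le_top).op (v k)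

theorem comp_apply_puSec (q : pb p E ⟶ O1) {f : T ⟶ P} {g : T ⟶ X} (hf : f ≫ p = g)
    {L : T.Modules} (i : pb f O1 ⟶ L) {W : X.Opens} (m : Γ(E, W)) :
    ((Scheme.Modules.pullbackCongr hf).inv.app E ≫ (Scheme.Modules.pullbackComp f p).inv.app E ≫
        (Scheme.Modules.pullback f).map q ≫ i).app (g ⁻¹ᵁ W) (puSec g m) =
      L.presheaf.map (eqToHom (by rw [← hf]; rfl)).op (i.app (f ⁻¹ᵁ (p ⁻¹ᵁ W)) (puSec f (q.app (p ⁻¹ᵁ W) (puSec p m)))) := by
  subst hf
  have h1 : ((Scheme.Modules.pullbackComp f p).inv.app E).app ((f ≫ p) ⁻¹ᵁ W) (puSec (f ≫ p) m) =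
      puSec f (puSec p m) := by
    rw [← CohCmpLib.pullbackComp_puSec f p E m]
    exact congr($((Scheme.Modules.pullbackComp f p).hom_inv_id_app E).app (f ⁻¹ᵁ (p ⁻¹ᵁ W)) (puSec f (puSec p m)))
  refine Eq.trans ?_ (congr($(L.presheaf.map_id _) _)).symm
  show i.app (f ⁻¹ᵁ (p ⁻¹ᵁ W)) (((Scheme.Modules.pullback f).map q).app _
    (((Scheme.Modules.pullbackComp f p).inv.app E).app ((f ≫ p) ⁻¹ᵁ W) (puSec (f ≫ p) m))) = _
  rw [h1]
  exact congrArg _ (KFlatLib.puSec_natural f q (puSec p m))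

variable (φ : E.restrict U.ι ≅ FlatMod.freeMod (↑U) N) {q : pb p E ⟶ O1}

/-- The sections of `O(1)` given by the basis. -/
def eSec (q : pb p E ⟶ O1) (k : Fin N) : Γ(O1, p ⁻¹ᵁ U) := q.app (p ⁻¹ᵁ U) (puSec p (bas φ k))

theorem existsUnique_lift (hP : KRR.IsProjBundle p E O1 q) (g : T ⟶ X) (hg : g ⁻¹ᵁ U = ⊤)
    (v : Fin N → Γ(T, ⊤)) (j : Fin N) (hv : v j = 1) :
    ∃! f : T ⟶ P, f ≫ p = g ∧ Cond (eSec φ q) f v := by
  obtain ⟨s, hs⟩ := exists_hom_bas φ g (L := Coh.structureModule T) hg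
    fun k => T.presheaf.map (homOfLE (le_top : g ⁻¹ᵁ U ≤ ⊤)).op (v k)
  haveI : Epi s := ⟨fun {Z} a b h => by
    refine Scheme.Modules.hom_ext _ _ fun W => ConcreteCategory.hom_ext _ _ fun (r : Γ(T, W)) => ?_
    have h1 : ∀ c : Coh.structureModule T ⟶ Z, c.app W r =
        r • res Z (le_top.trans hg.ge) ((s ≫ c).app (g ⁻¹ᵁ U) (puSec g (bas φ j))) := fun c => by
      rw [show (s ≫ c).app (g ⁻¹ᵁ U) (puSec g (bas φ j)) =
        c.app (g ⁻¹ᵁ U) (s.app (g ⁻¹ᵁ U) (puSec g (bas φ j))) from rfl, hs, hv, map_one]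
      refine Eq.trans ?_ (congrArg (r • ·) (QCohLib.app_map c (homOfLE (le_top.trans hg.ge)) (1 : Γ(T, g ⁻¹ᵁ U))))
      refine Eq.trans ?_ (QCohLib.app_smul c W r _)
      refine congrArg _ ?_
      refine ((congrArg (r * ·) (map_one (T.presheaf.map (homOfLE (show W ≤ g ⁻¹ᵁ U from le_top.trans hg.ge)).op).hom)).trans (mul_one r)).symm
    rw [h1 a, h1 b, h]⟩
  obtain ⟨f, ⟨hf, i, hi⟩, huniq⟩ := hP.univ T g (Coh.structureModule T) (CohCmpLib.rank_one_structureModule T) s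
    inferInstance
  have conv : ∀ (f : T ⟶ P) (hf : f ≫ p = g) (i : pb f O1 ≅ Coh.structureModule T),
      ((Scheme.Modules.pullbackCongr hf).inv.app E ≫ (Scheme.Modules.pullbackComp f p).inv.app E ≫
          (Scheme.Modules.pullback f).map q ≫ i.hom = s) ↔
      ∀ k, i.hom.app (f ⁻¹ᵁ (p ⁻¹ᵁ U)) (puSec f (eSec φ q k)) = T.presheaf.map (homOfLE le_top).op (v k) := by
    intro f hf i
    subst hf
    constructor
    · intro h k
      have h1 := comp_apply_puSec q (rfl : f ≫ p = f ≫ p) i.hom (bas φ k)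
      rw [h, hs] at h1
      exact (h1.trans (congr($((Coh.structureModule T).presheaf.map_id _) _))).symm
    · intro h
      refine hom_ext_bas φ _ hg _ _ fun k => ?_
      rw [hs, comp_apply_puSec]
      refine (congr($((Coh.structureModule T).presheaf.map_id _) _)).trans ?_
      exact h k
  refine ⟨f, ⟨hf, i, (conv f hf i).1 hi⟩, ?_⟩
  rintro f' ⟨hf', i', hi'⟩
  exact huniq f' ⟨hf', i', (conv f' hf' i').2 hi'⟩

section

variable {e : Fin N → Γ(O1, p ⁻¹ᵁ U)} {f : T ⟶ P} {v : Fin N → Γ(T, ⊤)} {j : Fin N}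

theorem le_genLocus'_of_cond (hinv : PicF.IsInvertible O1) (h : Cond e f v) (hv : v j = 1) :
    f ⁻¹ᵁ (p ⁻¹ᵁ U) ≤ f ⁻¹ᵁ genLocus' (e j) hinv := by
  intro x hx
  obtain ⟨i, hi⟩ := h
  refine ⟨hx, ?_⟩
  rw [← genAt_puSec_iff' f hinv (e j) (x := x) hx, ← TwistLib.genAt_app_iso i _ (x := x) hx, hi, hv, map_one]
  exact (AmpleLib.one_genOn (f ⁻¹ᵁ (p ⁻¹ᵁ U))).genAt hx

theorem val_of_cond (h : Cond e f v) (hv : v j = 1) {D : P.Opens} (hD : D ≤ p ⁻¹ᵁ U) {t : Γ(P, D)} {k : Fin N}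
    (ht : res O1 hD (e k) = t • res O1 hD (e j)) (hT : (⊤ : T.Opens) ≤ f ⁻¹ᵁ D) :
    f.appLE D ⊤ hT t = v k := by
  obtain ⟨i, hi⟩ := h
  have key : ∀ l, i.hom.app (f ⁻¹ᵁ D) (puSec f (res O1 hD (e l))) = T.presheaf.map (homOfLE le_top).op (v l) := fun l => by
    rw [TwistLib.puSec_res]
    refine (QCohLib.app_map i.hom (homOfLE (f.preimage_mono hD)) _).trans ?_
    rw [hi]
    exact congr($((T.presheaf.map_comp (homOfLE (le_top : f ⁻¹ᵁ (p ⁻¹ᵁ U) ≤ ⊤)).op
      (homOfLE (f.preimage_mono hD)).op)) (v l)).symm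
  have h1 := key k
  rw [ht, TwistLib.puSec_smul, QCohLib.app_smul, key j, hv, map_one] at h1
  have h2 : (f.app D t : Γ(T, f ⁻¹ᵁ D)) = T.presheaf.map (homOfLE le_top).op (v k) := (mul_one _).symm.trans h1
  rw [Scheme.Hom.appLE, CommRingCat.comp_apply, h2, ← CommRingCat.comp_apply, ← T.presheaf.map_comp]
  exact congr($(T.presheaf.map_id _) (v k))

theorem cond_of {D : P.Opens} (hD : D ≤ p ⁻¹ᵁ U) (hgen : GenOn O1 (res O1 hD (e j)))
    {t : Fin N → Γ(P, D)} (ht : ∀ k, res O1 hD (e k) = t k • res O1 hD (e j))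
    (hT : (⊤ : T.Opens) ≤ f ⁻¹ᵁ D) (hv : ∀ k, f.appLE D ⊤ hT (t k) = v k) :
    Cond e f v := by
  let σ : Γ(pb f O1, ⊤) := res _ hT (puSec f (res O1 hD (e j)))
  have hσ : GenOn (pb f O1) σ := TwistLib.genOn_of_genAt fun x hx => by
    rw [AmpleLib.genAt_res hT _ hx]
    exact TwistLib.GenAt.puSec f (hgen.genAt (hT hx))
  obtain ⟨i, hi⟩ := exists_iso_one σ hσ
  refine ⟨i, fun k => ?_⟩
  have hA : f ⁻¹ᵁ (p ⁻¹ᵁ U) ≤ f ⁻¹ᵁ D := le_top.trans hT
  have h1 : puSec f (e k) = res _ hA (puSec f (res O1 hD (e k))) := by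
    rw [TwistLib.puSec_res, AmpleLib.res_res, AmpleLib.res_refl]
  have h2 : res (pb f O1) hA (puSec f (res O1 hD (e j))) = res _ le_top σ := (AmpleLib.res_res _ _ _ _).symm
  rw [h1, ht, TwistLib.puSec_smul, AmpleLib.res_smul, h2, hi, ← hv k, Scheme.Hom.appLE, CommRingCat.comp_apply,
    ← CommRingCat.comp_apply (T.presheaf.map _) (T.presheaf.map _), ← T.presheaf.map_comp]
  rfl

end

theorem exists_genAt_eSec [hq : Epi q] (hinv : PicF.IsInvertible O1) {z : P} (hz : p z ∈ U) :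
    ∃ k, GenAt O1 (eSec φ q k) (show z ∈ p ⁻¹ᵁ U from hz) := by
  classical
  by_contra! hno
  let T := Spec (P.residueField z)
  let x : T ⟶ P := P.fromSpecResidueField z
  have hx : ∀ s : T, x s = z := fun s => P.fromSpecResidueField_apply z s
  obtain ⟨V, a, hzV, ha⟩ := TwistLib.exists_genOn hinv z
  have hA : (⊤ : T.Opens) ≤ x ⁻¹ᵁ V := fun s _ => show x s ∈ V by rw [hx]; exact hzV
  let σ : Γ(pb x O1, ⊤) := res _ hA (puSec x a)
  have hσ : GenOn (pb x O1) σ := TwistLib.genOn_of_genAt fun s hs => by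
    rw [AmpleLib.genAt_res hA _ hs]
    exact TwistLib.GenAt.puSec x (ha.genAt (hA hs))
  obtain ⟨i, -⟩ := exists_iso_one σ hσ
  let g := x ≫ p
  have hg : g ⁻¹ᵁ U = ⊤ := eq_top_iff.2 fun s _ => show p (x s) ∈ U by rw [hx]; exact hz
  let c : pb g E ⟶ Coh.structureModule T :=
    (Scheme.Modules.pullbackCongr (rfl : x ≫ p = g)).inv.app E ≫ (Scheme.Modules.pullbackComp x p).inv.app E ≫
      (Scheme.Modules.pullback x).map q ≫ i.hom
  haveI : Epi ((Scheme.Modules.pullback x).map q) := by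
    haveI := (Scheme.Modules.pullbackPushforwardAdjunction x).isLeftAdjoint
    exact Functor.map_epi _ _
  haveI : Epi c := inferInstance
  have hc : c = 0 := by
    refine hom_ext_bas φ g hg _ _ fun k => ?_
    rw [comp_apply_puSec]
    let y : Γ(T, x ⁻¹ᵁ (p ⁻¹ᵁ U)) := i.hom.app (x ⁻¹ᵁ (p ⁻¹ᵁ U)) (puSec x (eSec φ q k))
    suffices hy : y = 0 by
      refine (congrArg _ hy).trans (map_zero _)
    let w : Γ(T, ⊤) := T.presheaf.map (homOfLE (show (⊤ : T.Opens) ≤ x ⁻¹ᵁ (p ⁻¹ᵁ U) from hg.ge)).op y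
    have hw : y = T.presheaf.map (homOfLE le_top).op w := by
      rw [← CommRingCat.comp_apply, ← T.presheaf.map_comp]
      exact congr($(T.presheaf.map_id _) y).symm
    suffices w = 0 by rw [hw, this, map_zero]
    by_contra hne
    have hu : IsUnit w := by
      have e1 := (Scheme.ΓSpecIso (P.residueField z)).commRingCatIsoToRingEquiv
      have : (Scheme.ΓSpecIso (P.residueField z)).hom w ≠ 0 := fun h0 =>
        hne ((Scheme.ΓSpecIso (P.residueField z)).commRingCatIsoToRingEquiv.injective (h0.trans (map_zero _).symm))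
      have := (isUnit_iff_ne_zero.2 this).map (Scheme.ΓSpecIso (P.residueField z)).inv.hom
      rwa [← CommRingCat.comp_apply, Iso.hom_inv_id] at this
    let s : T := IsLocalRing.closedPoint _
    have hs : s ∈ x ⁻¹ᵁ (p ⁻¹ᵁ U) := hg.ge trivial
    refine hno k ?_
    have hxs := hx s
    have h1 : GenAt O1 (eSec φ q k) (show x s ∈ p ⁻¹ᵁ U from hs) := by
      rw [← genAt_puSec_iff' x hinv _ (x := s) hs, ← TwistLib.genAt_app_iso i _ (x := s) hs]
      have h2 : GenAt (Coh.structureModule T) (W := x ⁻¹ᵁ (p ⁻¹ᵁ U)) (y • (1 : Γ(T, x ⁻¹ᵁ (p ⁻¹ᵁ U)))) hs := by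
        refine (AmpleLib.genAt_smul_iff y (M := Coh.structureModule T) _ hs ((AmpleLib.one_genOn _).genAt hs)).2 ?_
        rw [Scheme.mem_basicOpen _ _ _ hs, hw]
        exact (hu.map _).map _
      rwa [show y • (1 : Γ(T, x ⁻¹ᵁ (p ⁻¹ᵁ U))) = y from mul_one y] at h2
    revert h1
    generalize hs' : (show x s ∈ p ⁻¹ᵁ U from hs) = h'
    clear hs'
    revert h'
    rw [hxs]
    exact fun _ h1 => h1
  have h0 : 𝟙 (Coh.structureModule T) = 0 := by
    rw [← cancel_epi c, hc, zero_comp, zero_comp]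
  have h1 : (1 : Γ(T, ⊤)) = 0 := congr($(h0).app ⊤ (1 : Γ(T, ⊤)))
  exact one_ne_zero (α := Γ(T, ⊤)) h1

/-- The coordinates of a standard chart. -/
def chartVals (R : Type u) [CommRing R] (n : ℕ) (j : Fin (n + 1)) :
    Fin (n + 1) → Γ(Spec (CommRingCat.of (Pol R n)), ⊤) :=
  Fin.insertNth j 1 fun m => (Scheme.ΓSpecIso (CommRingCat.of (Pol R n))).inv (MvPolynomial.X ⟨m⟩)

theorem chartVals_self (R : Type u) [CommRing R] (n : ℕ) (j : Fin (n + 1)) : chartVals R n j j = 1 := by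
  simp [chartVals]

/-- The standard charts over a trivialising affine open. -/
theorem exists_charts {n : ℕ} {U : X.Opens} (hU : IsAffineOpen U) (φ : E.restrict U.ι ≅ FlatMod.freeMod (↑U) (n + 1))
    {q : pb p E ⟶ O1} (hP : KRR.IsProjBundle p E O1 q) :
    ∃ c : Fin (n + 1) → (Spec (CommRingCat.of (Pol Γ(X, U) n)) ⟶ P), ∀ j, IsOpenImmersion (c j) ∧
      Set.range (c j) = (genLocus' (eSec φ q j) ((CohCmpLib.invertible_iff_rank_one O1).2 hP.invertible) : Set P) ∧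
      c j ≫ p = Spec.map (CommRingCat.ofHom (C : Γ(X, U) →+* Pol Γ(X, U) n)) ≫ hU.fromSpec ∧
      Cond (eSec φ q) (c j) (chartVals Γ(X, U) n j) := by
  classical
  haveI := hP.epi
  have hinv : PicF.IsInvertible O1 := (CohCmpLib.invertible_iff_rank_one O1).2 hP.invertible
  let R : Type u := Γ(X, U)
  let e : Fin (n + 1) → Γ(O1, p ⁻¹ᵁ U) := eSec φ q
  let D : Fin (n + 1) → P.Opens := fun j => genLocus' (e j) hinv
  have hle : ∀ j, D j ≤ p ⁻¹ᵁ U := fun j => genLocus'_le _ _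
  have hgen : ∀ j, GenOn O1 (res O1 (hle j) (e j)) := fun j => genLocus'_genOn _ _
  have hcov : ∀ z, p z ∈ U → ∃ j, z ∈ D j := fun z hz =>
    let ⟨k, hk⟩ := exists_genAt_eSec φ hinv hz
    ⟨k, hz, hk⟩
  choose t ht using fun j k => (hgen j (D j) le_rfl).2 (res O1 (hle j) (e k))
  have htk : ∀ j k, res O1 (hle j) (e k) = t j k • res O1 (hle j) (e j) := fun j k => by
    rw [← ht j k]
    exact congrArg _ (AmpleLib.res_refl _ _)
  -- the charts
  let T := Spec (CommRingCat.of (Pol R n))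
  let g : T ⟶ X := Spec.map (CommRingCat.ofHom (C : R →+* Pol R n)) ≫ hU.fromSpec
  have hg : g ⁻¹ᵁ U = ⊤ := by
    show Spec.map _ ⁻¹ᵁ hU.fromSpec ⁻¹ᵁ U = ⊤
    rw [hU.fromSpec_preimage_self]
    rfl
  let ΓX : Pol R n → Γ(T, ⊤) := fun r => (Scheme.ΓSpecIso (CommRingCat.of (Pol R n))).inv r
  let v : Fin (n + 1) → Fin (n + 1) → Γ(T, ⊤) := fun j => chartVals R n j
  choose c hc huniq using fun j => existsUnique_lift φ hP g hg (v j) j (chartVals_self R n j)
  have htop : ∀ j, (⊤ : T.Opens) ≤ c j ⁻¹ᵁ D j := fun j => by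
    refine le_trans ?_ (le_genLocus'_of_cond hinv (hc j).2 (j := j) (chartVals_self R n j))
    rw [← Scheme.Hom.comp_preimage, (hc j).1, hg]
  have hct : ∀ j (m : ULift.{u} (Fin n)), (c j).appLE (D j) ⊤ (htop j) (t j (j.succAbove m.down)) = ΓX (MvPolynomial.X m) :=
    fun j m => by
    rw [val_of_cond (hc j).2 (j := j) (chartVals_self R n j) (hle j) (htk j _) (htop j)]
    simp only [v, chartVals, Fin.insertNth_apply_succAbove]
    rfl
  -- the inverses
  let ψ : ∀ j, CommRingCat.of (Pol R n) ⟶ Γ(P, D j) := fun j =>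
    CommRingCat.ofHom (eval₂Hom (p.appLE U (D j) (hle j)).hom fun m => t j (j.succAbove m.down))
  let u : ∀ j, (D j).toScheme ⟶ T := fun j => (D j).toSpecΓ ≫ Spec.map (ψ j)
  have hug : ∀ j, u j ≫ g = (D j).ι ≫ p := fun j => by
    have h1 : CommRingCat.ofHom (C : R →+* Pol R n) ≫ ψ j = p.appLE U (D j) (hle j) :=
      CommRingCat.hom_ext (RingHom.ext fun r => eval₂Hom_C _ _ r)
    show ((D j).toSpecΓ ≫ Spec.map (ψ j)) ≫ Spec.map _ ≫ hU.fromSpec = _
    rw [Category.assoc, ← Spec.map_comp_assoc, h1, Scheme.Opens.toSpecΓ_SpecMap_appLE_assoc,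
      hU.toSpecΓ_fromSpec, Scheme.Hom.resLE_comp_ι]
  have huX : ∀ j (m : ULift.{u} (Fin n)), (u j).appTop (ΓX (MvPolynomial.X m)) =
      (D j).topIso.inv (t j (j.succAbove m.down)) := fun j m => by
    show ((Spec.map (ψ j)).appTop ≫ (D j).toSpecΓ.appTop) (ΓX (MvPolynomial.X m)) = _
    rw [Scheme.Opens.toSpecΓ_appTop, ← CommRingCat.comp_apply, ← Category.assoc, ← Category.assoc,
      show ((Scheme.ΓSpecIso (CommRingCat.of (Pol R n))).inv ≫ (Spec.map (ψ j)).appTop) ≫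
        (Scheme.ΓSpecIso Γ(P, D j)).hom = ψ j by
          rw [Category.assoc, Scheme.ΓSpecIso_naturality, Iso.inv_hom_id_assoc]]
    rw [CommRingCat.comp_apply]
    exact congrArg (D j).topIso.inv.hom (eval₂Hom_X' _ _ m)
  have hιtop : ∀ j, (⊤ : (D j).toScheme.Opens) ≤ (D j).ι ⁻¹ᵁ D j := fun j x _ => x.2
  have hιapp : ∀ j (r : Γ(P, D j)), (D j).ι.appLE (D j) ⊤ (hιtop j) r = (D j).topIso.inv r := fun j r => by
    rw [Scheme.Opens.ι_appLE, Scheme.Opens.topIso_inv]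
    exact congrArg (fun φ => (P.presheaf.map φ) r) (Subsingleton.elim _ _)
  have hinvcomp : ∀ j, u j ≫ c j = (D j).ι := fun j => by
    let w : Fin (n + 1) → Γ((D j).toScheme, ⊤) := fun k => (D j).ι.appLE (D j) ⊤ (hιtop j) (t j k)
    have hwj : w j = 1 := by
      have h1 : t j j = 1 := (hgen j (D j) le_rfl).1 ((ht j j).trans (by
        show _ = (1 : Γ(P, D j)) • _
        rw [one_smul, AmpleLib.res_refl]))
      simp [w, h1]
    have hg' : ((D j).ι ≫ p) ⁻¹ᵁ U = ⊤ := eq_top_iff.2 fun x _ => hle j x.2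
    obtain ⟨f₀, -, hf₀⟩ := existsUnique_lift φ hP ((D j).ι ≫ p) hg' w j hwj
    have h1 : (D j).ι = f₀ := hf₀ _ ⟨rfl, cond_of (hle j) (hgen j) (htk j) (hιtop j) fun k => rfl⟩
    have hT : (⊤ : (D j).toScheme.Opens) ≤ (u j ≫ c j) ⁻¹ᵁ D j := fun x _ => htop j trivial
    have h2 : u j ≫ c j = f₀ := hf₀ _ ⟨by rw [Category.assoc, (hc j).1, hug], cond_of (hle j) (hgen j) (htk j)
      hT fun k => by
        rw [← Scheme.Hom.appLE_comp_appLE (u j) (c j) (D j) ⊤ ⊤ (htop j) le_top, CommRingCat.comp_apply]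
        rcases Fin.eq_self_or_eq_succAbove j k with rfl | ⟨m, rfl⟩
        · have h1 : t k k = 1 := (hgen k (D k) le_rfl).1 ((ht k k).trans (by
            show _ = (1 : Γ(P, D k)) • _
            rw [one_smul, AmpleLib.res_refl]))
          simp [w, h1]
        · rw [hct j ⟨m⟩, appLE_top]
          exact (huX j ⟨m⟩).trans (hιapp j _).symm⟩
    exact h2.trans h1.symm
  -- the isomorphisms
  let cD : ∀ j, T ⟶ (D j).toScheme := fun j => IsOpenImmersion.lift (D j).ι (c j) (by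
    rw [Scheme.Opens.range_ι]
    rintro _ ⟨x, rfl⟩
    exact htop j trivial)
  have hcDι : ∀ j, cD j ≫ (D j).ι = c j := fun j => IsOpenImmersion.lift_fac _ _ _
  have hid : ∀ j, cD j ≫ u j = 𝟙 T := fun j => by
    have hover : (cD j ≫ u j) ≫ g = g := by
      rw [Category.assoc, hug, ← Category.assoc, hcDι, (hc j).1]
    refine Spec.homEquiv.injective (CommRingCat.hom_ext (MvPolynomial.ringHom_ext (fun r => ?_) fun m => ?_))
    · obtain ⟨φ', hφ'⟩ := Spec.map_surjective (cD j ≫ u j)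
      have h1 : CommRingCat.ofHom (C : R →+* Pol R n) ≫ φ' = CommRingCat.ofHom (C : R →+* Pol R n) := by
        refine Spec.map_injective ?_
        rw [← cancel_mono hU.fromSpec, Spec.map_comp, Category.assoc, hφ']
        exact hover
      rw [← hφ']
      show (Spec.preimage (Spec.map φ')).hom (C r) = (Spec.preimage (𝟙 T)).hom (C r)
      rw [Spec.preimage_map, Spec.preimage_id]
      exact congr($(h1).hom r)
    · show (Spec.preimage (cD j ≫ u j)).hom (MvPolynomial.X m) = (Spec.preimage (𝟙 T)).hom (MvPolynomial.X m)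
      rw [Spec.preimage_id]
      have h1 : (cD j ≫ u j).appTop (ΓX (MvPolynomial.X m)) = ΓX (MvPolynomial.X m) := by
        rw [Scheme.Hom.comp_appTop, CommRingCat.comp_apply, huX, ← hιapp, ← hct j m]
        show ((D j).ι.appLE (D j) ⊤ _ ≫ (cD j).app ⊤) _ = _
        rw [← appLE_top (cD j) le_top]
        refine (congr($(Scheme.Hom.appLE_comp_appLE (cD j) (D j).ι (D j) ⊤ ⊤ (hιtop j) le_top) _)).trans ?_
        simp only [hcDι]
      obtain ⟨φ', hφ'⟩ := Spec.map_surjective (cD j ≫ u j)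
      rw [← hφ', Spec.preimage_map]
      rw [← hφ'] at h1
      have h2 := (congr($(Scheme.ΓSpecIso_inv_naturality φ') (MvPolynomial.X m))).trans h1
      exact (Scheme.ΓSpecIso (CommRingCat.of (Pol R n))).commRingCatIsoToRingEquiv.symm.injective h2
  have hiso : ∀ j, IsIso (cD j) := fun j => by
    refine ⟨u j, hid j, ?_⟩
    rw [← cancel_mono (D j).ι, Category.assoc, hcDι, hinvcomp, Category.id_comp]
  have hopen : ∀ j, IsOpenImmersion (c j) := fun j => by
    haveI := hiso j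
    rw [← hcDι j]
    infer_instance
  have hrange : ∀ j, (c j).opensRange = D j := fun j => by
    refine le_antisymm (fun z hz => ?_) fun z hz => ?_
    · obtain ⟨x, rfl⟩ := hz
      exact htop j trivial
    · exact ⟨u j ⟨z, hz⟩, congr($(hinvcomp j).base ⟨z, hz⟩)⟩
  exact ⟨c, fun j => ⟨hopen j, congrArg SetLike.coe (hrange j), (hc j).1, (hc j).2⟩⟩

/-- Charts of a projective bundle. -/
theorem exists_locData' [IsLocallyNoetherian X] {n : ℕ} (hE : FlatMod.IsFinLocFreeOfRank (n + 1) E)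
    {q : pb p E ⟶ O1} (hP : KRR.IsProjBundle p E O1 q) (η : X) :
    ∃ D : LocData p O1 n, η ∈ D.U := by
  classical
  haveI : Coh.IsQCoh E := (LocSuppLib.isCoh_of_isFinLocFree fun x => by
    obtain ⟨U, hxU, hU⟩ := hE x
    exact ⟨U, n + 1, hxU, hU⟩).1
  haveI := hP.epi
  have hinv : PicF.IsInvertible O1 := (CohCmpLib.invertible_iff_rank_one O1).2 hP.invertible
  obtain ⟨U₀, hη₀, ⟨φ₀⟩⟩ := hE η
  obtain ⟨U, hU, hη, hle⟩ := exists_isAffineOpen_mem_and_subset (X := X) (x := η) (U := U₀) hη₀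
  obtain ⟨b⟩ := FittLib.nonempty_basis_of_iso E φ₀ (V := U) hle
  obtain ⟨φ⟩ := OmegaAffLib.nonempty_restrict_iso_freeMod hU E b
  let R : Type u := Γ(X, U)
  let e : Fin (n + 1) → Γ(O1, p ⁻¹ᵁ U) := eSec φ q
  let D : Fin (n + 1) → P.Opens := fun j => genLocus' (e j) hinv
  have hle : ∀ j, D j ≤ p ⁻¹ᵁ U := fun j => genLocus'_le _ _
  have hgen : ∀ j, GenOn O1 (res O1 (hle j) (e j)) := fun j => genLocus'_genOn _ _
  have hcov : ∀ z, p z ∈ U → ∃ j, z ∈ D j := fun z hz =>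
    let ⟨k, hk⟩ := exists_genAt_eSec φ hinv hz
    ⟨k, hz, hk⟩
  choose t ht using fun j k => (hgen j (D j) le_rfl).2 (res O1 (hle j) (e k))
  have htk : ∀ j k, res O1 (hle j) (e k) = t j k • res O1 (hle j) (e j) := fun j k => by
    rw [← ht j k]
    exact congrArg _ (AmpleLib.res_refl _ _)
  obtain ⟨c, hc⟩ := exists_charts hU φ hP
  let T := Spec (CommRingCat.of (Pol R n))
  let ΓX : Pol R n → Γ(T, ⊤) := fun r => (Scheme.ΓSpecIso (CommRingCat.of (Pol R n))).inv r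
  have htop : ∀ j, (⊤ : T.Opens) ≤ c j ⁻¹ᵁ D j := fun j x _ => (hc j).2.1.le ⟨x, rfl⟩
  have hct : ∀ j (m : ULift.{u} (Fin n)), (c j).appLE (D j) ⊤ (htop j) (t j (j.succAbove m.down)) = ΓX (MvPolynomial.X m) :=
    fun j m => by
    rw [val_of_cond (hc j).2.2.2 (j := j) (chartVals_self R n j) (hle j) (htk j _) (htop j)]
    simp only [chartVals, Fin.insertNth_apply_succAbove]
    rfl
  refine ⟨⟨U, hU, e, D, hle, c, fun j => (hc j).1, fun j => haveI := (hc j).1; Opens.ext (hc j).2.1, hcov, fun j => (hc j).2.2.1, hgen, htop,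
    fun j m => ⟨_, htk j _, hct j m⟩, fun j m => ?_⟩, hη⟩
  let k := j.succAbove m.down
  have h1 : ∀ z (hz : z ∈ D j), z ∈ D k ↔ z ∈ P.basicOpen (t j k) := fun z hz => by
    have hz' : z ∈ p ⁻¹ᵁ U := hle j hz
    have : z ∈ D k ↔ GenAt O1 (e k) hz' := ⟨fun h => h.2, fun h => ⟨hz', h⟩⟩
    rw [this, ← AmpleLib.genAt_res (hle j) (e k) hz, htk j k]
    exact AmpleLib.genAt_smul_iff _ _ hz ((hgen j).genAt hz)
  have h2 : c j ⁻¹ᵁ D k = c j ⁻¹ᵁ P.basicOpen (t j k) := Opens.ext (Set.ext fun x => h1 _ (htop j trivial))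
  rw [h2]
  refine (Opens.ext (Set.ext fun x => ?_) : c j ⁻¹ᵁ P.basicOpen (t j k) = T.basicOpen (ΓX (MvPolynomial.X m))).trans
    (basicOpen_eq_of_affine (R := CommRingCat.of (Pol R n)) (MvPolynomial.X m))
  rw [← hct j m, Scheme.Hom.appLE, CommRingCat.comp_apply, Scheme.basicOpen_res, ← Scheme.preimage_basicOpen]
  exact ⟨fun h => ⟨trivial, h⟩, fun h => h.2⟩

end CycPBLib

end
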