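import Mathlib
import Groth.Agent.CycPBLib.UnivCharts
import Groth.Agent.CohCmpLib.TrivFibre
import Groth.Agent.CohCmpLib.UnitFibre

/-!
# Base change of a projective bundle given by its universal property
-/

set_option autoImplicit false
set_option linter.style.haveILetI false
set_option linter.unusedSectionVars false

universe u

open AlgebraicGeometry CategoryTheory CategoryTheory.Limits Opposite
open KFlatLib (pb puSec)

noncomputable section

namespace CycPBLib

variable {X Y P P' T : Scheme.{u}}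

theorem hom_ext_pu (f : X ⟶ Y) {M : Y.Modules} {L : X.Modules} (a b : pb f M ⟶ L)
    (h : ∀ (U : Y.Opens) (m : Γ(M, U)), a.app (f ⁻¹ᵁ U) (puSec f m) = b.app (f ⁻¹ᵁ U) (puSec f m)) : a = b :=
  ((Scheme.Modules.pullbackPushforwardAdjunction f).homEquiv _ _).injective
    (Scheme.Modules.hom_ext _ _ fun U => ConcreteCategory.hom_ext _ _ fun m => h U m)

theorem hom_ext_pu₂ (g : T ⟶ X) (f : X ⟶ Y) {M : Y.Modules} {L : T.Modules} (a b : pb g (pb f M) ⟶ L)
    (h : ∀ (U : Y.Opens) (m : Γ(M, U)),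
      a.app (g ⁻¹ᵁ (f ⁻¹ᵁ U)) (puSec g (puSec f m)) = b.app (g ⁻¹ᵁ (f ⁻¹ᵁ U)) (puSec g (puSec f m))) :
    a = b := by
  rw [← cancel_epi ((Scheme.Modules.pullbackComp g f).inv.app M)]
  refine hom_ext_pu _ _ _ fun U m => ?_
  have e := CohCmpLib.pullbackComp_inv_puSec g f M m
  refine Eq.trans ?_ ((h U m).trans ?_)
  · exact congrArg (a.app _) e
  · exact (congrArg (b.app _) e).symm

theorem congr_hom_puSec {f f' : T ⟶ X} (h : f = f') (M : X.Modules) {U : X.Opens} (m : Γ(M, U)) :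
    ((Scheme.Modules.pullbackCongr h).hom.app M).app (f ⁻¹ᵁ U) (puSec f m) =
      (pb f' M).presheaf.map (eqToHom (by rw [h])).op (puSec f' m) := by
  subst h
  exact (congr($((pb f M).presheaf.map_id _) (puSec f m))).symm

section BC

variable {π : P ⟶ Y} {E : Y.Modules} {O1 : P.Modules} (q : pb π E ⟶ O1) {f : X ⟶ Y} {f' : P' ⟶ P} {π' : P' ⟶ X}

/-- The universal quotient of the base changed bundle. -/
def bcQuot (w : f' ≫ π = π' ≫ f) : pb π' (pb f E) ⟶ pb f' O1 :=
  (Scheme.Modules.pullbackComp π' f).hom.app E ≫ (Scheme.Modules.pullbackCongr w.symm).hom.app E ≫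
    (Scheme.Modules.pullbackComp f' π).inv.app E ≫ (Scheme.Modules.pullback f').map q

theorem bcQuot_puSec (w : f' ≫ π = π' ≫ f) {U : Y.Opens} (m : Γ(E, U)) :
    (bcQuot q w).app (π' ⁻¹ᵁ (f ⁻¹ᵁ U)) (puSec π' (puSec f m)) =
      (pb f' O1).presheaf.map (eqToHom (show π' ⁻¹ᵁ (f ⁻¹ᵁ U) = f' ⁻¹ᵁ (π ⁻¹ᵁ U) by
        rw [← Scheme.Hom.comp_preimage, ← w]; rfl)).op (puSec f' (q.app (π ⁻¹ᵁ U) (puSec π m))) := by
  let b : pb (f' ≫ π) E ⟶ pb f' O1 := (Scheme.Modules.pullbackComp f' π).inv.app E ≫ (Scheme.Modules.pullback f').map q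
  have hb : b.app ((f' ≫ π) ⁻¹ᵁ U) (puSec (f' ≫ π) m) = puSec f' (q.app (π ⁻¹ᵁ U) (puSec π m)) := by
    show ((Scheme.Modules.pullback f').map q).app _
      (((Scheme.Modules.pullbackComp f' π).inv.app E).app _ (puSec (f' ≫ π) m)) = _
    rw [CohCmpLib.pullbackComp_inv_puSec]
    exact KFlatLib.puSec_natural f' q (puSec π m)
  show b.app _ (((Scheme.Modules.pullbackCongr w.symm).hom.app E).app ((π' ≫ f) ⁻¹ᵁ U)
    (((Scheme.Modules.pullbackComp π' f).hom.app E).app _ (puSec π' (puSec f m)))) = _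
  refine (congrArg (fun t => b.app _ (((Scheme.Modules.pullbackCongr w.symm).hom.app E).app ((π' ≫ f) ⁻¹ᵁ U) t))
    (CohCmpLib.pullbackComp_puSec π' f E m)).trans ?_
  refine (congrArg (b.app _) (congr_hom_puSec w.symm E m)).trans ?_
  refine (QCohLib.app_map b (eqToHom (show (π' ≫ f) ⁻¹ᵁ U = (f' ≫ π) ⁻¹ᵁ U by rw [w])) _).trans ?_
  exact congrArg _ hb

theorem epi_bcQuot [Epi q] (w : f' ≫ π = π' ≫ f) : Epi (bcQuot q w) := by
  haveI : Epi ((Scheme.Modules.pullback f').map q) := by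
    haveI := (Scheme.Modules.pullbackPushforwardAdjunction f').isLeftAdjoint
    exact Functor.map_epi _ _
  unfold bcQuot
  infer_instance

/-- The composite of the universal property. -/
def compQ {g : T ⟶ Y} {h : T ⟶ P} (hg : h ≫ π = g) {L : T.Modules} (i : pb h O1 ⟶ L) : pb g E ⟶ L :=
  (Scheme.Modules.pullbackCongr hg).inv.app E ≫ (Scheme.Modules.pullbackComp h π).inv.app E ≫
    (Scheme.Modules.pullback h).map q ≫ i

/-- The base change of a projective bundle. -/
theorem isProjBundle_bc (hP : KRR.IsProjBundle π E O1 q) (hsq : IsPullback f' π' π f) :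
    KRR.IsProjBundle π' (pb f E) (pb f' O1) (bcQuot q hsq.w) where
  invertible := CohCmpLib.rank_one_pullback f' hP.invertible
  epi := haveI := hP.epi; epi_bcQuot q _
  univ T g L hL s hs := by
    let s0 : pb (g ≫ f) E ⟶ L := (Scheme.Modules.pullbackComp g f).inv.app E ≫ s
    haveI : Epi s0 := inferInstance
    obtain ⟨h, ⟨hh, e, he⟩, huniq⟩ := hP.univ T (g ≫ f) L hL s0 inferInstance
    -- the relation between the two composites
    have key : ∀ (h' : T ⟶ P') (hg' : h' ≫ π' = g) (hh' : (h' ≫ f') ≫ π = g ≫ f)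
        (i' : pb h' (pb f' O1) ⟶ L),
        compQ (bcQuot q hsq.w) hg' i' = s ↔
          compQ q hh' ((Scheme.Modules.pullbackComp h' f').inv.app O1 ≫ i') = s0 := by
      intro h' hg' hh' i'
      subst hg'
      have hval : ∀ (U : Y.Opens) (m : Γ(E, U)),
          (compQ q hh' ((Scheme.Modules.pullbackComp h' f').inv.app O1 ≫ i')).app (((h' ≫ π') ≫ f) ⁻¹ᵁ U)
              (puSec ((h' ≫ π') ≫ f) m) =
            (compQ (bcQuot q hsq.w) (rfl : h' ≫ π' = h' ≫ π') i').app ((h' ≫ π') ⁻¹ᵁ (f ⁻¹ᵁ U))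
              (puSec (h' ≫ π') (puSec f m)) := by
        intro U m
        rw [compQ, compQ, comp_apply_puSec, comp_apply_puSec]
        rw [bcQuot_puSec, ← AmpleLib.res_refl (M := L) (V := (h' ≫ π') ⁻¹ᵁ (f ⁻¹ᵁ U))
          (L.presheaf.map (eqToHom _).op (i'.app _ _))]
        have h1 : puSec h' ((pb f' O1).presheaf.map (eqToHom (show π' ⁻¹ᵁ (f ⁻¹ᵁ U) = f' ⁻¹ᵁ (π ⁻¹ᵁ U) by
            rw [← Scheme.Hom.comp_preimage, ← hsq.w]; rfl)).op (puSec f' (q.app (π ⁻¹ᵁ U) (puSec π m)))) =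
          AmpleLib.res (pb h' (pb f' O1)) (by
            rw [show π' ⁻¹ᵁ (f ⁻¹ᵁ U) = f' ⁻¹ᵁ (π ⁻¹ᵁ U) by rw [← Scheme.Hom.comp_preimage, ← hsq.w]; rfl])
            (puSec h' (puSec f' (q.app (π ⁻¹ᵁ U) (puSec π m)))) :=
          TwistLib.puSec_res h' (le_of_eq (by rw [← Scheme.Hom.comp_preimage, ← hsq.w]; rfl)) _
        rw [h1]
        show L.presheaf.map _ (i'.app _ (((Scheme.Modules.pullbackComp h' f').inv.app O1).app _
          (puSec (h' ≫ f') _))) = _
        rw [CohCmpLib.pullbackComp_inv_puSec]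
        erw [QCohLib.app_map i']
        rw [AmpleLib.res_refl]
        exact (QCohLib.map_map' L _ _ _).symm
      have hs0 : ∀ (U : Y.Opens) (m : Γ(E, U)), s0.app (((h' ≫ π') ≫ f) ⁻¹ᵁ U) (puSec ((h' ≫ π') ≫ f) m) =
          s.app ((h' ≫ π') ⁻¹ᵁ (f ⁻¹ᵁ U)) (puSec (h' ≫ π') (puSec f m)) := fun U m =>
        congrArg (s.app _) (CohCmpLib.pullbackComp_inv_puSec (h' ≫ π') f E m)
      constructor
      · intro hc
        refine hom_ext_pu _ _ _ fun U m => ?_
        rw [hval, hc, hs0]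
      · intro hc
        refine hom_ext_pu₂ _ _ _ _ fun U m => ?_
        rw [← hval, hc, hs0]
    let h' := hsq.lift h g hh
    have h1 : h' ≫ f' = h := hsq.lift_fst _ _ _
    have h2 : h' ≫ π' = g := hsq.lift_snd _ _ _
    refine ⟨h', ⟨h2, (Scheme.Modules.pullbackComp h' f').app O1 ≪≫ (Scheme.Modules.pullbackCongr h1).app O1 ≪≫ e, ?_⟩, ?_⟩
    · refine (key h' h2 (by rw [h1, hh]) _).2 (Eq.trans ?_ he)
      have h3 : (Scheme.Modules.pullbackComp h' f').inv.app O1 ≫
          ((Scheme.Modules.pullbackComp h' f').app O1 ≪≫ (Scheme.Modules.pullbackCongr h1).app O1 ≪≫ e).hom =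
            (Scheme.Modules.pullbackCongr h1).hom.app O1 ≫ e.hom := by simp
      rw [h3]
      clear h3
      clear_value h'
      subst h1
      simp [compQ, Scheme.Modules.pullbackCongr]
    · rintro k ⟨hk, e', he'⟩
      have hk' : (k ≫ f') ≫ π = g ≫ f := by rw [Category.assoc, hsq.w, ← Category.assoc, hk]
      have h4 := (key k hk hk' e'.hom).1 he'
      have h5 := huniq (k ≫ f') ⟨hk', ((Scheme.Modules.pullbackComp k f').app O1).symm ≪≫ e', h4⟩
      refine hsq.hom_ext (h5.trans h1.symm) (hk.trans h2.symm)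

end BC

end CycPBLib

end
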