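import Mathlib
import Groth.Prelude.Def_Cyc
import Groth.Agent.CycAffLib.Recursion

/-!
# Decomposing a cycle along cycles prescribed on the fibres
-/

set_option autoImplicit false
set_option linter.style.haveILetI false

universe u

open AlgebraicGeometry CategoryTheory

noncomputable section

namespace CycPBLib

variable {X Y : Scheme.{u}} {δX : X → ℤ} {δY : Y → ℤ}

/-- If every point `x` of dimension `k` is, on its fibre, the value of a cycle `d x` living over the
specializations of its image, every `k`-cycle is a locally finite combination of the `d x`. -/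
theorem exists_decomp (hY : Cyc.IsSetup Y δY) (f : X ⟶ Y) [QuasiCompact f] {k m : ℤ}
    (hlow : ∀ w, δX w = k → m ≤ δY (f w))
    (d : {x : X // δX x = k} → AlgebraicCycle X ℤ)
    (hd : ∀ x w, d x w ≠ 0 → f x.1 ⤳ f w ∧ δX w = k)
    (hd1 : ∀ x w, f w = f x.1 → d x w = (open Classical in if w = x.1 then 1 else 0))
    (β : AlgebraicCycle X ℤ) (hβ : β ∈ Cyc.Zk X δX k) :
    ∃ R : {x : X // δX x = k} → ℤ,
      (∀ V : Y.Opens, IsAffineOpen V → {x | f x.1 ∈ V ∧ R x ≠ 0}.Finite) ∧
      ∀ (w : X) (F : Finset {x : X // δX x = k}), (∀ x, R x ≠ 0 → f x.1 ⤳ f w → x ∈ F) →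
        β w = ∑ x ∈ F, R x * d x w := by
  classical
  let P := {x : X // δX x = k}
  have hwf := InvImage.wf (fun w : X => f w) (CycAffLib.wf_generization hY)
  let R : X → ℤ := hwf.fix fun w Rrec => β w - ∑ᶠ x : P,
    if h : f x.1 ⤳ f w ∧ f x.1 ≠ f w then Rrec x.1 h * d x w else 0
  have hR : ∀ w, R w = β w - ∑ᶠ x : P, if f x.1 ⤳ f w ∧ f x.1 ≠ f w then R x.1 * d x w else 0 := fun w => by
    refine (WellFounded.fix_eq hwf _ w).trans ?_
    simp only [dite_eq_ite]
    rfl
  have hcase : ∀ w, R w ≠ 0 → β w ≠ 0 ∨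
      ∃ x : P, R x.1 ≠ 0 ∧ d x w ≠ 0 ∧ f x.1 ⤳ f w ∧ f x.1 ≠ f w := fun w hw => by
    by_contra hc
    push Not at hc
    refine hw ?_
    rw [hR, hc.1, finsum_eq_zero_of_forall_eq_zero fun x => ?_, sub_zero]
    split_ifs with h
    · by_contra hne
      exact h.2 (hc.2 x (left_ne_zero_of_mul hne) (right_ne_zero_of_mul hne) h.1)
    · rfl
  have hRdelta : ∀ w, R w ≠ 0 → δX w = k := fun w hw => by
    rcases hcase w hw with h | ⟨x, -, h, -⟩
    · exact by_contra fun hne => h (hβ w hne)
    · exact (hd x w h).2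
  have hfin : ∀ V : Y.Opens, IsAffineOpen V → {w : X | f w ∈ V ∧ R w ≠ 0}.Finite := fun V hV => by
    have hK : IsCompact (f ⁻¹' (V : Set Y)) :=
      QuasiCompact.isCompact_preimage (f := f) _ V.isOpen hV.isCompact
    have hsupp : ∀ c : AlgebraicCycle X ℤ, (f ⁻¹' (V : Set Y) ∩ Function.support c).Finite := fun c =>
      LocallyFiniteSupport.finite_inter_support_of_isCompact
        (Function.locallyFinsupp.locallyFiniteSupport c) hK
    obtain ⟨J, hJ⟩ := ((hsupp β).image fun w => δY (f w)).bddAbove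
    have hle : ∀ w, f w ∈ V → R w ≠ 0 → δY (f w) ≤ J := fun w => by
      induction w using hwf.induction with
      | _ w IH =>
        intro hV' hw
        rcases hcase w hw with h | ⟨x, hx, -, h1, h2⟩
        · exact hJ ⟨w, ⟨hV', h⟩, rfl⟩
        · have := (hY.2.2 _ _ h1 h2).1
          have := IH x.1 ⟨h1, h2⟩ (h1.mem_open V.isOpen hV') hx
          omega
    have hT : ∀ i : ℕ, {w : X | f w ∈ V ∧ R w ≠ 0 ∧ J + 1 - i ≤ δY (f w)}.Finite := by
      intro i
      induction i with
      | zero =>
        refine Set.finite_empty.subset fun w hw => ?_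
        have := hle w hw.1 hw.2.1
        have := hw.2.2
        omega
      | succ i IH =>
        refine ((hsupp β).union ((IH.preimage (f := fun x : P => x.1) Subtype.val_injective.injOn).biUnion
          fun x _ => hsupp (d x))).subset ?_
        rintro w ⟨h1, h2, h3⟩
        rcases hcase w h2 with h | ⟨x, hx, hxd, hs, hne⟩
        · exact Or.inl ⟨h1, h⟩
        · refine Or.inr (Set.mem_biUnion (x := x) ⟨hs.mem_open V.isOpen h1, hx, ?_⟩ ⟨h1, hxd⟩)
          have := (hY.2.2 _ _ hs hne).1
          show _ ≤ δY (f x.1)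
          omega
    refine (hT (J + 1 - m).toNat).subset fun w hw => ⟨hw.1, hw.2, ?_⟩
    have := hlow w (hRdelta w hw.2)
    omega
  refine ⟨fun x => R x.1, fun V hV =>
    ((hfin V hV).preimage (f := fun x : P => x.1) Subtype.val_injective.injOn).subset fun x hx => hx,
    fun w F hF => ?_⟩
  have h2 : (∑ᶠ x : P, if f x.1 ⤳ f w ∧ f x.1 ≠ f w then R x.1 * d x w else 0) =
      ∑ x ∈ F, if f x.1 ⤳ f w ∧ f x.1 ≠ f w then R x.1 * d x w else 0 := by
    refine finsum_eq_sum_of_support_subset _ fun x hx => ?_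
    simp only [Function.mem_support] at hx
    split_ifs at hx with h
    · exact hF x (left_ne_zero_of_mul hx) h.1
    · exact absurd rfl hx
  have h3 : ∀ x : P, R x.1 * d x w =
      (if f x.1 ⤳ f w ∧ f x.1 ≠ f w then R x.1 * d x w else 0) + (if x.1 = w then R w else 0) := fun x => by
    by_cases he : f x.1 = f w
    · rw [if_neg fun h => h.2 he, zero_add, hd1 x w he.symm]
      by_cases hxw : w = x.1
      · subst hxw
        simp
      · rw [if_neg hxw, if_neg (Ne.symm hxw), mul_zero]
    · rw [if_neg (fun e : x.1 = w => he (congrArg f.base e)), add_zero]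
      split_ifs with h
      · rfl
      · rw [show d x w = 0 from by_contra fun hne => h ⟨(hd x w hne).1, he⟩, mul_zero]
  have h4 : (∑ x ∈ F, if x.1 = w then R w else 0) = R w := by
    by_cases hw : δX w = k
    · rw [Finset.sum_eq_single (⟨w, hw⟩ : P) (fun x _ hne => if_neg fun e => hne (Subtype.ext e))
        fun hn => ?_, if_pos rfl]
      rw [if_pos rfl]
      by_contra hne
      exact hn (hF ⟨w, hw⟩ hne specializes_rfl)
    · rw [Finset.sum_eq_zero fun x _ => if_neg fun (e : x.1 = w) => hw (e ▸ x.2)]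
      by_contra hne
      exact hw (hRdelta w (Ne.symm hne))
  rw [Finset.sum_congr rfl fun x _ => h3 x, Finset.sum_add_distrib, h4, ← h2, hR w]
  ring

end CycPBLib

end
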