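import Mathlib
import Groth.Prelude.Def_Cyc
import Groth.Agent.CycAffLib.Field

/-!
# Coordinate linear subspaces of affine space over a field
-/

set_option autoImplicit false
set_option linter.style.haveILetI false
set_option linter.unusedSectionVars false

universe u

open AlgebraicGeometry CategoryTheory IsLocalRing MvPolynomial

noncomputable section

namespace CycPBLib

variable (κ : Type u) [Field κ] {σ : Type u} [Fintype σ]

/-- Affine space with coordinates `σ`. -/
abbrev An (σ : Type u) : Scheme.{u} := Spec (CommRingCat.of (MvPolynomial σ κ))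

/-- Its structure map. -/
abbrev anMap (σ : Type u) : An κ σ ⟶ Spec (CommRingCat.of κ) :=
  Spec.map (CommRingCat.ofHom (algebraMap κ (MvPolynomial σ κ)))

open Classical in
/-- Setting the coordinates of `S` to zero. -/
def killVar (S : Finset σ) : MvPolynomial σ κ →ₐ[κ] MvPolynomial {m // m ∉ S} κ :=
  aeval fun m => if h : m ∈ S then 0 else X ⟨m, h⟩

theorem killVar_surjective (S : Finset σ) : Function.Surjective (killVar κ S) := fun p => by
  refine ⟨rename Subtype.val p, ?_⟩
  rw [killVar, aeval_rename]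
  conv_rhs => rw [← aeval_X_left_apply p]
  refine congrArg (fun g => aeval g p) (funext fun m => ?_)
  exact dif_neg m.2

/-- The ideal of the coordinate subspace. -/
def linIdeal (S : Finset σ) : Ideal (MvPolynomial σ κ) := Ideal.span (X '' (S : Set σ))

theorem ker_killVar (S : Finset σ) : RingHom.ker (killVar κ S) = linIdeal κ S := by
  classical
  refine le_antisymm (fun p hp => ?_) (Ideal.span_le.2 ?_)
  · let q := Ideal.Quotient.mkₐ κ (linIdeal κ S)
    have h : q.comp ((rename Subtype.val).comp (killVar κ S)) = q := by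
      refine algHom_ext fun m => ?_
      show q (rename Subtype.val (killVar κ S (X m))) = q (X m)
      rw [killVar, aeval_X]
      split_ifs with hm
      · rw [map_zero, map_zero]
        exact (Ideal.Quotient.eq_zero_iff_mem.2 (Ideal.subset_span (Set.mem_image_of_mem X hm))).symm
      · rw [rename_X]
    refine Ideal.Quotient.eq_zero_iff_mem.1 (?_ : q p = 0)
    rw [← h]
    show q (rename Subtype.val (killVar κ S p)) = 0
    rw [RingHom.mem_ker.1 hp, map_zero, map_zero]
  · rintro _ ⟨m, hm, rfl⟩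
    rw [SetLike.mem_coe, RingHom.mem_ker, killVar, aeval_X]
    exact dif_pos hm

theorem isPrime_linIdeal (S : Finset σ) : (linIdeal κ S).IsPrime := by
  rw [← ker_killVar]
  exact RingHom.ker_isPrime _

/-- The generic point of the coordinate subspace. -/
def linPt (S : Finset σ) : An κ σ :=
  (⟨linIdeal κ S, isPrime_linIdeal κ S⟩ : PrimeSpectrum (MvPolynomial σ κ))

/-- The inclusion of the coordinate subspace. -/
def linIncl (S : Finset σ) : An κ {m // m ∉ S} ⟶ An κ σ :=
  Spec.map (CommRingCat.ofHom (killVar κ S : MvPolynomial σ κ →+* MvPolynomial {m // m ∉ S} κ))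

instance (S : Finset σ) : IsClosedImmersion (linIncl κ S) :=
  IsClosedImmersion.spec_of_surjective _ (killVar_surjective κ S)

theorem linIncl_over (S : Finset σ) : linIncl κ S ≫ anMap κ σ = anMap κ {m // m ∉ S} := by
  rw [linIncl, ← Spec.map_comp]
  exact congrArg Spec.map (CommRingCat.hom_ext (RingHom.ext fun a => (killVar κ S).commutes a))

theorem range_linIncl (S : Finset σ) :
    Set.range (linIncl κ S) = {z | ∀ m ∈ S, (X m : MvPolynomial σ κ) ∈ z.asIdeal} := by
  refine (range_comap_of_surjective _ _ (killVar_surjective κ S)).trans ?_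
  ext z
  show (RingHom.ker (killVar κ S : MvPolynomial σ κ →+* MvPolynomial {m // m ∉ S} κ) : Set (MvPolynomial σ κ)) ⊆ (z.asIdeal : Set (MvPolynomial σ κ)) ↔ _
  rw [show RingHom.ker (killVar κ S : MvPolynomial σ κ →+* MvPolynomial {m // m ∉ S} κ) = linIdeal κ S from ker_killVar κ S,
    SetLike.coe_subset_coe, linIdeal, Ideal.span_le, Set.image_subset_iff]
  rfl

theorem linPt_specializes (S : Finset σ) (z : An κ σ) :
    linPt κ S ⤳ z ↔ ∀ m ∈ S, (X m : MvPolynomial σ κ) ∈ z.asIdeal := by
  refine Iff.trans (PrimeSpectrum.le_iff_specializes (linPt κ S) z).symm ?_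
  show linIdeal κ S ≤ z.asIdeal ↔ _
  rw [linIdeal, Ideal.span_le, Set.image_subset_iff]
  rfl

theorem X_notMem {S : Finset σ} {m : σ} (hm : m ∉ S) : (X m : MvPolynomial σ κ) ∉ linIdeal κ S := by
  classical
  rw [← ker_killVar, RingHom.mem_ker, killVar, aeval_X, dif_neg hm]
  exact X_ne_zero _

theorem linPt_ne [DecidableEq σ] {S : Finset σ} {m : σ} (hm : m ∉ S) : linPt κ S ≠ linPt κ (insert m S) :=
  fun h => X_notMem κ hm (by
    rw [show linIdeal κ S = linIdeal κ (insert m S) from congrArg PrimeSpectrum.asIdeal h]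
    exact Ideal.subset_span ⟨m, Finset.mem_insert_self m S, rfl⟩)

theorem linPt_specializes_insert [DecidableEq σ] (S : Finset σ) (m : σ) :
    linPt κ S ⤳ linPt κ (insert m S) :=
  (linPt_specializes κ S _).2 fun m' hm' => Ideal.subset_span ⟨m', Finset.mem_insert_of_mem hm', rfl⟩

theorem linPt_immediate [DecidableEq σ] {S : Finset σ} {m : σ} (hm : m ∉ S) (v : An κ σ)
    (h1 : linPt κ S ⤳ v) (h2 : v ⤳ linPt κ (insert m S)) : v = linPt κ S ∨ v = linPt κ (insert m S) := by
  have hle1 : linIdeal κ S ≤ v.asIdeal := (PrimeSpectrum.le_iff_specializes (linPt κ S) v).2 h1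
  have hle2 : v.asIdeal ≤ linIdeal κ (insert m S) :=
    (PrimeSpectrum.le_iff_specializes v (linPt κ (insert m S))).2 h2
  rcases eq_or_ne v.asIdeal (linIdeal κ S) with h | h
  · exact Or.inl (PrimeSpectrum.ext h)
  refine Or.inr (PrimeSpectrum.ext (le_antisymm hle2 ?_))
  let φ : MvPolynomial σ κ →+* MvPolynomial {m // m ∉ S} κ := (killVar κ S : MvPolynomial σ κ →+* _)
  have hker : RingHom.ker φ ≤ v.asIdeal := (ker_killVar κ S).le.trans hle1
  haveI : (v.asIdeal.map φ).IsPrime := Ideal.map_isPrime_of_surjective (killVar_surjective κ S) hker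
  have hne : v.asIdeal.map φ ≠ ⊥ := fun e => h (le_antisymm
    (((Ideal.map_eq_bot_iff_le_ker φ).1 e).trans (ker_killVar κ S).le) hle1)
  obtain ⟨g, hg, hgp⟩ := Ideal.IsPrime.exists_mem_prime_of_ne_bot inferInstance hne
  have hle : v.asIdeal.map φ ≤ Ideal.span {(X ⟨m, hm⟩ : MvPolynomial {m // m ∉ S} κ)} := by
    refine (Ideal.map_mono hle2).trans ?_
    rw [linIdeal, Ideal.map_span, Ideal.span_le]
    rintro _ ⟨_, ⟨m', hm', rfl⟩, rfl⟩
    show killVar κ S (X m') ∈ _
    rw [killVar, aeval_X]
    rcases Finset.mem_insert.1 hm' with e | hS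
    · rw [dif_neg (e ▸ hm), show (⟨m', e ▸ hm⟩ : {m // m ∉ S}) = ⟨m, hm⟩ from Subtype.ext e]
      exact Ideal.mem_span_singleton_self _
    · rw [dif_pos hS]
      exact zero_mem _
  have hassoc : Associated (X (⟨m, hm⟩ : {m // m ∉ S}) : MvPolynomial {m // m ∉ S} κ) g :=
    (MvPolynomial.X_prime).associated_of_dvd hgp (Ideal.mem_span_singleton.1 (hle hg))
  have hXv : (X m : MvPolynomial σ κ) ∈ v.asIdeal := by
    have h1 : φ (X m) ∈ v.asIdeal.map φ := by
      show killVar κ S (X m) ∈ _
      rw [killVar, aeval_X, dif_neg hm]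
      exact Ideal.mem_of_dvd _ hassoc.symm.dvd hg
    have h2 : (X m : MvPolynomial σ κ) ∈ (v.asIdeal.map φ).comap φ := h1
    rwa [Ideal.comap_map_of_surjective' φ (killVar_surjective κ S), sup_eq_left.2 hker] at h2
  refine Ideal.span_le.2 ?_
  rintro _ ⟨m', hm', rfl⟩
  rcases Finset.mem_insert.1 hm' with e | hS
  · rw [e]; exact hXv
  · exact hle1 (Ideal.subset_span ⟨m', hS, rfl⟩)

variable {c : ℤ} {δ : An κ σ → ℤ}

theorem setup_an (hδ : Cyc.DeltaCompat (anMap κ σ) δ fun _ => c) : Cyc.IsSetup (An κ σ) δ := by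
  haveI : LocallyOfFiniteType (anMap κ σ) :=
    (HasRingHomProperty.Spec_iff (P := @LocallyOfFiniteType)).2 (RingHom.finiteType_algebraMap.2 inferInstance)
  exact CycBivLib.isSetup_of_lft (anMap κ σ)
    (CycAffLib.isSetup_field_const (K := CommRingCat.of κ) (Field.toIsField κ) c) hδ

theorem linPt_delta (hδ : Cyc.DeltaCompat (anMap κ σ) δ fun _ => c) (S : Finset σ) :
    δ (linPt κ S) = c + (Fintype.card σ : ℤ) - S.card := by
  classical
  have hX := setup_an κ hδ
  suffices ∀ (k : ℕ) (S : Finset σ), S.card + k = Fintype.card σ → δ (linPt κ S) = c + k by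
    rw [this (Fintype.card σ - S.card) S (by have := S.card_le_univ; omega)]
    have := S.card_le_univ
    omega
  intro k
  induction k with
  | zero =>
    intro S hS
    have hU : S = Finset.univ := Finset.eq_univ_of_card S (by omega)
    haveI : IsEmpty {m // m ∉ S} := ⟨fun m => m.2 ((Finset.eq_univ_iff_forall.1 hU) m.1)⟩
    obtain ⟨w, hw⟩ : linPt κ S ∈ Set.range (linIncl κ S) := by
      rw [range_linIncl]
      exact fun m hm => Ideal.subset_span ⟨m, hm, rfl⟩
    let eA := MvPolynomial.isEmptyAlgEquiv κ {m // m ∉ S}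
    have hd : Cyc.DeltaCompat (anMap κ {m // m ∉ S}) (fun v => δ (linIncl κ S v)) fun _ => c := fun v => by
      obtain ⟨n, hn, hn'⟩ := hδ (linIncl κ S v)
      refine ⟨n, ?_, hn'⟩
      have e := AlgSpLib.resTrdeg_comp (linIncl κ S) (anMap κ σ) v
      rw [linIncl_over, CycPushLib.trdeg_preimmersion_left (linIncl κ S), add_zero] at e
      exact e.trans hn
    obtain ⟨hle, -⟩ := CycAffLib.affZero 0 κ (MvPolynomial {m // m ∉ S} κ)
      (eA.trans (MvPolynomial.isEmptyAlgEquiv κ (Fin 0)).symm) c _ hd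
    obtain ⟨n, -, hn⟩ := hd w
    have := hle w
    have hw' : δ (linPt κ S) = δ (linIncl κ S w) := by rw [hw]
    simp only at this hn
    omega
  | succ k IH =>
    intro S hS
    obtain ⟨m, hm⟩ : ∃ m, m ∉ S := by
      by_contra hc
      push Not at hc
      rw [Finset.eq_univ_iff_forall.2 hc, Finset.card_univ] at hS
      omega
    have h := (hX.2.2 _ _ (linPt_specializes_insert κ S m) (linPt_ne κ hm)).2 fun v h1 h2 =>
      linPt_immediate κ hm v h1 h2
    rw [h, IH (insert m S) (by rw [Finset.card_insert_of_notMem hm]; omega)]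
    push_cast
    ring

/-- The coordinate as a rational function. -/
def coordFun (p : MvPolynomial σ κ) (ξ : An κ σ) : (An κ σ).residueField ξ :=
  (An κ σ).evaluation ⊤ ξ trivial ((Scheme.ΓSpecIso (CommRingCat.of (MvPolynomial σ κ))).inv p)

theorem coordFun_ne_zero_iff (p : MvPolynomial σ κ) (ξ : An κ σ) : coordFun κ p ξ ≠ 0 ↔ p ∉ ξ.asIdeal := by
  rw [coordFun, Scheme.evaluation_ne_zero_iff_mem_basicOpen, AlgebraicGeometry.basicOpen_eq_of_affine]
  rfl

/-- The divisor of a coordinate on a coordinate subspace is the next coordinate subspace. -/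
theorem divFun_coord [DecidableEq σ] (hδ : Cyc.DeltaCompat (anMap κ σ) δ fun _ => c) {S : Finset σ} {m : σ}
    (hm : m ∉ S) (z : An κ σ) :
    (z = linPt κ (insert m S) → Cyc.divFun δ (linPt κ S) (coordFun κ (X m) (linPt κ S)) z = 1) ∧
      (z ≠ linPt κ (insert m S) → Cyc.divFun δ (linPt κ S) (coordFun κ (X m) (linPt κ S)) z = 0) := by
  have hX := setup_an κ hδ
  haveI := hX.1
  let P := CommRingCat.of (MvPolynomial σ κ)
  let ξ := linPt κ S
  let T := linPt κ (insert m S)
  let φ : P ⟶ (An κ σ).presheaf.stalk z := (Scheme.ΓSpecIso P).inv ≫ (An κ σ).presheaf.germ ⊤ z trivial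
  letI : Algebra P ((An κ σ).presheaf.stalk z) := φ.hom.toAlgebra
  haveI : IsLocalization.AtPrime ((An κ σ).presheaf.stalk z) z.asIdeal := StructureSheaf.IsLocalization.to_stalk P z
  have hTd : δ T + 1 = δ ξ := by
    rw [linPt_delta κ hδ, linPt_delta κ hδ, Finset.card_insert_of_notMem hm]
    push_cast
    ring
  have hg : coordFun κ (X m) ξ ≠ 0 := (coordFun_ne_zero_iff κ _ _).2 (X_notMem κ hm)
  by_cases hd : ξ ⤳ z ∧ δ z + 1 = δ ξ
  swap
  · refine ⟨fun e => absurd ⟨e ▸ linPt_specializes_insert κ S m, e ▸ hTd⟩ hd, fun _ => dif_neg hd⟩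
  have hspec : Cyc.specMap z ξ hd.1 (φ (X m)) = coordFun κ (X m) ξ :=
    CycPushLib.specMap_germ hd.1 (U := ⊤) trivial trivial _
  have hprime : (CycDivLib.primeOf hd.1).asIdeal = Ideal.map (algebraMap P ((An κ σ).presheaf.stalk z)) (linIdeal κ S) := by
    have h := CycDivLib.stalkPt_primeOf hd.1
    rw [show EquidimLib.stalkPt z = fun q => Spec.map φ q from by
      funext q
      show (An κ σ).fromSpecStalk z q = _
      rw [Spec.fromSpecStalk_eq]] at h
    have h' : (CycDivLib.primeOf hd.1).asIdeal.comap (algebraMap P ((An κ σ).presheaf.stalk z)) = linIdeal κ S :=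
      congrArg PrimeSpectrum.asIdeal h
    rw [← h', IsLocalization.map_comap z.asIdeal.primeCompl]
  have hI : (CycDivLib.primeOf hd.1).asIdeal ⊔ Ideal.span {φ (X m)} =
      Ideal.map (algebraMap P ((An κ σ).presheaf.stalk z)) (linIdeal κ (insert m S)) := by
    rw [hprime, show linIdeal κ (insert m S) = linIdeal κ S ⊔ Ideal.span {(X m : MvPolynomial σ κ)} by
      rw [linIdeal, linIdeal, ← Ideal.span_union, Finset.coe_insert, Set.image_insert_eq, Set.union_singleton],
      Ideal.map_sup, Ideal.map_span, Set.image_singleton]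
    rfl
  rw [Cyc.divFun, dif_pos hd, ← hspec, CycDivLib.ordAt_specMap hd.1
    (CycPushLib.dimBetween_le_one_of_drop hX hd.1 hd.2) (by rw [hspec]; exact hg), hI]
  refine ⟨fun e => ?_, fun e => ?_⟩
  · subst e
    haveI : IsSimpleModule ((An κ σ).presheaf.stalk T)
        ((An κ σ).presheaf.stalk T ⧸ Ideal.map (algebraMap P ((An κ σ).presheaf.stalk T)) (linIdeal κ (insert m S))) := by
      rw [isSimpleModule_iff_isCoatom, ← Ideal.isMaximal_def,
        show linIdeal κ (insert m S) = T.asIdeal from rfl,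
        IsLocalization.AtPrime.map_eq_maximalIdeal T.asIdeal ((An κ σ).presheaf.stalk T)]
      exact maximalIdeal.isMaximal _
    rw [Module.length_eq_one]
    rfl
  · have hnle : ¬ linIdeal κ (insert m S) ≤ z.asIdeal := fun hle => by
      have hs : T ⤳ z := (PrimeSpectrum.le_iff_specializes T z).1 hle
      have := (hX.2.2 T z hs (Ne.symm e)).1
      omega
    obtain ⟨a, ha, haz⟩ := SetLike.not_le_iff_exists.1 hnle
    haveI : Subsingleton ((An κ σ).presheaf.stalk z ⧸
        Ideal.map (algebraMap P ((An κ σ).presheaf.stalk z)) (linIdeal κ (insert m S))) :=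
      Ideal.Quotient.subsingleton_iff.2 (Ideal.eq_top_of_isUnit_mem _ (Ideal.mem_map_of_mem _ ha)
        (IsLocalization.map_units (M := z.asIdeal.primeCompl) _ ⟨a, haz⟩))
    rw [Module.length_eq_zero]
    rfl

end CycPBLib

end
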