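import Mathlib
import Groth.Agent.CycPBLib.LinPoly
import Groth.Agent.CycPBLib.Charts
import Groth.Agent.CycAffLib.Fibre
import Groth.Agent.CycC1Lib.Cap

/-!
# The fibres of a projective bundle: coordinate subspaces
-/

set_option autoImplicit false
set_option linter.style.haveILetI false
set_option linter.unusedSectionVars false

universe u

open AlgebraicGeometry CategoryTheory CategoryTheory.Limits MvPolynomial

noncomputable section

namespace CycPBLib

open CycC1Lib (fib)

theorem isPullback_comp_mono {A B C S T : Scheme.{u}} {a : A ⟶ B} {b : A ⟶ C} {f : B ⟶ S} {g : C ⟶ S}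
    (h : IsPullback a b f g) (m : S ⟶ T) [Mono m] : IsPullback a b (f ≫ m) (g ≫ m) :=
  IsPullback.of_isLimit' ⟨by rw [← Category.assoc, h.w, Category.assoc]⟩
    (PullbackCone.isLimitAux' _ fun s =>
      ⟨h.lift s.fst s.snd ((cancel_mono m).1 (by simpa only [Category.assoc] using s.condition)),
        h.lift_fst _ _ _, h.lift_snd _ _ _, fun h1 h2 =>
          h.hom_ext (h1.trans (h.lift_fst _ _ _).symm) (h2.trans (h.lift_snd _ _ _).symm)⟩)

/-- The index type of coordinates. -/
abbrev sn (n : ℕ) : Type u := ULift.{u} (Fin n)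

/-- The first `i` coordinates. -/
def Sset (n i : ℕ) : Finset (sn.{u} n) := Finset.univ.filter fun m => (m.down : ℕ) < i

theorem mem_Sset {n i : ℕ} {m : sn.{u} n} : m ∈ Sset n i ↔ (m.down : ℕ) < i := by
  simp [Sset]

theorem card_Sset {n i : ℕ} (h : i ≤ n) : (Sset.{u} n i).card = i := by
  classical
  have e : Sset.{u} n i = Finset.univ.image fun m : Fin i => (ULift.up.{u} (Fin.castLE h m) : sn.{u} n) := by
    ext m
    simp only [mem_Sset, Finset.mem_image, Finset.mem_univ, true_and]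
    refine ⟨fun hm => ⟨⟨m.down, hm⟩, rfl⟩, ?_⟩
    rintro ⟨a, rfl⟩
    exact a.2
  rw [e, Finset.card_image_of_injective _ (show Function.Injective fun m : Fin i => (ULift.up.{u} (Fin.castLE h m) : sn.{u} n) from
    fun a b hab => Fin.castLE_injective h (congrArg ULift.down hab)), Finset.card_univ, Fintype.card_fin]

theorem succAbove_val_lt_iff {n : ℕ} (j : Fin (n + 1)) (m : Fin n) {i : ℕ} (h : i ≤ (j : ℕ)) :
    (j.succAbove m : ℕ) < i ↔ (m : ℕ) < i := by
  rcases Fin.castSucc_lt_or_lt_succ j m with hm | hm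
  · rw [Fin.succAbove_of_castSucc_lt _ _ hm, Fin.val_castSucc]
  · rw [Fin.succAbove_of_lt_succ _ _ hm, Fin.val_succ]
    have : (j : ℕ) < (m : ℕ) + 1 := hm
    omega

theorem exists_succAbove_val {n : ℕ} (j : Fin (n + 1)) {i : ℕ} (h : i < (j : ℕ)) :
    ∃ m : Fin n, (m : ℕ) = i ∧ j.succAbove m = ⟨i, h.trans j.2⟩ := by
  refine ⟨⟨i, by omega⟩, rfl, ?_⟩
  rw [Fin.succAbove_of_castSucc_lt _ _ (show Fin.castSucc ⟨i, _⟩ < j from h)]
  rfl

variable {X P : Scheme.{u}} {p : P ⟶ X} {O1 : P.Modules} {n : ℕ}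

namespace LocData

variable (L : LocData p O1 n) {η : X} (hη : η ∈ L.U)

/-- The residue field evaluation. -/
abbrev χ : CommRingCat.of Γ(X, L.U) ⟶ X.residueField η := X.evaluation L.U η hη

theorem SpecMap_χ : Spec.map (L.χ hη) ≫ L.hU.fromSpec = X.fromSpecResidueField η := by
  rw [Scheme.fromSpecResidueField, ← L.hU.fromSpecStalk_eq_fromSpecStalk hη, IsAffineOpen.fromSpecStalk,
    ← Spec.map_comp_assoc]
  rfl

/-- The chart of the fibre. -/
def q (j : Fin (n + 1)) : An (X.residueField η) (sn n) ⟶ P :=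
  Spec.map (CommRingCat.ofHom (MvPolynomial.map (σ := sn n) (L.χ hη).hom)) ≫ L.c j

theorem isPullback_poly : IsPullback
    (Spec.map (CommRingCat.ofHom (MvPolynomial.map (σ := sn n) (L.χ hη).hom)))
    (anMap (X.residueField η) (sn n))
    (Spec.map (CommRingCat.ofHom (C : Γ(X, L.U) →+* Pol Γ(X, L.U) n))) (Spec.map (L.χ hη)) := by
  letI : Algebra Γ(X, L.U) (X.residueField η) := (L.χ hη).hom.toAlgebra
  letI : Algebra (Pol Γ(X, L.U) n) (MvPolynomial (sn n) (X.residueField η)) := MvPolynomial.algebraMvPolynomial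
  exact isPullback_SpecMap_of_isPushout _ _ _ _
    (CommRingCat.isPushout_of_isPushout Γ(X, L.U) (Pol Γ(X, L.U) n) (X.residueField η)
      (MvPolynomial (sn n) (X.residueField η)))

theorem isPullback_q (j : Fin (n + 1)) :
    IsPullback (Spec.map (CommRingCat.ofHom (MvPolynomial.map (σ := sn n) (L.χ hη).hom)))
      (anMap (X.residueField η) (sn n)) (L.c j ≫ p) (X.fromSpecResidueField η) := by
  rw [L.over_, ← L.SpecMap_χ hη]
  exact isPullback_comp_mono (L.isPullback_poly hη) L.hU.fromSpec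

theorem q_over (j : Fin (n + 1)) : L.q hη j ≫ p = anMap (X.residueField η) (sn n) ≫ X.fromSpecResidueField η := by
  rw [q, Category.assoc, (L.isPullback_q hη j).w]

theorem preimm (j : Fin (n + 1)) : IsPreimmersion (L.q hη j) := by
  haveI := CycAffLib.isPreimmersion_of_isPullback (L.isPullback_q hη j)
  haveI := L.openImm j
  exact IsPreimmersion.comp _ _

theorem p_q (j : Fin (n + 1)) (w : An (X.residueField η) (sn n)) : p (L.q hη j w) = η :=
  (CycAffLib.range_of_isPullback (L.isPullback_q hη j)).le ⟨w, rfl⟩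

theorem exists_q_eq {j : Fin (n + 1)} {z : P} (hz : p z = η) (hj : z ∈ L.D j) : ∃ w, L.q hη j w = z := by
  obtain ⟨a, rfl⟩ := (L.range_c j).ge hj
  obtain ⟨w, hw⟩ := (CycAffLib.range_of_isPullback (L.isPullback_q hη j)).ge (show a ∈ (L.c j ≫ p) ⁻¹' {η} from hz)
  exact ⟨w, congrArg (L.c j) hw⟩

theorem q_mem_D (j : Fin (n + 1)) (w : An (X.residueField η) (sn n)) : L.q hη j w ∈ L.D j :=
  (L.range_c j).le ⟨_, rfl⟩

theorem q_mem_D_iff (j : Fin (n + 1)) (m : sn n) (w : An (X.residueField η) (sn n)) :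
    L.q hη j w ∈ L.D (j.succAbove m.down) ↔ (MvPolynomial.X m : MvPolynomial (sn n) (X.residueField η)) ∉ w.asIdeal := by
  show Spec.map (CommRingCat.ofHom (MvPolynomial.map (σ := sn n) (L.χ hη).hom)) w ∈
    L.c j ⁻¹ᵁ L.D (j.succAbove m.down) ↔ _
  rw [L.inter j m]
  show MvPolynomial.map (L.χ hη).hom (MvPolynomial.X m) ∉ w.asIdeal ↔ _
  rw [MvPolynomial.map_X]

/-- The generic point of `e_0 = ⋯ = e_{i-1} = 0` seen in the chart `j`. -/
def pt (j : Fin (n + 1)) (i : ℕ) : P := L.q hη j (linPt (X.residueField η) (Sset n i))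

/-- The generic point of `e_0 = ⋯ = e_{i-1} = 0`. -/
def lp (i : Fin (n + 1)) : P := L.pt hη i i

theorem notMem_D_pt {j : Fin (n + 1)} {i : ℕ} (hij : i ≤ (j : ℕ)) {k : Fin (n + 1)} (hk : (k : ℕ) < i) :
    L.pt hη j i ∉ L.D k := by
  obtain ⟨m, hm, hs⟩ := exists_succAbove_val j (hk.trans_le hij)
  rw [show k = j.succAbove m from hs.symm, pt, show m = (ULift.up.{u} m).down from rfl, q_mem_D_iff, not_not]
  exact Ideal.subset_span ⟨_, mem_Sset.2 (by simpa [hm] using hk), rfl⟩

theorem mem_D_pt {j i : Fin (n + 1)} (hij : i ≤ j) : L.pt hη j i ∈ L.D i := by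
  rcases eq_or_lt_of_le hij with h | h
  · rw [h]; exact L.q_mem_D hη j _
  · obtain ⟨m, hm, hs⟩ := exists_succAbove_val j (show (i : ℕ) < (j : ℕ) from h)
    rw [show L.D i = L.D (j.succAbove m) from congrArg L.D hs.symm, pt, show m = (ULift.up.{u} m).down from rfl,
      q_mem_D_iff]
    exact X_notMem _ fun h' => absurd (mem_Sset.1 h') (by simp [hm])

theorem pt_specializes {j : Fin (n + 1)} {i : ℕ} (hij : i ≤ (j : ℕ)) {z : P} (hz : p z = η) (hj : z ∈ L.D j)
    (hv : ∀ k : Fin (n + 1), (k : ℕ) < i → z ∉ L.D k) : L.pt hη j i ⤳ z := by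
  obtain ⟨w, rfl⟩ := L.exists_q_eq hη hz hj
  refine Specializes.map ((linPt_specializes _ _ w).2 fun m hm => ?_) (L.q hη j).continuous
  have hk := hv (j.succAbove m.down) ((succAbove_val_lt_iff j m.down hij).2 (mem_Sset.1 hm))
  rwa [q_mem_D_iff, not_not] at hk

theorem p_lp (i : Fin (n + 1)) : p (L.lp hη i) = η := L.p_q hη _ _

theorem lp_mem_D (i : Fin (n + 1)) : L.lp hη i ∈ L.D i := L.mem_D_pt hη le_rfl

theorem lp_notMem_D {i k : Fin (n + 1)} (hk : k < i) : L.lp hη i ∉ L.D k := L.notMem_D_pt hη le_rfl hk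

theorem pt_eq_lp {j i : Fin (n + 1)} (hij : i ≤ j) : L.pt hη j i = L.lp hη i := by
  have h1 : L.lp hη i ⤳ L.pt hη j i :=
    L.pt_specializes hη le_rfl (L.p_q hη _ _) (L.mem_D_pt hη hij) fun k hk => L.notMem_D_pt hη hij hk
  have h2 : L.lp hη i ∈ L.D j := h1.mem_open (L.D j).isOpen (L.q_mem_D hη j _)
  exact ((L.pt_specializes hη hij (L.p_lp hη i) h2 fun k hk => L.notMem_D_pt hη le_rfl hk).antisymm h1).eq

theorem lp_specializes {i : Fin (n + 1)} {z : P} (hz : p z = η) (hv : ∀ k < i, z ∉ L.D k) :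
    L.lp hη i ⤳ z := by
  obtain ⟨j, hj⟩ := L.cover z (hz.symm ▸ hη)
  have hij : i ≤ j := le_of_not_gt fun h => hv j h hj
  exact L.pt_eq_lp hη hij ▸ L.pt_specializes hη hij hz hj fun k hk => hv k hk

theorem notMem_of_lp_specializes {i k : Fin (n + 1)} {z : P} (h : L.lp hη i ⤳ z) (hk : k < i) : z ∉ L.D k :=
  fun hz => L.lp_notMem_D hη hk (h.mem_open (L.D k).isOpen hz)

theorem lp_injective : Function.Injective (L.lp hη) := fun a b h => by
  by_contra hne
  rcases lt_or_gt_of_ne hne with hlt | hlt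
  · exact L.lp_notMem_D hη hlt (h ▸ L.lp_mem_D hη a)
  · exact L.lp_notMem_D hη hlt (h ▸ L.lp_mem_D hη b)

variable {δX : X → ℤ} {δP : P → ℤ}

theorem deltaCompat_q (hδ : Cyc.DeltaCompat p δP δX) (j : Fin (n + 1)) :
    Cyc.DeltaCompat (anMap (X.residueField η) (sn n)) (fun w => δP (L.q hη j w)) fun _ => δX η := fun w => by
  haveI := L.preimm hη j
  obtain ⟨a, ha, ha'⟩ := hδ (L.q hη j w)
  refine ⟨a, ?_, ?_⟩
  · have e := AlgSpLib.resTrdeg_comp (L.q hη j) p w
    rw [L.q_over hη j, AlgSpLib.resTrdeg_comp (anMap (X.residueField η) (sn n)) (X.fromSpecResidueField η) w,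
      CycPushLib.trdeg_preimmersion_left (L.q hη j),
      CycPushLib.trdeg_preimmersion_left (X.fromSpecResidueField η), add_zero, zero_add] at e
    exact e.trans ha
  · rw [L.p_q hη j w] at ha'
    exact ha'

theorem delta_lp (hδ : Cyc.DeltaCompat p δP δX) (i : Fin (n + 1)) :
    δP (L.lp hη i) = δX η + n - (i : ℕ) := by
  refine (linPt_delta _ (L.deltaCompat_q hη hδ i) (Sset n i)).trans ?_
  rw [card_Sset (Nat.le_of_lt_succ i.2), Fintype.card_ulift, Fintype.card_fin]

theorem lp_zero_specializes {z : P} (hz : p z = η) : L.lp hη 0 ⤳ z :=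
  L.lp_specializes hη hz fun k hk => absurd hk (Fin.not_lt_zero k)

theorem delta_le (hP : Cyc.IsSetup P δP) (hδ : Cyc.DeltaCompat p δP δX) {z : P} (hz : p z = η) :
    δP z ≤ δX η + n ∧ (δP z = δX η + n → z = L.lp hη 0) := by
  have h0 := L.delta_lp hη hδ 0
  simp only [Fin.val_zero, Nat.cast_zero, sub_zero] at h0
  by_cases hne : L.lp hη 0 = z
  · subst hne
    exact ⟨h0.le, fun _ => rfl⟩
  · have := (hP.2.2 _ _ (L.lp_zero_specializes hη hz) hne).1
    exact ⟨by omega, fun h => by omega⟩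

theorem isGen_iff (z : P) (hz : p z = η) : CycLimLib.IsGen p z ↔ z = L.lp hη 0 := by
  refine ⟨fun h => (h _ ((L.p_lp hη 0).trans hz.symm) (L.lp_zero_specializes hη hz)).symm, ?_⟩
  rintro rfl y hy hys
  exact (hys.antisymm (L.lp_zero_specializes hη (hy.trans (L.p_lp hη 0)))).eq

theorem exists_lift (j : Fin (n + 1)) : ∃ φ : An (X.residueField η) (sn n) ⟶ p.fiber η,
    IsOpenImmersion φ ∧ φ ≫ p.fiberι η = L.q hη j := by
  haveI := L.openImm j
  let φ : An (X.residueField η) (sn n) ⟶ p.fiber η :=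
    pullback.lift (L.q hη j) (anMap (X.residueField η) (sn n)) (L.q_over hη j)
  have hf : IsPullback (p.fiberι η) (pullback.snd p (X.fromSpecResidueField η)) p (X.fromSpecResidueField η) :=
    IsPullback.of_hasPullback p (X.fromSpecResidueField η)
  have h1 : φ ≫ p.fiberι η = L.q hη j := pullback.lift_fst _ _ _
  have h2 : φ ≫ pullback.snd p (X.fromSpecResidueField η) = anMap (X.residueField η) (sn n) :=
    pullback.lift_snd _ _ _
  have hs : IsPullback (Spec.map (CommRingCat.ofHom (MvPolynomial.map (σ := sn n) (L.χ hη).hom)))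
      (φ ≫ pullback.snd p (X.fromSpecResidueField η)) (L.c j ≫ p) (X.fromSpecResidueField η) := by
    rw [h2]; exact L.isPullback_q hη j
  exact ⟨φ, MorphismProperty.of_isPullback (IsPullback.of_bot hs h1.symm hf) (L.openImm j), h1⟩

include hη in
theorem isIntegral_fiber : IsIntegral (p.fiber η) := by
  haveI : IsReduced (p.fiber η) := by
    refine @isReduced_of_isReduced_stalk _ fun v => ?_
    obtain ⟨j, hj⟩ := L.cover (p.fiberι η v) (((p.range_fiberι η).le ⟨v, rfl⟩ : p (p.fiberι η v) = η).symm ▸ hη)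
    obtain ⟨φ, hφ, hφq⟩ := L.exists_lift hη j
    obtain ⟨w, hw⟩ := L.exists_q_eq hη ((p.range_fiberι η).le ⟨v, rfl⟩) hj
    have e : φ w = v := (p.fiberι η).isEmbedding.injective (by
      rw [← Scheme.Hom.comp_apply, hφq, hw])
    exact e ▸ isReduced_of_injective (φ.stalkMap w).hom (ConcreteCategory.bijective_of_isIso (φ.stalkMap w)).1
  obtain ⟨v₀, hv₀⟩ := (p.range_fiberι η).ge (L.p_lp hη 0)
  haveI : IrreducibleSpace (p.fiber η) := by
    have hu : (Set.univ : Set ↥(p.fiber η)) = closure {v₀} := (Set.eq_univ_of_forall fun v =>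
      specializes_iff_mem_closure.1 ((p.fiberι η).isEmbedding.isInducing.specializes_iff.1 (by
        rw [hv₀]; exact L.lp_zero_specializes hη ((p.range_fiberι η).le ⟨v, rfl⟩)))).symm
    refine (irreducibleSpace_def _).2 ?_
    rw [Set.top_eq_univ, hu]
    exact isIrreducible_singleton.closure
  exact isIntegral_of_irreducibleSpace_of_isReduced _

theorem length_lp_zero :
    Module.length (P.presheaf.stalk (L.lp hη 0))
      (P.presheaf.stalk (L.lp hη 0) ⧸ CycLimLib.fibIdeal p (L.lp hη 0)) = 1 :=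
  CycAffLib.length_eq_one_of_integral p ((L.p_lp hη 0).symm ▸ L.isIntegral_fiber hη)
    ((L.isGen_iff hη _ (L.p_lp hη 0)).2 rfl)

/-- The divisor of the `i`-th coordinate section on the `i`-th linear subspace, inside the fibre. -/
theorem secDivFun_lp (hP : Cyc.IsSetup P δP) (hδ : Cyc.DeltaCompat p δP δX) {i i' : Fin (n + 1)}
    (hi : (i : ℕ) + 1 = i') (h : L.lp hη i ∈ p ⁻¹ᵁ L.U) {z : P} (hz : p z = η) :
    Cyc.secDivFun δP O1 (L.lp hη i) (fib O1 (O1.presheaf.germ (p ⁻¹ᵁ L.U) (L.lp hη i) h (L.e i))) z =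
      open Classical in if z = L.lp hη i' then 1 else 0 := by
  classical
  haveI := hP.1
  by_cases hd : L.lp hη i ⤳ z ∧ δP z + 1 = δP (L.lp hη i)
  swap
  · rw [CycC1Lib.secDivFun_eq_zero_of_not hd, if_neg]
    rintro rfl
    refine hd ⟨L.lp_specializes hη hz fun k hk => L.lp_notMem_D hη (hk.trans (show i < i' from by
      show (i : ℕ) < i'
      omega)), ?_⟩
    rw [L.delta_lp hη hδ, L.delta_lp hη hδ, ← hi]
    push_cast
    ring
  obtain ⟨j, hj⟩ := L.cover z (hz.symm ▸ hη)
  have hij : i ≤ j := le_of_not_gt fun hlt => L.notMem_of_lp_specializes hη hd.1 hlt hj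
  have hlj : L.lp hη i ∈ L.D j := hd.1.mem_open (L.D j).isOpen hj
  rcases eq_or_lt_of_le hij with rfl | hlt
  · rw [if_neg (fun e => L.lp_notMem_D hη (show i < i' from by
        show (i : ℕ) < i'
        omega) (show L.lp hη i' ∈ L.D i by rw [← e]; exact hj)),
      CycC1Lib.secDivFun_eq_divFun hP (L.gen i) hj hlj (φ := 1) (by
        rw [one_smul, AmpleLib.germ_res]), map_one]
    rw [Cyc.divFun, dif_pos hd, show (1 : P.residueField (L.lp hη i)) = Cyc.specMap z _ hd.1 1 from (map_one _).symm,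
      CycDivLib.ordAt_specMap hd.1 (CycPushLib.dimBetween_le_one_of_drop hP hd.1 hd.2) (by rw [map_one]; exact one_ne_zero)]
    haveI : Subsingleton (P.presheaf.stalk z ⧸ (CycDivLib.primeOf hd.1).asIdeal ⊔ Ideal.span {(1 : P.presheaf.stalk z)}) :=
      Ideal.Quotient.subsingleton_iff.2 (by rw [Ideal.span_singleton_one, sup_top_eq])
    rw [Module.length_eq_zero]
    rfl
  obtain ⟨m, hm, hs⟩ := exists_succAbove_val j (show (i : ℕ) < (j : ℕ) from hlt)
  obtain ⟨t, ht, htX⟩ := L.coord j (ULift.up m)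
  have he : O1.presheaf.germ (p ⁻¹ᵁ L.U) (L.lp hη i) h (L.e i) =
      P.presheaf.germ (L.D j) _ hlj t •
        O1.presheaf.germ (L.D j) _ hlj (AmpleLib.res O1 (L.le j) (L.e j)) := by
    rw [← AmpleLib.germ_smul, ← ht, AmpleLib.germ_res, show j.succAbove (ULift.up.{u} m).down = i from hs]
  have hcoord : ∀ w (hw : L.q hη j w ∈ L.D j), (L.q hη j).residueFieldMap w
      (P.residue _ (P.presheaf.germ (L.D j) _ hw t)) =
        coordFun (X.residueField η) (MvPolynomial.X (ULift.up.{u} m)) w := fun w hw => by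
    refine (Scheme.evaluation_naturality_apply (L.q hη j) w hw t).trans ?_
    let ψ := CommRingCat.ofHom (MvPolynomial.map (σ := sn n) (L.χ hη).hom)
    have htop : (⊤ : (An (X.residueField η) (sn n)).Opens) ≤ L.q hη j ⁻¹ᵁ L.D j := fun v _ => L.q_mem_D hη j v
    have happ : (L.q hη j).appLE (L.D j) ⊤ htop t =
        (Scheme.ΓSpecIso (CommRingCat.of (MvPolynomial (sn n) (X.residueField η)))).inv
          (MvPolynomial.X (ULift.up.{u} m)) := by
      show (Spec.map ψ ≫ L.c j).appLE (L.D j) ⊤ htop t = _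
      rw [← Scheme.Hom.appLE_comp_appLE _ _ (L.D j) ⊤ ⊤ (L.top_le j) le_top, CommRingCat.comp_apply, htX,
        appLE_top, ← CommRingCat.comp_apply]
      refine (congr($(Scheme.ΓSpecIso_inv_naturality ψ) (MvPolynomial.X (ULift.up.{u} m)))).symm.trans ?_
      rw [CommRingCat.comp_apply]
      exact congrArg _ (MvPolynomial.map_X _ _)
    rw [coordFun, ← happ, Scheme.Hom.appLE, CommRingCat.comp_apply]
    show _ = (An (X.residueField η) (sn n)).residue w ((An (X.residueField η) (sn n)).presheaf.germ ⊤ w trivial _)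
    rw [TopCat.Presheaf.germ_res_apply]
    rfl
  rw [CycC1Lib.secDivFun_eq_divFun hP (L.gen j) hj hlj (φ := P.presheaf.germ (L.D j) _ hlj t) (by rw [he]; rfl)]
  haveI := L.preimm hη j
  obtain ⟨w, rfl⟩ := L.exists_q_eq hη hz hj
  have hW := setup_an (X.residueField η) (L.deltaCompat_q hη hδ j)
  have hζ : L.q hη j (linPt (X.residueField η) (Sset n i)) = L.lp hη i := L.pt_eq_lp hη hij
  have hnot : ULift.up.{u} m ∉ Sset n i := fun hh => absurd (mem_Sset.1 hh) (by simp [hm])
  have hins : insert (ULift.up.{u} m) (Sset n (i : ℕ)) = Sset n (i' : ℕ) := by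
    ext a
    simp only [Finset.mem_insert, mem_Sset]
    constructor
    · rintro (rfl | ha)
      · simp only; omega
      · omega
    · intro ha
      by_cases hai : (a.down : ℕ) < i
      · exact Or.inr hai
      · exact Or.inl (congrArg ULift.up (Fin.ext (by omega) : a.down = m))
  have hi'j : i' ≤ j := by
    show (i' : ℕ) ≤ j
    have : (i : ℕ) < j := hlt
    omega
  have key : ∀ ξ (hξj : ξ ∈ L.D j), ξ = L.q hη j (linPt (X.residueField η) (Sset n i)) →
      Cyc.divFun δP ξ (P.residue ξ (P.presheaf.germ (L.D j) ξ hξj t)) (L.q hη j w) =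
        if w = linPt (X.residueField η) (Sset n (i' : ℕ)) then 1 else 0 := by
    rintro ξ hξj rfl
    have hne : P.residue _ (P.presheaf.germ (L.D j) _ hξj t) ≠ 0 := fun e0 => by
      have := hcoord _ hξj
      rw [e0, map_zero] at this
      exact (coordFun_ne_zero_iff _ _ _).2 (X_notMem _ hnot) this.symm
    rw [CycAffLib.divFun_preimmersion (L.q hη j) hP hW _ w hne, hcoord _ hξj, ← hins]
    obtain ⟨h1, h2⟩ := divFun_coord (X.residueField η) (L.deltaCompat_q hη hδ j) hnot w
    split_ifs with hw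
    · exact h1 hw
    · exact h2 hw
  rw [key _ hlj hζ.symm]
  have hiff : L.q hη j w = L.lp hη i' ↔ w = linPt (X.residueField η) (Sset n (i' : ℕ)) := by
    rw [← L.pt_eq_lp hη hi'j]
    exact (L.q hη j).isEmbedding.injective.eq_iff
  simp only [hiff]

end LocData

end CycPBLib

end
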