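import Mathlib
import Groth.Agent.CycPBLib.Fibre
import Groth.Agent.CycBivLib.Birational

/-!
# The last coordinate point of a fibre is rational
-/

set_option autoImplicit false
set_option linter.style.haveILetI false
set_option linter.unusedSectionVars false

universe u

open AlgebraicGeometry CategoryTheory CategoryTheory.Limits MvPolynomial

noncomputable section

namespace CycPBLib

variable {X P : Scheme.{u}} {p : P ⟶ X} {O1 : P.Modules} {n : ℕ}

theorem residueDegree_eq_one_of_bijective {T S : Scheme.{u}} (f : T ⟶ S) (x : T)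
    (hb : Function.Bijective (f.residueFieldMap x).hom) : f.residueDegree x = 1 := by
  unfold AlgebraicGeometry.Scheme.Hom.residueDegree
  letI := (f.residueFieldMap x).hom.toAlgebra
  rw [← Algebra.finrank_eq_of_equiv_equiv (RingEquiv.refl (S.residueField (f x)))
    (RingEquiv.ofBijective _ hb) (by ext; rfl)]
  exact Module.finrank_self _

namespace LocData

variable (L : LocData p O1 n) {η : X} (hη : η ∈ L.U) {δX : X → ℤ} {δP : P → ℤ}

theorem residueDegree_lp_last (hP : Cyc.IsSetup P δP) (hδ : Cyc.DeltaCompat p δP δX) :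
    p.residueDegree (L.lp hη (Fin.last n)) = 1 := by
  let κ := X.residueField η
  let ev : MvPolynomial (sn n) κ →+* κ := MvPolynomial.eval₂Hom (RingHom.id κ) fun _ => 0
  let pr : Spec κ ⟶ An κ (sn n) := Spec.map (CommRingCat.ofHom ev)
  let σ : Spec κ ⟶ P := pr ≫ L.q hη (Fin.last n)
  have hσ : σ ≫ p = X.fromSpecResidueField η := by
    show (pr ≫ L.q hη (Fin.last n)) ≫ p = _
    rw [Category.assoc, L.q_over hη, ← Category.assoc, ← Spec.map_comp]
    refine (congrArg (· ≫ _) (?_ : _ = 𝟙 (Spec κ))).trans (Category.id_comp _)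
    rw [← Spec.map_id]
    refine congrArg Spec.map (CommRingCat.hom_ext (RingHom.ext fun r => ?_))
    exact eval₂Hom_C _ _ r
  let a : Spec κ := (⊥ : PrimeSpectrum κ)
  have hpa : p (σ a) = η := L.p_q hη _ _
  have hspec : L.lp hη (Fin.last n) ⤳ σ a := L.lp_specializes hη hpa fun k hk => by
    obtain ⟨m, -, hs⟩ := exists_succAbove_val (Fin.last n) (show (k : ℕ) < (Fin.last n : ℕ) from hk)
    rw [show k = (Fin.last n).succAbove (ULift.up.{u} m).down from hs.symm]
    show L.q hη _ (pr a) ∉ _
    rw [q_mem_D_iff, not_not]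
    show ev (MvPolynomial.X _) ∈ a.asIdeal
    rw [show ev (MvPolynomial.X (ULift.up.{u} m)) = 0 from eval₂Hom_X' _ _ _]
    exact Ideal.zero_mem _
  have heq : σ a = L.lp hη (Fin.last n) := by
    by_contra hne
    have h1 := (hP.2.2 _ _ hspec (Ne.symm hne)).1
    obtain ⟨m, -, hm⟩ := hδ (σ a)
    have h2 := L.delta_lp hη hδ (Fin.last n)
    rw [hpa] at hm
    rw [Fin.val_last] at h2
    omega
  have key : ∀ g : Spec κ ⟶ X, g = X.fromSpecResidueField η → Function.Bijective (g.residueFieldMap a).hom := by
    rintro g rfl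
    exact CycPushLib.residueFieldMap_bijective _ a
  have hc : Function.Bijective (⇑(σ.residueFieldMap a).hom ∘ ⇑(p.residueFieldMap (σ a)).hom) := by
    have hc := key _ hσ
    rw [Scheme.residueFieldMap_comp] at hc
    exact hc
  have hsurj : Function.Surjective (σ.residueFieldMap a).hom :=
    Function.Surjective.of_comp (f := (σ.residueFieldMap a).hom) hc.2
  have hσb : Function.Bijective (σ.residueFieldMap a).hom := ⟨RingHom.injective _, hsurj⟩
  rw [← heq]
  exact residueDegree_eq_one_of_bijective p (σ a)
    ((Function.Bijective.of_comp_iff' hσb _).1 hc)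

end LocData

end CycPBLib

end
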