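import Mathlib
import Groth.Agent.CycPBLib.Fibre
import Groth.Agent.CycAffLib.Strata

/-!
# Every cycle in a fibre of a projective bundle is a combination of coordinate subspaces
-/

set_option autoImplicit false
set_option linter.style.haveILetI false
set_option linter.unusedSectionVars false

universe u

open AlgebraicGeometry CategoryTheory CategoryTheory.Limits MvPolynomial

noncomputable section

namespace CycPBLib

open CycBivLib (pointCycle)
open CycSeqLib (Fam)

variable {X P : Scheme.{u}} {p : P ⟶ X} {O1 : P.Modules} {n : ℕ}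

namespace LocData

variable (L : LocData p O1 n) {η : X} (hη : η ∈ L.U) {δX : X → ℤ} {δP : P → ℤ}

include hη in
/-- A stratum is a copy of affine space. -/
theorem exists_stratum (i : Fin (n + 1)) :
    ∃ (m : ℕ) (V : (Spec (CommRingCat.of (MvPolynomial (Fin m) (X.residueField η)))).Opens)
      (e : (V : Scheme.{u}) ⟶ p.fiber η), IsImmersion e ∧
        Set.range e = {v | (∀ k < i, p.fiberι η v ∉ L.D k) ∧ p.fiberι η v ∈ L.D i} := by
  classical
  obtain ⟨φ, hφ, hφq⟩ := L.exists_lift hη i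
  let S := Sset.{u} n (i : ℕ)
  let τ := {a : sn.{u} n // a ∉ S}
  let m := Fintype.card τ
  let r := (MvPolynomial.renameEquiv (X.residueField η) (Fintype.equivFin τ)).toRingEquiv.toCommRingCatIso
  let B := Spec (CommRingCat.of (MvPolynomial (Fin m) (X.residueField η)))
  refine ⟨m, ⊤, (⊤ : B.Opens).ι ≫ Spec.map r.hom ≫ linIncl (X.residueField η) S ≫ φ, inferInstance, ?_⟩
  ext v
  constructor
  · rintro ⟨a, rfl⟩
    have hv : ∀ b, p.fiberι η (φ b) = L.q hη i b := fun b => by rw [← Scheme.Hom.comp_apply, hφq]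
    simp only [Scheme.Hom.comp_apply]
    refine ⟨fun k hk => ?_, ?_⟩
    · obtain ⟨m', hm, hs⟩ := exists_succAbove_val i (show (k : ℕ) < i from hk)
      rw [hv, show k = i.succAbove (ULift.up.{u} m').down from hs.symm, q_mem_D_iff, not_not]
      exact (range_linIncl (X.residueField η) S).le ⟨_, rfl⟩ _ (mem_Sset.2 (by rw [show (ULift.up.{u} m').down = m' from rfl, hm]; exact hk))
    · rw [hv]
      exact L.q_mem_D hη i _
  · rintro ⟨hv1, hv2⟩
    obtain ⟨w, hw⟩ := L.exists_q_eq hη ((p.range_fiberι η).le ⟨v, rfl⟩) hv2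
    have hφw : φ w = v := (p.fiberι η).isEmbedding.injective (by rw [← Scheme.Hom.comp_apply, hφq, hw])
    obtain ⟨a, ha⟩ := (range_linIncl (X.residueField η) S).ge
      (show ∀ a ∈ S, (MvPolynomial.X a : MvPolynomial (sn n) (X.residueField η)) ∈ w.asIdeal from fun a ha => by
        have hk := hv1 (i.succAbove a.down) ((succAbove_val_lt_iff i a.down le_rfl).2 (mem_Sset.1 ha))
        rw [← hw] at hk
        rwa [q_mem_D_iff, not_not] at hk)
    haveI : IsIso (Spec.map r.hom) := inferInstance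
    obtain ⟨b, hb⟩ := (Spec.map r.hom).homeomorph.surjective a
    obtain ⟨b', hb'⟩ := (Scheme.Opens.range_ι (⊤ : B.Opens)).ge (show b ∈ (⊤ : B.Opens) from trivial)
    refine ⟨b', ?_⟩
    simp only [Scheme.Hom.comp_apply]
    rw [hb', show Spec.map r.hom b = a from hb, ha, hφw]

/-- A point of a fibre moves, by divisors in the fibre, onto coordinate subspaces. -/
theorem exists_move [QuasiCompact p] [LocallyOfFiniteType p] (hP : Cyc.IsSetup P δP)
    (hδ : Cyc.DeltaCompat p δP δX) {x : P} (hx : p x = η) :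
    ∃ (A : Fam P δP (δP x)) (c : Fin (n + 1) → ℤ), Finite A.I ∧ (∀ i, p (A.ξ i) = η) ∧
      (∀ i, c i ≠ 0 → δP (L.lp hη i) = δP x) ∧
      ∀ z, p z = η → (open Classical in if z = x then (1 : ℤ) else 0) =
        A.sum z + ∑ i, open Classical in if z = L.lp hη i then c i else 0 := by
  classical
  haveI := hP.1
  have hf : IsPullback (p.fiberι η) (pullback.snd p (X.fromSpecResidueField η)) p (X.fromSpecResidueField η) :=
    IsPullback.of_hasPullback p (X.fromSpecResidueField η)
  let s : p.fiber η ⟶ Spec (X.residueField η) := pullback.snd p (X.fromSpecResidueField η)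
  let ι := p.fiberι η
  haveI : LocallyOfFiniteType s := MorphismProperty.of_isPullback hf (inferInstance : LocallyOfFiniteType p)
  haveI : QuasiCompact s := MorphismProperty.of_isPullback hf (inferInstance : QuasiCompact p)
  haveI : IsLocallyNoetherian (p.fiber η) := LocallyOfFiniteType.isLocallyNoetherian s
  haveI : CompactSpace ↥(p.fiber η) := QuasiCompact.compactSpace_of_compactSpace s
  let δ₀ : ↥(p.fiber η) → ℤ := fun v => δP (ι v) - δX η
  have hF := CycAffLib.fibre_setup hP hf
  have hF₀ : Cyc.IsSetup (p.fiber η) δ₀ := ⟨hF.1, hF.2.1, fun a b hab hne => by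
    obtain ⟨h1, h2⟩ := hF.2.2 a b hab hne
    refine ⟨?_, fun h => ?_⟩
    · simp only [δ₀, ι] at *; omega
    · have := h2 h; simp only [δ₀, ι] at *; omega⟩
  have hnonneg : ∀ v, 0 ≤ δ₀ v := fun v => by
    obtain ⟨a, -, ha⟩ := CycAffLib.fibre_deltaCompat hf hδ v
    simp only [δ₀, ι] at *
    omega
  have hιp : ∀ v, p (ι v) = η := fun v => (p.range_fiberι η).le ⟨v, rfl⟩
  choose g hg using fun i : Fin (n + 1) => (p.range_fiberι η).ge (L.p_lp hη i)
  let U : Fin (n + 1) → Set ↥(p.fiber η) := fun i => {v | (∀ k < i, ι v ∉ L.D k) ∧ ι v ∈ L.D i}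
  have hgU : ∀ i, g i ∈ U i := fun i => ⟨fun k hk => by
    show ι (g i) ∉ _
    rw [hg]; exact L.lp_notMem_D hη hk, by
    show ι (g i) ∈ _
    rw [hg]; exact L.lp_mem_D hη i⟩
  have hspec : ∀ i v, (∀ k < i, ι v ∉ L.D k) → v ∈ closure {g i} := fun i v hv =>
    specializes_iff_mem_closure.1 (ι.isEmbedding.isInducing.specializes_iff.1 (by
      rw [hg]; exact L.lp_specializes hη (hιp v) hv))
  obtain ⟨v₀, rfl⟩ := (p.range_fiberι η).ge hx
  have hα : pointCycle v₀ (1 : ℤ) ∈ Cyc.Zk (p.fiber η) δ₀ (δ₀ v₀) :=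
    fun z hz => CycBivLib.pointCycle_ne 1 fun h => hz (by rw [h])
  obtain ⟨β, hβk, hβg, hβ⟩ := CycAffLib.exists_supported_generic (K := X.residueField η) hF₀ U g
    (fun v => by
      obtain ⟨j, hj⟩ := L.cover (ι v) ((hιp v).symm ▸ hη)
      let T := Finset.univ.filter fun k : Fin (n + 1) => ι v ∈ L.D k
      have hT : T.Nonempty := ⟨j, Finset.mem_filter.2 ⟨Finset.mem_univ _, hj⟩⟩
      exact ⟨T.min' hT, fun k hk hkD => absurd hk (not_lt.2 (T.min'_le k (Finset.mem_filter.2 ⟨Finset.mem_univ _, hkD⟩))),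
        (Finset.mem_filter.1 (T.min'_mem hT)).2⟩)
    (fun i j hij => Set.disjoint_left.2 fun v hi hj => by
      rcases lt_or_gt_of_ne hij with h | h
      · exact hj.1 i h hi.2
      · exact hi.1 j h hj.2)
    (fun i => ⟨hgU i, fun v hv => hspec i v hv.1⟩)
    (fun i j h => by
      obtain ⟨v, hv, hvj⟩ := h
      have hnot : ∀ k < i, ι v ∉ L.D k := fun k hk hkD => by
        obtain ⟨w, hwD, hwU⟩ := mem_closure_iff.1 hv _ ((L.D k).isOpen.preimage ι.continuous) hkD
        exact hwU.1 k hk hwD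
      have hij : i ≤ j := le_of_not_gt fun hlt => hnot j hlt hvj.2
      exact fun w hw => closure_mono (Set.singleton_subset_iff.2 (hgU i)) (hspec i w fun k hk => hw.1 k (hk.trans_le hij)))
    (fun i => L.exists_stratum hη i) hnonneg (δ₀ v₀) (pointCycle v₀ 1) hα
  obtain ⟨B, hB⟩ := Fam.exists_of_ratEquivZero hβ
  have hfin : Finite B.I := by
    choose W hWo hW hWf using B.locFin
    obtain ⟨t, ht⟩ := isCompact_univ.elim_finite_subcover W hWo fun v _ => Set.mem_iUnion.2 ⟨v, hW v⟩
    refine Set.finite_univ_iff.1 ((t.finite_toSet.biUnion fun v _ => hWf v).subset fun i _ => ?_)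
    obtain ⟨v, hv, hiv⟩ := Set.mem_iUnion₂.1 (ht (Set.mem_univ (B.ξ i)))
    exact Set.mem_biUnion hv ⟨B.ξ i, subset_closure rfl, hiv⟩
  choose G hG using fun i => (CycPushLib.residueFieldMap_bijective ι (B.ξ i)).2 (B.f i)
  have hG0 : ∀ i, G i ≠ 0 := fun i e => B.ne_zero i (by rw [← hG i, e, map_zero])
  refine ⟨⟨B.I, fun i => ι (B.ξ i), G, fun i => by have := B.delta i; simp only [δ₀, ι] at this ⊢; omega, hG0,
    fun z => ⟨Set.univ, isOpen_univ, trivial, Set.toFinite _⟩⟩, fun i => β (g i), hfin, fun i => hιp _, fun i hc => ?_,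
    fun z hz => ?_⟩
  · have := by_contra fun h => hc (hβk (g i) h)
    simp only [δ₀, ι, hg] at this
    show δP (L.lp hη i) = δP (p.fiberι η v₀)
    omega
  obtain ⟨v, rfl⟩ := (p.range_fiberι η).ge hz
  have hsum : ∀ hl, (Fam.mk (X := P) (δ := δP) B.I (fun i => ι (B.ξ i)) G (k := δP (ι v₀))
      (fun i => by have := B.delta i; simp only [δ₀, ι] at this ⊢; omega) hG0 hl).sum (ι v) = B.sum v := fun hl => by
    refine finsum_congr fun i => ?_
    show Cyc.divFun δP (ι (B.ξ i)) (G i) (ι v) = _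
    rw [CycAffLib.divFun_preimmersion ι hP hF (B.ξ i) v (hG0 i), hG i]
    simp only [Cyc.divFun]
    exact dite_congr (propext (and_congr_right fun _ => by simp only [δ₀, ι]; omega)) (fun _ => rfl) fun _ => rfl
  rw [hsum]
  have hB' : pointCycle v₀ 1 v - β v = B.sum v := hB v
  have hrhs : (∑ i, if ι v = L.lp hη i then β (g i) else 0) = β v := by
    by_cases hv : ∃ i, v = g i
    · obtain ⟨i, rfl⟩ := hv
      rw [Finset.sum_eq_single i (fun k _ hk => if_neg fun e => hk (L.lp_injective hη (e.symm.trans (hg i))))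
        (fun h => absurd (Finset.mem_univ i) h), if_pos (hg i)]
    · rw [show β v = 0 from by_contra fun h => hv (hβg v h), Finset.sum_eq_zero fun i _ => if_neg fun e =>
        hv ⟨i, ι.isEmbedding.injective (e.trans (hg i).symm)⟩]
  have hlhs : (if ι v = ι v₀ then (1 : ℤ) else 0) = pointCycle v₀ 1 v := by
    by_cases h : v = v₀
    · rw [h, if_pos rfl, CycBivLib.pointCycle_self]
    · rw [if_neg fun e => h (ι.isEmbedding.injective e), CycBivLib.pointCycle_ne 1 h]
  rw [hrhs, hlhs, ← hB']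
  ring

end LocData

end CycPBLib

end
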