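import Mathlib
import Groth.Agent.CycPBLib.Fibre
import Groth.Agent.CycC1Lib.Pull
import Groth.Agent.CycC1Lib.Push
import Groth.Agent.CycCommLib.Main

/-!
# Iterated caps with `O(1)` of pullback cycles on a projective bundle
-/

set_option autoImplicit false
set_option linter.style.haveILetI false
set_option linter.unusedSectionVars false

universe u

open AlgebraicGeometry CategoryTheory CategoryTheory.Limits MvPolynomial

noncomputable section

namespace CycPBLib

open CycC1Lib (fib capCyc)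
open CycBivLib (pointCycle)

variable {X P : Scheme.{u}}

/-- The data of a projective bundle used for computing with cycles. -/
structure Bun (p : P ⟶ X) (O1 : P.Modules) (n : ℕ) where
  δX : X → ℤ
  δP : P → ℤ
  hX : Cyc.IsSetup X δX
  hP : Cyc.IsSetup P δP
  hδ : Cyc.DeltaCompat p δP δX
  hinv : PicF.IsInvertible O1
  loc : X → LocData p O1 n
  mem : ∀ η, η ∈ (loc η).U

variable {p : P ⟶ X} {O1 : P.Modules} {n : ℕ}

namespace Bun

variable (B : Bun p O1 n)

/-- The coordinate point over `η`. -/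
def lpt (η : X) (i : Fin (n + 1)) : P := (B.loc η).lp (B.mem η) i

theorem p_lpt (η : X) (i : Fin (n + 1)) : p (B.lpt η i) = η := (B.loc η).p_lp (B.mem η) i

theorem delta_lpt (η : X) (i : Fin (n + 1)) : B.δP (B.lpt η i) = B.δX η + n - (i : ℕ) :=
  (B.loc η).delta_lp (B.mem η) B.hδ i

theorem isGen_iff {z : P} : CycLimLib.IsGen p z ↔ z = B.lpt (p z) 0 :=
  (B.loc (p z)).isGen_iff (B.mem _) z rfl

theorem hgen (z : P) (h : CycLimLib.IsGen p z) : B.δP z = B.δX (p z) + n := by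
  have h' := B.delta_lpt (p z) 0
  rw [← B.isGen_iff.1 h] at h'
  simpa using h'

theorem delta_le (z : P) : B.δP z ≤ B.δX (p z) + n :=
  ((B.loc (p z)).delta_le (B.mem _) B.hP B.hδ rfl).1

/-- Pullback from the base. -/
def pull (α : AlgebraicCycle X ℤ) : AlgebraicCycle P ℤ := CycC1Lib.pullCyc p B.hP B.hgen α

theorem pullFun_eq (α : X → ℤ) (z : P) : Cyc.pullFun p B.δP B.δX (n : ℤ) α z =
    (open Classical in if z = B.lpt (p z) 0 then α (p z) else 0) := by
  classical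
  simp only [Cyc.pullFun]
  by_cases h : z = B.lpt (p z) 0
  · rw [if_pos h, if_pos (B.hgen z (B.isGen_iff.2 h))]
    have hl : Module.length (P.presheaf.stalk z) (P.presheaf.stalk z ⧸ CycLimLib.fibIdeal p z) = 1 := by
      have := (B.loc (p z)).length_lp_zero (B.mem _)
      rwa [show (B.loc (p z)).lp (B.mem _) 0 = z from h.symm] at this
    rw [show Module.length (P.presheaf.stalk z) (P.presheaf.stalk z ⧸ Ideal.map (p.stalkMap z).hom
      (IsLocalRing.maximalIdeal (X.presheaf.stalk (p z)))) = 1 from hl, ENat.toNat_one, Nat.cast_one, mul_one]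
  · rw [if_neg h, if_neg fun hd => h (((B.loc (p z)).delta_le (B.mem _) B.hP B.hδ rfl).2 hd)]

theorem pull_apply (α : AlgebraicCycle X ℤ) (z : P) :
    B.pull α z = (open Classical in if z = B.lpt (p z) 0 then α (p z) else 0) := B.pullFun_eq α z

theorem pull_mem {k : ℤ} {α : AlgebraicCycle X ℤ} (hα : α ∈ Cyc.Zk X B.δX k) :
    B.pull α ∈ Cyc.Zk P B.δP (k + n) := CycC1Lib.pullCyc_mem_Zk p B.hP B.hgen hα

/-- A choice of nonzero rational sections for every step. -/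
structure Secs (O1 : P.Modules) where
  t : ℕ → (ξ : P) → Cyc.secFibre O1 ξ
  ne : ∀ i ξ, t i ξ ≠ 0

/-- Iterated caps on a cycle. -/
def caps (t : Secs O1) (D : AlgebraicCycle P ℤ) : ℕ → AlgebraicCycle P ℤ
  | 0 => D
  | i + 1 => capCyc B.hP B.hinv (caps t D i) (t.ne i)

theorem caps_succ (t : Secs O1) (D : AlgebraicCycle P ℤ) (i : ℕ) :
    ⇑(B.caps t D (i + 1)) = Cyc.c1CapFun B.δP O1 ⇑(B.caps t D i) (t.t i) := rfl

theorem caps_eq (t : Secs O1) (D : AlgebraicCycle P ℤ) (γ : ℕ → P → ℤ) (h0 : γ 0 = ⇑D)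
    (hs : ∀ i, γ (i + 1) = Cyc.c1CapFun B.δP O1 (γ i) (t.t i)) (i : ℕ) : γ i = ⇑(B.caps t D i) := by
  induction i with
  | zero => exact h0
  | succ i IH => rw [hs, IH, B.caps_succ]

theorem c1CapFun_mem {D : P → ℤ} {k : ℤ} (hD : ∀ x, B.δP x ≠ k + 1 → D x = 0)
    (s : (ξ : P) → Cyc.secFibre O1 ξ) {z : P} (hz : B.δP z ≠ k) : Cyc.c1CapFun B.δP O1 D s z = 0 :=
  finsum_eq_zero_of_forall_eq_zero fun ξ => by
    by_cases h : ξ ⤳ z ∧ B.δP z + 1 = B.δP ξ
    · rw [hD ξ (fun e => hz (by omega)), zero_mul]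
    · rw [CycC1Lib.secDivFun_eq_zero_of_not h, mul_zero]

theorem caps_mem (t : Secs O1) {D : AlgebraicCycle P ℤ} {k : ℤ} (hD : D ∈ Cyc.Zk P B.δP k) :
    ∀ i : ℕ, B.caps t D i ∈ Cyc.Zk P B.δP (k - i)
  | 0 => by simpa [caps] using hD
  | i + 1 => fun z hz => by
    rw [B.caps_succ]
    refine B.c1CapFun_mem (k := k - (i + 1 : ℕ)) (fun x hx => caps_mem t hD i x ?_) (t.t i) hz
    push_cast at hx ⊢
    omega

/-- Caps are linear, locally. -/
theorem caps_sum (t : Secs O1) {ι : Type*} (S : Finset ι) (D : AlgebraicCycle P ℤ) (Ds : ι → AlgebraicCycle P ℤ)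
    (c : ι → ℤ) (Z : Set P) (hZ : ∀ z ∈ Z, ∀ ξ, ξ ⤳ z → ξ ∈ Z)
    (h : ∀ z ∈ Z, D z = ∑ a ∈ S, c a * Ds a z) :
    ∀ (i : ℕ), ∀ z ∈ Z, B.caps t D i z = ∑ a ∈ S, c a * B.caps t (Ds a) i z
  | 0 => h
  | i + 1 => fun z hz => by
    classical
    haveI := B.hP.1
    obtain ⟨T, hT⟩ := CycC1Lib.exists_finset_generizations (B.caps t D i) z
    choose Ts hTs using fun a : ι => CycC1Lib.exists_finset_generizations (B.caps t (Ds a) i) z
    let T' := (T ∪ S.biUnion Ts).filter fun ξ => ξ ⤳ z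
    rw [B.caps_succ, CycC1Lib.c1CapFun_eq_sum (S := T') fun ξ h1 h2 =>
      Finset.mem_filter.2 ⟨Finset.mem_union_left _ (hT ξ h1 h2), h2⟩]
    have : ∀ a ∈ S, B.caps t (Ds a) (i + 1) z =
        ∑ ξ ∈ T', B.caps t (Ds a) i ξ * Cyc.secDivFun B.δP O1 ξ (t.t i ξ) z := fun a ha => by
      rw [B.caps_succ, CycC1Lib.c1CapFun_eq_sum (S := T') fun ξ h1 h2 =>
        Finset.mem_filter.2 ⟨Finset.mem_union_right _ (Finset.mem_biUnion.2 ⟨a, ha, hTs a ξ h1 h2⟩), h2⟩]
    rw [Finset.sum_congr rfl fun a ha => congrArg (c a * ·) (this a ha)]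
    simp only [Finset.mul_sum]
    rw [Finset.sum_comm]
    refine Finset.sum_congr rfl fun ξ hξ => ?_
    rw [caps_sum t S D Ds c Z hZ h i ξ (hZ z hz ξ (Finset.mem_filter.1 hξ).2), Finset.sum_mul]
    exact Finset.sum_congr rfl fun a _ => mul_assoc _ _ _

theorem caps_supp (t : Secs O1) {α : AlgebraicCycle X ℤ} :
    ∀ (i : ℕ) (z : P), B.caps t (B.pull α) i z ≠ 0 → ∃ η, α η ≠ 0 ∧ η ⤳ p z
  | 0, z, hz => by
    classical
    rw [show B.caps t (B.pull α) 0 = B.pull α from rfl, B.pull_apply] at hz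
    split_ifs at hz
    · exact ⟨p z, hz, specializes_rfl⟩
    · exact absurd rfl hz
  | i + 1, z, hz => by
    rw [B.caps_succ] at hz
    obtain ⟨ξ, hξ⟩ : ∃ ξ, B.caps t (B.pull α) i ξ * Cyc.secDivFun B.δP O1 ξ (t.t i ξ) z ≠ 0 := by
      by_contra hc
      push Not at hc
      exact hz (finsum_eq_zero_of_forall_eq_zero hc)
    obtain ⟨η, h1, h2⟩ := caps_supp t i ξ (left_ne_zero_of_mul hξ)
    have hs : ξ ⤳ z := by
      by_contra hn
      exact right_ne_zero_of_mul hξ (CycC1Lib.secDivFun_eq_zero_of_not (fun h => hn h.1) _)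
    exact ⟨η, h1, h2.trans (hs.map p.continuous)⟩

/-- The coordinate sections along the coordinate points. -/
theorem exists_std : ∃ t : Secs O1, ∀ (η : X) (i : Fin (n + 1)),
    t.t (i : ℕ) (B.lpt η i) = fib O1 (O1.presheaf.germ (p ⁻¹ᵁ (B.loc η).U) (B.lpt η i)
      (show p (B.lpt η i) ∈ (B.loc η).U from (B.p_lpt η i).symm ▸ B.mem η) ((B.loc η).e i)) := by
  classical
  obtain ⟨Φ⟩ := CycCommLib.exists_frames B.hinv
  let f : ℕ → (ξ : P) → Cyc.secFibre O1 ξ := fun i ξ =>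
    if h : ∃ a : Fin (n + 1), (a : ℕ) = i ∧ ξ = B.lpt (p ξ) a then
      fib O1 (O1.presheaf.germ (p ⁻¹ᵁ (B.loc (p ξ)).U) ξ (B.mem (p ξ)) ((B.loc (p ξ)).e h.choose))
    else Φ.sec ξ
  have hne : ∀ i ξ, f i ξ ≠ 0 := fun i ξ => by
    simp only [f]
    split_ifs with h
    · have hD : ξ ∈ (B.loc (p ξ)).D h.choose := by
        have := (B.loc (p ξ)).lp_mem_D (B.mem _) h.choose
        rwa [show (B.loc (p ξ)).lp (B.mem _) h.choose = ξ from h.choose_spec.2.symm] at this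
      intro h0
      have hg := ((B.loc (p ξ)).gen h.choose).genAt hD
      have := (CycC1Lib.fib_smul_eq_zero_iff hg 1).1 (by rw [one_smul, AmpleLib.germ_res]; exact h0)
      rw [map_one] at this
      exact one_ne_zero this
    · exact Φ.sec_ne_zero ξ
  refine ⟨⟨f, hne⟩, fun η i => ?_⟩
  have key : ∀ (η : X) (ξ : P) (hm : ξ ∈ p ⁻¹ᵁ (B.loc η).U), p ξ = η → ξ = B.lpt η i →
      f i ξ = fib O1 (O1.presheaf.germ (p ⁻¹ᵁ (B.loc η).U) ξ hm ((B.loc η).e i)) := by
    rintro η ξ hm rfl hξ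
    have h : ∃ a : Fin (n + 1), (a : ℕ) = (i : ℕ) ∧ ξ = B.lpt (p ξ) a := ⟨i, rfl, hξ⟩
    simp only [f, dif_pos h]
    have hc : h.choose = i := Fin.ext h.choose_spec.1
    rw [hc]
  exact key η _ _ (B.p_lpt η i) rfl

/-- The coordinate sections. -/
def std : Secs O1 := B.exists_std.choose

theorem std_lpt (η : X) (i : Fin (n + 1)) :
    B.std.t (i : ℕ) (B.lpt η i) = fib O1 (O1.presheaf.germ (p ⁻¹ᵁ (B.loc η).U) (B.lpt η i)
      (show p (B.lpt η i) ∈ (B.loc η).U from (B.p_lpt η i).symm ▸ B.mem η) ((B.loc η).e i)) :=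
  B.exists_std.choose_spec η i

/-- With coordinate sections the caps of a pullback are the coordinate points over its support. -/
theorem caps_std {k : ℤ} {α : AlgebraicCycle X ℤ} (hα : α ∈ Cyc.Zk X B.δX k) :
    ∀ (i : Fin (n + 1)) (z : P), B.δX (p z) = k →
      B.caps B.std (B.pull α) (i : ℕ) z = (open Classical in if z = B.lpt (p z) i then α (p z) else 0) := by
  classical
  suffices ∀ (a : ℕ) (ha : a < n + 1) (z : P), B.δX (p z) = k →
      B.caps B.std (B.pull α) a z = if z = B.lpt (p z) ⟨a, ha⟩ then α (p z) else 0 from fun i z hz => this i i.2 z hz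
  intro a
  induction a with
  | zero => exact fun ha z _ => B.pull_apply α z
  | succ a IH =>
    intro ha z hz
    rw [B.caps_succ]
    let l : P := B.lpt (p z) ⟨a, by omega⟩
    have hsupp : ∀ ξ, B.caps B.std (B.pull α) a ξ ≠ 0 → ξ ⤳ z → ξ ∈ ({l} : Finset P) := fun ξ h1 h2 => by
      obtain ⟨η, hη, hηξ⟩ := B.caps_supp B.std a ξ h1
      have hpξ : p ξ ⤳ p z := h2.map p.continuous
      have hk : B.δX η = k := by_contra fun h => hη (hα η h)
      have e : η = p z := by_contra fun h => by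
        have := (B.hX.2.2 _ _ (hηξ.trans hpξ) h).1
        omega
      have e' : p ξ = p z := by
        subst e
        exact (hpξ.antisymm hηξ).eq
      rw [IH (by omega) ξ (e' ▸ hz), ite_ne_right_iff] at h1
      rw [Finset.mem_singleton, h1.1, e']
    rw [CycC1Lib.c1CapFun_eq_sum hsupp, Finset.sum_singleton, IH (by omega) l (by rw [B.p_lpt]; exact hz),
      B.p_lpt, if_pos rfl,
      show B.std.t a l = _ from B.std_lpt (p z) ⟨a, by omega⟩]
    refine (congrArg (α (p z) * ·) (show _ = if z = B.lpt (p z) ⟨a + 1, ha⟩ then (1 : ℤ) else 0 from ?_)).trans ?_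
    · refine ((B.loc (p z)).secDivFun_lp (B.mem _) B.hP B.hδ (i := ⟨a, by omega⟩) (i' := ⟨a + 1, ha⟩) rfl _ rfl).trans ?_
      congr
    · split_ifs
      · exact mul_one _
      · exact mul_zero _

/-- Replacing the input and the sections keeps the class. -/
theorem caps_ratEquiv {k : ℤ} {D D' : AlgebraicCycle P ℤ} (hD : D ∈ Cyc.Zk P B.δP k) (hD' : D' ∈ Cyc.Zk P B.δP k)
    (t t' : Secs O1) (h : Cyc.RatEquiv B.δP k D D') :
    ∀ i : ℕ, Cyc.RatEquiv B.δP (k - i) (B.caps t D i) (B.caps t' D' i)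
  | 0 => by simpa [caps] using h
  | i + 1 => by
    have hk : (k - (i : ℕ) : ℤ) = k - (i + 1 : ℕ) + 1 := by push_cast; ring
    have IH := caps_ratEquiv hD hD' t t' h i
    have hm := B.caps_mem t hD i
    have hm' := B.caps_mem t' hD' i
    rw [hk] at IH hm hm'
    let mid := capCyc B.hP B.hinv (B.caps t' D' i) (t.ne i)
    refine CycCommLib.ratEquiv_trans B.hP (β := mid) ?_
      (CycC1Lib.ratEquiv_c1Cap B.hP B.hinv (B.caps t' D' i) hm' (t.ne i) (t'.ne i) mid _ rfl rfl)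
    haveI := B.hP.1
    refine CycCommLib.c1Cap_ratEquivZero B.hP B.hinv (α := B.caps t D i - B.caps t' D' i)
      (fun x hx => by show B.caps t D i x - B.caps t' D' i x = 0; rw [hm x hx, hm' x hx, sub_zero]) IH (t.ne i) ?_
    funext z
    obtain ⟨S₁, hS₁⟩ := CycC1Lib.exists_finset_generizations (B.caps t D i) z
    obtain ⟨S₂, hS₂⟩ := CycC1Lib.exists_finset_generizations (B.caps t' D' i) z
    classical
    show Cyc.c1CapFun B.δP O1 ⇑(B.caps t D i) (t.t i) z - Cyc.c1CapFun B.δP O1 ⇑(B.caps t' D' i) (t.t i) z = _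
    rw [CycC1Lib.c1CapFun_eq_sum (S := S₁ ∪ S₂) fun ξ h1 h2 => Finset.mem_union_left _ (hS₁ ξ h1 h2),
      CycC1Lib.c1CapFun_eq_sum (S := S₁ ∪ S₂) fun ξ h1 h2 => Finset.mem_union_right _ (hS₂ ξ h1 h2),
      CycC1Lib.c1CapFun_eq_sum (α := ⇑(B.caps t D i - B.caps t' D' i)) (S := S₁ ∪ S₂) fun ξ h1 h2 => ?_,
      ← Finset.sum_sub_distrib]
    · exact Finset.sum_congr rfl fun ξ _ => (sub_mul _ _ _).symm
    · by_contra hn
      rw [Finset.mem_union, not_or] at hn
      refine h1 ?_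
      show B.caps t D i ξ - B.caps t' D' i ξ = 0
      rw [not_not.1 fun h => hn.1 (hS₁ ξ h h2), not_not.1 fun h => hn.2 (hS₂ ξ h h2), sub_zero]

/-- Changing the sections keeps the class. -/
theorem caps_change {k : ℤ} {D : AlgebraicCycle P ℤ} (hD : D ∈ Cyc.Zk P B.δP k) (t t' : Secs O1) (i : ℕ) :
    Cyc.RatEquiv B.δP (k - i) (B.caps t D i) (B.caps t' D i) :=
  B.caps_ratEquiv hD hD t t' (CycCommLib.ratEquiv_refl D) i

end Bun

end CycPBLib

end
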