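import Mathlib
import Groth.Agent.CycPBLib.Global
import Groth.Agent.CycPBLib.FibreRat
import Groth.Agent.CycPBLib.Degree
import Groth.Agent.CycPBLib.Decomp
import Groth.Agent.S1940

/-!
# The Chow groups of a projective bundle
-/

set_option autoImplicit false
set_option linter.style.haveILetI false
set_option linter.unusedSectionVars false

universe u

open AlgebraicGeometry CategoryTheory CategoryTheory.Limits MvPolynomial Opposite

noncomputable section

namespace CycPBLib

open CycC1Lib (fib capCyc)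
open CycBivLib (pointCycle)
open CycSeqLib (Fam)

variable {X P : Scheme.{u}} {p : P ⟶ X} {O1 : P.Modules} {n : ℕ}

theorem exists_bun {E : X.Modules} (hq : Coh.IsQCoh E)
    (hE : FlatMod.IsFinLocFreeOfRank (n + 1) E) {𝒮 : RelProj.QCGrAlg X} {j₀ : E ⟶ 𝒮.toModule}
    (hS : RelProj.IsGrSymAlg E 𝒮 j₀)
    {chart : ∀ (U : X.Opens) (hU : IsAffineOpen U), (((p ⁻¹ᵁ U : P.Opens) : Scheme.{u}) ≅ Proj (𝒮.deg U hU))}
    (hP : RelProj.IsRelProj 𝒮 p chart)
    {lam : ∀ (U : X.Opens) (hU : IsAffineOpen U),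
      O1 ⟶ (Scheme.Modules.pushforward (RelProj.emb p chart U hU)).obj (GrTwist.twist (𝒮.deg U hU) 1)}
    (hO1 : RelProj.IsRelTwist 𝒮 p chart 1 O1 lam) (hinv : PicF.IsInvertible O1) {δ : X → ℤ} {δP : P → ℤ}
    (hX : Cyc.IsSetup X δ) (hPs : Cyc.IsSetup P δP) (hδ : Cyc.DeltaCompat p δP δ) :
    ∃ B : Bun p O1 n, B.δX = δ ∧ B.δP = δP := by
  haveI := hX.1
  haveI := hq
  choose L hL using fun η => exists_locData hE hS hP hO1 η
  exact ⟨⟨δ, δP, hX, hPs, hδ, hinv, L, hL⟩, rfl, rfl⟩

namespace Bun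

variable (B : Bun p O1 n)

include B in
theorem flat : Flat p := by
  have h : ∀ (z : P) (Z : Scheme.{u}) (c : Z ⟶ P) [IsOpenImmersion c], z ∈ c.opensRange → Flat (c ≫ p) →
      (p.stalkMap z).hom.Flat := by
    intro z Z c _ hz hf
    obtain ⟨a, rfl⟩ := hz
    haveI := hf
    have h1 : ((c.stalkMap a).hom.comp (p.stalkMap (c a)).hom).Flat := by
      have := Flat.stalkMap (c ≫ p) a
      rw [Scheme.Hom.stalkMap_comp] at this
      exact this
    have h2 : (inv (c.stalkMap a)).hom.Flat :=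
      RingHom.Flat.of_bijective (ConcreteCategory.bijective_of_isIso (inv (c.stalkMap a)))
    have h3 := h1.comp h2
    rw [← RingHom.comp_assoc, ← CommRingCat.hom_comp, IsIso.hom_inv_id, CommRingCat.hom_id, RingHom.id_comp] at h3
    exact h3
  refine Flat.of_stalkMap p fun z => ?_
  obtain ⟨j, hj⟩ := (B.loc (p z)).cover z (B.mem _)
  haveI := (B.loc (p z)).openImm j
  refine h z _ ((B.loc (p z)).c j) (((B.loc (p z)).range_c j).ge hj) ?_
  rw [(B.loc (p z)).over_ j]
  haveI : Flat (Spec.map (CommRingCat.ofHom (MvPolynomial.C : Γ(X, (B.loc (p z)).U) →+* Pol Γ(X, (B.loc (p z)).U) n))) :=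
    (HasRingHomProperty.Spec_iff (P := @Flat)).2
      (RingHom.flat_algebraMap_iff.2 (inferInstance : Module.Flat Γ(X, (B.loc (p z)).U) (Pol Γ(X, (B.loc (p z)).U) n)))
  infer_instance

/-- One step of the congruence. -/
theorem cap_congr {k : ℤ} {D D' : AlgebraicCycle P ℤ} (hD : D ∈ Cyc.Zk P B.δP k) (hD' : D' ∈ Cyc.Zk P B.δP k)
    {s s' : (ξ : P) → Cyc.secFibre O1 ξ} (hs : ∀ ξ, s ξ ≠ 0) (hs' : ∀ ξ, s' ξ ≠ 0)
    (h : Cyc.RatEquiv B.δP k D D') :
    Cyc.RatEquiv B.δP (k - 1) (capCyc B.hP B.hinv D hs) (capCyc B.hP B.hinv D' hs') := by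
  have := B.caps_ratEquiv hD hD' ⟨fun _ => s, fun _ => hs⟩ ⟨fun _ => s', fun _ => hs'⟩ h 1
  simpa [caps] using this

theorem caps_caps {k : ℤ} {D : AlgebraicCycle P ℤ} (hD : D ∈ Cyc.Zk P B.δP k) (t t' t'' : Secs O1) (i : ℕ) :
    ∀ j : ℕ, Cyc.RatEquiv B.δP (k - (i + j : ℕ)) (B.caps t' (B.caps t D i) j) (B.caps t'' D (i + j))
  | 0 => B.caps_change hD t t'' i
  | j + 1 => by
    have IH := caps_caps hD t t' t'' i j
    have h1 := B.caps_mem t' (B.caps_mem t hD i) j
    rw [show (k - (i : ℕ) - (j : ℕ) : ℤ) = k - (i + j : ℕ) by push_cast; ring] at h1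
    have h2 := B.cap_congr h1 (B.caps_mem t'' hD (i + j)) (t'.ne j) (t''.ne (i + j)) IH
    rw [show (k - (i + j : ℕ) - 1 : ℤ) = k - (i + (j + 1) : ℕ) by push_cast; ring] at h2
    exact h2

theorem caps_zero (t : Secs O1) : ∀ (i : ℕ) (z : P), B.caps t 0 i z = 0
  | 0, _ => rfl
  | i + 1, z => by
    rw [B.caps_succ]
    exact finsum_eq_zero_of_forall_eq_zero fun ξ => by rw [caps_zero t i ξ, zero_mul]

section Push

variable [IsProper p]

theorem map_eq_zero_of {γ : AlgebraicCycle P ℤ} {η : X} (h : ∀ z, p z = η → B.δP z = B.δX η → γ z = 0) :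
    AlgebraicCycle.map p B.δP B.δX γ η = 0 :=
  finsum_mem_eq_zero_of_forall_eq_zero fun z hz => by
    by_cases hd : B.δP z = B.δX (p z)
    · rw [h z hz (hd.trans (congrArg B.δX hz)), zero_mul]
    · simp [AlgebraicCycle.mapCoeff, hd]

theorem map_caps_of_lt {k : ℤ} {α : AlgebraicCycle X ℤ} (hα : α ∈ Cyc.Zk X B.δX k) (t : Secs O1) {s : ℕ}
    (hs : s < n) (η : X) : AlgebraicCycle.map p B.δP B.δX (B.caps t (B.pull α) s) η = 0 :=
  B.map_eq_zero_of fun z hz hd => by
    by_contra hne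
    have h1 : B.δP z = k + n - s := by_contra fun h => hne (B.caps_mem t (B.pull_mem hα) s z h)
    obtain ⟨η', hη', hs'⟩ := B.caps_supp t s z hne
    have hk : B.δX η' = k := by_contra fun h => hη' (hα η' h)
    rw [hz] at hs'
    by_cases he : η' = η
    · rw [he] at hk; omega
    · have := (B.hX.2.2 _ _ hs' he).1
      omega

theorem map_caps_std {k : ℤ} {α : AlgebraicCycle X ℤ} (hα : α ∈ Cyc.Zk X B.δX k) (η : X) :
    AlgebraicCycle.map p B.δP B.δX (B.caps B.std (B.pull α) n) η = α η := by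
  classical
  have hmem := B.caps_mem B.std (B.pull_mem hα) n
  rw [add_sub_cancel_right] at hmem
  by_cases hk : B.δX η = k
  · have hval : ∀ z, p z = η → B.caps B.std (B.pull α) n z = if z = B.lpt η (Fin.last n) then α η else 0 :=
      fun z hz => by
        subst hz
        exact B.caps_std hα (Fin.last n) z hk
    have hd : B.δP (B.lpt η (Fin.last n)) = B.δX (p (B.lpt η (Fin.last n))) := by
      rw [B.delta_lpt, B.p_lpt, Fin.val_last]
      omega
    have := CycBivLib.map_apply_of_unique p B.δP B.δX (B.caps B.std (B.pull α) n) (B.lpt η (Fin.last n)) hd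
      ((B.loc η).residueDegree_lp_last (B.mem η) B.hP B.hδ) fun z hz hne => by
        rw [hval z (hz.trans (B.p_lpt η _)), ite_ne_right_iff] at hne
        exact hne.1
    rw [B.p_lpt, hval _ (B.p_lpt η _), if_pos rfl] at this
    exact this
  · rw [hα η hk]
    exact B.map_eq_zero_of fun z hz hd => hmem z fun h => hk (hd.symm.trans h)

theorem push_caps {k : ℤ} {α : AlgebraicCycle X ℤ} (hα : α ∈ Cyc.Zk X B.δX k) (t : Secs O1) :
    Cyc.RatEquiv B.δX k (AlgebraicCycle.map p B.δP B.δX (B.caps t (B.pull α) n)) α := by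
  have h := CycPushLib.ratEquiv_map B.hP B.hX p B.hδ (B.caps_change (B.pull_mem hα) t B.std n)
  rw [add_sub_cancel_right] at h
  rwa [show AlgebraicCycle.map p B.δP B.δX (B.caps B.std (B.pull α) n) = α from
    DFunLike.ext _ _ (B.map_caps_std hα)] at h

theorem ratEquivZero_finset_sum {Z : Scheme.{u}} {δ : Z → ℤ} (hZ : Cyc.IsSetup Z δ) {k : ℤ} {ι : Type*}
    (S : Finset ι) (γ : ι → AlgebraicCycle Z ℤ) (h : ∀ i ∈ S, Cyc.RatEquivZero δ k (γ i)) :
    Cyc.RatEquivZero δ k (∑ i ∈ S, γ i) := by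
  classical
  induction S using Finset.induction_on with
  | empty => exact CycCommLib.ratEquivZero_of_forall_eq_zero fun _ => by simp
  | insert a S ha IH =>
    rw [Finset.sum_insert ha]
    exact CycCommLib.ratEquivZero_add hZ (h a (Finset.mem_insert_self a S))
      (IH fun i hi => h i (Finset.mem_insert_of_mem hi)) fun _ => rfl

theorem cyc_sum_apply {Z : Scheme.{u}} {ι : Type*} (S : Finset ι) (γ : ι → AlgebraicCycle Z ℤ) (z : Z) :
    (∑ i ∈ S, γ i) z = ∑ i ∈ S, γ i z := by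
  classical
  induction S using Finset.induction_on with
  | empty => simp
  | insert a S ha IH =>
    rw [Finset.sum_insert ha, Finset.sum_insert ha, ← IH]
    rfl

theorem map_sub (a b : AlgebraicCycle P ℤ) : AlgebraicCycle.map p B.δP B.δX (a - b) =
    AlgebraicCycle.map p B.δP B.δX a - AlgebraicCycle.map p B.δP B.δX b :=
  CycSeqLib.cycMap_sub p B.δP B.δX a b

/-- The classes in the projective bundle formula are independent. -/
theorem independent (k : ℤ) (α : Fin (n + 1) → AlgebraicCycle X ℤ)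
    (hα : ∀ i : Fin (n + 1), α i ∈ Cyc.Zk X B.δX (k + (i : ℕ))) (t : Fin (n + 1) → Secs O1)
    (β : AlgebraicCycle P ℤ) (hβ : ∀ z, β z = ∑ i, B.caps (t i) (B.pull (α i)) (i : ℕ) z)
    (h0 : Cyc.RatEquivZero B.δP (k + n) β) (i : Fin (n + 1)) :
    Cyc.RatEquivZero B.δX (k + (i : ℕ)) (α i) := by
  classical
  haveI := B.flat
  suffices ∀ (d : ℕ) (i : Fin (n + 1)), n - (i : ℕ) = d → Cyc.RatEquivZero B.δX (k + (i : ℕ)) (α i) from
    this _ i rfl
  intro d
  induction d using Nat.strong_induction_on with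
  | _ d IH =>
  intro m hd
  let j : ℕ := n - (m : ℕ)
  let D : Fin (n + 1) → AlgebraicCycle P ℤ := fun i => B.caps (t i) (B.pull (α i)) (i : ℕ)
  have hDmem : ∀ i, D i ∈ Cyc.Zk P B.δP (k + n) := fun i => by
    have := B.caps_mem (t i) (B.pull_mem (hα i)) (i : ℕ)
    rwa [show (k + (i : ℕ) + n - (i : ℕ) : ℤ) = k + n by ring] at this
  have hβmem : β ∈ Cyc.Zk P B.δP (k + n) := fun z hz => by
    rw [hβ]
    exact Finset.sum_eq_zero fun i _ => hDmem i z hz
  have hj : (k + n - (j : ℕ) : ℤ) = k + (m : ℕ) := by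
    have := m.2
    simp only [j]
    omega
  -- the pushed classes
  let Q : Fin (n + 1) → AlgebraicCycle X ℤ := fun i => AlgebraicCycle.map p B.δP B.δX (B.caps B.std (D i) j)
  have hcase : ∀ i, i ≠ m → Cyc.RatEquivZero B.δX (k + (m : ℕ)) (Q i) := by
    intro i him
    have h1 := B.caps_caps (B.pull_mem (hα i)) (t i) B.std B.std (i : ℕ) j
    rw [show (k + (i : ℕ) + n - ((i : ℕ) + j : ℕ) : ℤ) = k + (m : ℕ) by push_cast; omega] at h1
    have h2 := CycPushLib.ratEquiv_map B.hP B.hX p B.hδ h1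
    suffices Cyc.RatEquivZero B.δX (k + (m : ℕ))
        (AlgebraicCycle.map p B.δP B.δX (B.caps B.std (B.pull (α i)) ((i : ℕ) + j))) from
      CycCommLib.ratEquivZero_add B.hX h2 this fun z => (sub_add_cancel _ _).symm
    rcases lt_or_gt_of_ne him with hlt | hgt
    · refine CycCommLib.ratEquivZero_of_forall_eq_zero (B.map_caps_of_lt (hα i) B.std ?_)
      have : (i : ℕ) < m := hlt
      simp only [j]
      omega
    · have hgt' : (m : ℕ) < i := hgt
      have hz := IH (n - (i : ℕ)) (by omega) i rfl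
      have hpull : Cyc.RatEquiv B.δP (k + (i : ℕ) + n) (B.pull (α i)) 0 := by
        show Cyc.RatEquivZero _ _ _
        rw [sub_zero]
        exact Groth.Agent.S1940.result X P B.δX B.δP B.hX B.hP p n
          (fun z hz => B.hgen z fun y hy hys => hz y hy hys) _ _ (hα i) hz _ rfl
      have h3 := CycPushLib.ratEquiv_map B.hP B.hX p B.hδ
        (B.caps_ratEquiv (B.pull_mem (hα i)) (fun _ _ => rfl) B.std B.std hpull ((i : ℕ) + j))
      rw [show (k + (i : ℕ) + n - ((i : ℕ) + j : ℕ) : ℤ) = k + (m : ℕ) by push_cast; omega,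
        show B.caps B.std 0 ((i : ℕ) + j) = 0 from DFunLike.ext _ _ fun z => B.caps_zero B.std _ z] at h3
      refine CycCommLib.ratEquivZero_add B.hX h3 (CycCommLib.ratEquivZero_of_forall_eq_zero
        (α := AlgebraicCycle.map p B.δP B.δX 0) fun η => B.map_eq_zero_of fun _ _ _ => rfl)
        fun z => (sub_add_cancel _ _).symm
  have hm : Cyc.RatEquiv B.δX (k + (m : ℕ)) (Q m) (α m) := by
    have h1 := B.caps_caps (B.pull_mem (hα m)) (t m) B.std B.std (m : ℕ) j
    have hnj : (m : ℕ) + j = n := by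
      have := m.2
      simp only [j]
      omega
    rw [hnj, add_sub_cancel_right] at h1
    exact CycCommLib.ratEquiv_trans B.hX (CycPushLib.ratEquiv_map B.hP B.hX p B.hδ h1) (B.push_caps (hα m) B.std)
  have hsum : AlgebraicCycle.map p B.δP B.δX (B.caps B.std β j) = ∑ i, Q i := by
    have e : B.caps B.std β j = ∑ i, B.caps B.std (D i) j := DFunLike.ext _ _ fun z => by
      rw [cyc_sum_apply, B.caps_sum B.std Finset.univ β D (fun _ => 1) Set.univ (fun _ _ _ _ => trivial)
        (fun z _ => (hβ z).trans (Finset.sum_congr rfl fun i _ => (one_mul _).symm)) j z trivial]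
      exact Finset.sum_congr rfl fun i _ => one_mul _
    rw [e]
    let M : AlgebraicCycle P ℤ →+ AlgebraicCycle X ℤ :=
      AddMonoidHom.ofMapSub (AlgebraicCycle.map p B.δP B.δX) B.map_sub
    exact map_sum M _ _
  have h0' : Cyc.RatEquivZero B.δX (k + (m : ℕ)) (∑ i, Q i) := by
    rw [← hsum]
    have hb : Cyc.RatEquiv B.δP (k + n) β 0 := by
      show Cyc.RatEquivZero _ _ _
      rw [sub_zero]
      exact h0
    have h3 := CycPushLib.ratEquiv_map B.hP B.hX p B.hδ (B.caps_ratEquiv hβmem (fun _ _ => rfl) B.std B.std hb j)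
    rw [hj, show B.caps B.std 0 j = 0 from DFunLike.ext _ _ fun z => B.caps_zero B.std _ z] at h3
    exact CycCommLib.ratEquivZero_add B.hX h3 (CycCommLib.ratEquivZero_of_forall_eq_zero
      (α := AlgebraicCycle.map p B.δP B.δX 0) fun η => B.map_eq_zero_of fun _ _ _ => rfl)
      fun z => (sub_add_cancel _ _).symm
  have hrest := ratEquivZero_finset_sum B.hX (Finset.univ.erase m) Q fun i hi => hcase i (Finset.ne_of_mem_erase hi)
  haveI := B.hX.1
  have hQm : Cyc.RatEquivZero B.δX (k + (m : ℕ)) (Q m) := by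
    have hneg : Cyc.RatEquivZero B.δX (k + (m : ℕ)) (-∑ i ∈ Finset.univ.erase m, Q i) :=
      CycCommLib.ratEquivZero_neg B.hX hrest fun _ => rfl
    refine CycCommLib.ratEquivZero_add B.hX h0' hneg fun z => ?_
    show Q m z = (∑ i, Q i) z + -((∑ i ∈ Finset.univ.erase m, Q i) z)
    rw [← Finset.add_sum_erase _ _ (Finset.mem_univ m)]
    show Q m z = Q m z + _ + -_
    ring
  exact CycCommLib.ratEquivZero_add B.hX (CycCommLib.ratEquiv_symm B.hX hm) hQm fun z => (sub_add_cancel _ _).symm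

end Push

/-- The classes in the projective bundle formula span. -/
theorem span [QuasiCompact p] [LocallyOfFiniteType p] (k : ℤ) (t : Fin (n + 1) → Secs O1)
    (β : AlgebraicCycle P ℤ) (hβ : β ∈ Cyc.Zk P B.δP (k + n)) :
    ∃ α : Fin (n + 1) → AlgebraicCycle X ℤ, (∀ i : Fin (n + 1), α i ∈ Cyc.Zk X B.δX (k + (i : ℕ))) ∧
      Cyc.RatEquiv B.δP (k + n) β (∑ i, B.caps (t i) (B.pull (α i)) (i : ℕ)) := by
  classical
  haveI := B.hP.1
  haveI := B.hX.1
  let P' := {x : P // B.δP x = k + n}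
  choose A₀ c₀ hfin hAp hc hval using fun x : P' =>
    (B.loc (p x.1)).exists_move (B.mem _) B.hP B.hδ (x := x.1) rfl
  let A : P' → Fam P B.δP (k + n) := fun x =>
    ⟨(A₀ x).I, (A₀ x).ξ, (A₀ x).f, fun i => by rw [(A₀ x).delta i, x.2], (A₀ x).ne_zero, (A₀ x).locFin⟩
  have hAsum : ∀ x z, (A x).sum z = (A₀ x).sum z := fun x z => rfl
  have hci : ∀ x i, c₀ x i ≠ 0 → B.δX (p x.1) = k + (i : ℕ) := fun x i h => by
    have h1 : B.δP (B.lpt (p x.1) i) = B.δP x.1 := hc x i h
    rw [B.delta_lpt, x.2] at h1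
    omega
  let pc : X → AlgebraicCycle X ℤ := fun η => pointCycle η 1
  have hpc : ∀ η, pc η ∈ Cyc.Zk X B.δX (B.δX η) := fun η z hz =>
    CycBivLib.pointCycle_ne 1 fun h => hz (by rw [h])
  let cap : X → Fin (n + 1) → AlgebraicCycle P ℤ := fun η i => B.caps B.std (B.pull (pc η)) (i : ℕ)
  let dfun : P' → AlgebraicCycle P ℤ := fun x => (A x).cyc B.hP + ∑ i, c₀ x i • cap (p x.1) i
  have hdval : ∀ x w, dfun x w = (A x).sum w + ∑ i, c₀ x i * cap (p x.1) i w := fun x w => by
    show (A x).sum w + (∑ i, c₀ x i • cap (p x.1) i) w = _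
    rw [cyc_sum_apply]
    refine congrArg ((A x).sum w + ·) (Finset.sum_congr rfl fun i _ => ?_)
    exact (congrFun (Function.locallyFinsuppWithin.coe_zsmul (cap (p x.1) i) (c₀ x i)) w).trans (smul_eq_mul _ _)
  have hAsupp : ∀ x w, (A x).sum w ≠ 0 → p x.1 ⤳ p w := fun x w h => by
    obtain ⟨i, hi⟩ : ∃ i, Cyc.divFun B.δP ((A x).ξ i) ((A x).f i) w ≠ 0 := by
      by_contra hc
      push Not at hc
      exact h (finsum_eq_zero_of_forall_eq_zero hc)
    rw [← hAp x i]
    exact Specializes.map (by_contra fun hn => hi (CycC1Lib.divFun_eq_zero_of_not_specializes hn _)) p.continuous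
  have hcapsupp : ∀ η i w, cap η i w ≠ 0 → η ⤳ p w ∧ B.δP w = B.δX η + n - (i : ℕ) := fun η i w h => by
    obtain ⟨η', h1, h2⟩ := B.caps_supp B.std _ w h
    have : η' = η := by_contra fun hh => h1 (CycBivLib.pointCycle_ne 1 hh)
    exact ⟨this ▸ h2, by_contra fun hh => h (B.caps_mem B.std (B.pull_mem (hpc η)) _ w hh)⟩
  obtain ⟨R, hRfin, hR⟩ := exists_decomp (δX := B.δP) B.hX p (k := k + n) (m := k)
    (fun w hw => by have := B.delta_le w; omega) dfun
    (fun x w h => by
      rw [hdval] at h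
      by_cases hA : (A x).sum w = 0
      · rw [hA, zero_add] at h
        obtain ⟨i, -, hi⟩ := Finset.exists_ne_zero_of_sum_ne_zero h
        obtain ⟨h1, h2⟩ := hcapsupp _ i w (right_ne_zero_of_mul hi)
        have := hci x i (left_ne_zero_of_mul hi)
        exact ⟨h1, by omega⟩
      · exact ⟨hAsupp x w hA, (A x).sum_ne_zero_delta hA⟩)
    (fun x w hw => by
      rw [hdval, hAsum]
      refine Eq.trans ?_ (hval x w hw).symm
      refine congrArg ((A₀ x).sum w + ·) (Finset.sum_congr rfl fun i _ => ?_)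
      have h1 : cap (p x.1) i w = if w = B.lpt (p x.1) i then (1 : ℤ) else 0 := by
        refine (B.caps_std (hpc (p x.1)) i w (by rw [hw])).trans ?_
        rw [hw]
        simp only [pc, CycBivLib.pointCycle_self]
      rw [h1, mul_ite, mul_one, mul_zero]
      rfl)
    β hβ
  -- the cycles on the base
  have hfinη : ∀ η, {x : P' | p x.1 = η ∧ R x ≠ 0}.Finite := fun η => by
    obtain ⟨V, hV, hηV, -⟩ := exists_isAffineOpen_mem_and_subset (X := X) (x := η) (U := ⊤) trivial
    exact (hRfin V hV).subset fun x hx => ⟨hx.1.symm ▸ hηV, hx.2⟩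
  let a : Fin (n + 1) → X → ℤ := fun i η => ∑ x ∈ (hfinη η).toFinset, R x * c₀ x i
  have ha : ∀ i η, a i η ≠ 0 → ∃ x : P', p x.1 = η ∧ R x ≠ 0 ∧ c₀ x i ≠ 0 := fun i η h => by
    obtain ⟨x, hx, hx'⟩ := Finset.exists_ne_zero_of_sum_ne_zero h
    exact ⟨x, ((hfinη η).mem_toFinset.1 hx).1, left_ne_zero_of_mul hx', right_ne_zero_of_mul hx'⟩
  let α : Fin (n + 1) → AlgebraicCycle X ℤ := fun i =>
    { toFun := a i
      supportWithinDomain' := by simp
      supportLocallyFiniteWithinDomain' := fun y _ => by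
        obtain ⟨V, hV, hyV, -⟩ := exists_isAffineOpen_mem_and_subset (X := X) (x := y) (U := ⊤) trivial
        refine ⟨V, V.isOpen.mem_nhds hyV, ((hRfin V hV).image fun x : P' => p x.1).subset ?_⟩
        rintro η ⟨hηV, hη⟩
        obtain ⟨x, hx, hR', -⟩ := ha i η hη
        exact ⟨x, ⟨hx.symm ▸ hηV, hR'⟩, hx⟩ }
  have hαmem : ∀ i : Fin (n + 1), α i ∈ Cyc.Zk X B.δX (k + (i : ℕ)) := fun i η hη => by
    by_contra h
    obtain ⟨x, hx, -, hc'⟩ := ha i η h
    exact hη (hx ▸ hci x i hc')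
  let T : AlgebraicCycle P ℤ := ∑ i, B.caps B.std (B.pull (α i)) (i : ℕ)
  refine ⟨α, hαmem, CycCommLib.ratEquiv_trans B.hP (β := T) ?_ ?_⟩
  swap
  · show Cyc.RatEquivZero _ _ (T - _)
    rw [← Finset.sum_sub_distrib]
    refine ratEquivZero_finset_sum B.hP _ _ fun i _ => ?_
    have := B.caps_change (B.pull_mem (hαmem i)) B.std (t i) (i : ℕ)
    rwa [show (k + (i : ℕ) + n - (i : ℕ) : ℤ) = k + n by ring] at this
  -- the family
  let I := Σ x : {x : P' // R x ≠ 0}, (A x.1).I
  let Fm : Fam P B.δP (k + n) :=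
    { I := I
      ξ := fun s => (A s.1.1).ξ s.2
      f := fun s => (A s.1.1).f s.2 ^ R s.1.1
      delta := fun s => (A s.1.1).delta s.2
      ne_zero := fun s => zpow_ne_zero _ ((A s.1.1).ne_zero s.2)
      locFin := fun z => by
        obtain ⟨V, hV, hzV, -⟩ := exists_isAffineOpen_mem_and_subset (X := X) (x := p z) (U := ⊤) trivial
        haveI : ∀ x : P', Finite (A x).I := hfin
        refine ⟨p ⁻¹' V, V.isOpen.preimage p.continuous, hzV,
          (((hRfin V hV).preimage (f := fun x : {x : P' // R x ≠ 0} => x.1) Subtype.val_injective.injOn).biUnion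
            fun x _ => Set.finite_range fun i : (A x.1).I => (⟨x, i⟩ : I)).subset ?_⟩
        rintro ⟨x, i⟩ ⟨y, hy, hyV⟩
        refine Set.mem_biUnion (x := x) ⟨?_, x.2⟩ ⟨i, rfl⟩
        rw [← hAp x.1 i]
        exact ((specializes_iff_mem_closure.2 hy).map p.continuous).mem_open V.isOpen hyV }
  refine Fm.ratEquivZero fun w => ?_
  obtain ⟨V, hV, hwV, -⟩ := exists_isAffineOpen_mem_and_subset (X := X) (x := p w) (U := ⊤) trivial
  let F := (hRfin V hV).toFinset
  have hF : ∀ x, R x ≠ 0 → p x.1 ⤳ p w → x ∈ F := fun x h1 h2 =>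
    (hRfin V hV).mem_toFinset.2 ⟨h2.mem_open V.isOpen hwV, h1⟩
  have hT : T w = ∑ x ∈ F, R x * ∑ i, c₀ x i * cap (p x.1) i w := by
    show (∑ i, B.caps B.std (B.pull (α i)) (i : ℕ)) w = _
    rw [cyc_sum_apply]
    have hi : ∀ i, B.caps B.std (B.pull (α i)) (i : ℕ) w = ∑ x ∈ F, (R x * c₀ x i) * cap (p x.1) i w := by
      intro i
      refine B.caps_sum B.std F (B.pull (α i)) (fun x => B.pull (pc (p x.1))) (fun x => R x * c₀ x i)
        {z | p z ⤳ p w} (fun z hz ξ hξ => (hξ.map p.continuous).trans hz) (fun z hz => ?_) (i : ℕ) w specializes_rfl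
      simp only [B.pull_apply]
      by_cases hl : z = B.lpt (p z) 0
      · simp only [if_pos hl]
        show a i (p z) = _
        have h1 : ∀ x : P', pc (p x.1) (p z) = if p x.1 = p z then (1 : ℤ) else 0 := fun x => by
          by_cases he : p x.1 = p z
          · rw [if_pos he]; simp only [pc, he, CycBivLib.pointCycle_self]
          · rw [if_neg he]; exact CycBivLib.pointCycle_ne 1 (Ne.symm he)
        simp only [h1, mul_ite, mul_one, mul_zero]
        rw [← Finset.sum_filter]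
        refine Finset.sum_congr ?_ fun _ _ => rfl
        ext x
        simp only [Set.Finite.mem_toFinset, Set.mem_ofPred_eq, Finset.mem_filter]
        exact ⟨fun h => ⟨hF x h.2 (h.1 ▸ hz), h.1⟩, fun h => ⟨h.2, ((hRfin V hV).mem_toFinset.1 h.1).2⟩⟩
      · simp only [if_neg hl, mul_zero, Finset.sum_const_zero]
    rw [Finset.sum_congr rfl fun i _ => hi i, Finset.sum_comm]
    refine Finset.sum_congr rfl fun x _ => ?_
    rw [Finset.mul_sum]
    exact Finset.sum_congr rfl fun i _ => mul_assoc _ _ _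
  have hFm : Fm.sum w = ∑ x ∈ F, R x * (A x).sum w := by
    haveI : ∀ x : P', Finite (A x).I := hfin
    haveI : ∀ x : P', Fintype (A x).I := fun x => Fintype.ofFinite _
    let g : I → ℤ := fun s => R s.1.1 * Cyc.divFun B.δP ((A s.1.1).ξ s.2) ((A s.1.1).f s.2) w
    have hg : Fm.sum w = ∑ᶠ s, g s :=
      finsum_congr fun s => CycC1Lib.divFun_zpow B.hP ((A s.1.1).ne_zero s.2) _ _
    have hsub : Function.support g ⊆ ↑((F.subtype fun x => R x ≠ 0).sigma fun x => (Finset.univ : Finset (A x.1).I)) := by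
      rintro ⟨x, i⟩ h
      rw [Finset.mem_coe, Finset.mem_sigma, Finset.mem_subtype]
      refine ⟨hF x.1 x.2 ?_, Finset.mem_univ _⟩
      rw [← hAp x.1 i]
      exact Specializes.map (by_contra fun hn => right_ne_zero_of_mul h (CycC1Lib.divFun_eq_zero_of_not_specializes hn _))
        p.continuous
    rw [hg, finsum_eq_sum_of_support_subset g hsub, Finset.sum_sigma]
    refine (Finset.sum_congr rfl fun x _ => (show _ = R x.1 * (A x.1).sum w by
      show ∑ i, R x.1 * _ = _
      rw [← Finset.mul_sum, ← finsum_eq_sum_of_fintype]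
      rfl)).trans ?_
    rw [Finset.sum_subtype_eq_sum_filter (fun x : P' => R x * (A x).sum w),
      Finset.filter_eq_self.2 fun x hx => ((hRfin V hV).mem_toFinset.1 hx).2]
  show β w - T w = Fm.sum w
  rw [hR w F hF, hT, hFm, ← Finset.sum_sub_distrib]
  refine Finset.sum_congr rfl fun x _ => ?_
  rw [hdval]
  ring

end Bun

end CycPBLib

end
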