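import Mathlib
import Groth.Prelude.Def_ChowOps2
import Groth.Agent.CycPBLib.Main
import Groth.Agent.CycPBLib.UnivCharts

/-!
# Chern classes from the projective bundle formula
-/

set_option autoImplicit false
set_option linter.style.haveILetI false
set_option linter.unusedSectionVars false

universe u

open AlgebraicGeometry CategoryTheory CategoryTheory.Limits Opposite

noncomputable section

namespace CycPBLib

variable {X P : Scheme.{u}} {p : P ⟶ X} {O1 : P.Modules} {n : ℕ}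

theorem exists_bun' {E : X.Modules} (hE : FlatMod.IsFinLocFreeOfRank (n + 1) E)
    {q : (Scheme.Modules.pullback p).obj E ⟶ O1} (hP : KRR.IsProjBundle p E O1 q) {δ : X → ℤ} {δP : P → ℤ}
    (hX : Cyc.IsSetup X δ) (hPs : Cyc.IsSetup P δP) (hδ : Cyc.DeltaCompat p δP δ) :
    ∃ B : Bun p O1 n, B.δX = δ ∧ B.δP = δP := by
  haveI := hX.1
  choose L hL using fun η => exists_locData' hE hP η
  exact ⟨⟨δ, δP, hX, hPs, hδ, (CohCmpLib.invertible_iff_rank_one O1).2 hP.invertible, L, hL⟩, rfl, rfl⟩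

/-- The projective bundle of the zero module is empty. -/
theorem isEmpty_of_rank_zero {E : X.Modules} (hE : FlatMod.IsFinLocFreeOfRank 0 E)
    {q : (Scheme.Modules.pullback p).obj E ⟶ O1} (hP : KRR.IsProjBundle p E O1 q) : IsEmpty P := by
  refine ⟨fun z => ?_⟩
  obtain ⟨U, hz, ⟨φ⟩⟩ := hE (p z)
  haveI := hP.epi
  obtain ⟨k, -⟩ := exists_genAt_eSec φ (q := q) ((CohCmpLib.invertible_iff_rank_one O1).2 hP.invertible) hz
  exact k.elim0

/-- The difference of two cycles in `Zk`. -/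
theorem sub_mem_Zk {Z : Scheme.{u}} {δ : Z → ℤ} {k : ℤ} {a b : AlgebraicCycle Z ℤ} (ha : a ∈ Cyc.Zk Z δ k)
    (hb : b ∈ Cyc.Zk Z δ k) : a - b ∈ Cyc.Zk Z δ k := fun z hz => by
  show a z - b z = 0
  rw [ha z hz, hb z hz, sub_zero]

theorem smul_mem_Zk {Z : Scheme.{u}} {δ : Z → ℤ} {k : ℤ} (c : ℤ) {a : AlgebraicCycle Z ℤ} (ha : a ∈ Cyc.Zk Z δ k) :
    c • a ∈ Cyc.Zk Z δ k := fun z hz => by
  show (c • a) z = 0
  rw [show (c • a) z = c * a z from (congrFun (Function.locallyFinsuppWithin.coe_zsmul a c) z).trans (smul_eq_mul _ _),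
    ha z hz, mul_zero]

theorem smul_apply {Z : Scheme.{u}} (c : ℤ) (a : AlgebraicCycle Z ℤ) (z : Z) : (c • a) z = c * a z :=
  (congrFun (Function.locallyFinsuppWithin.coe_zsmul a c) z).trans (smul_eq_mul _ _)

theorem ratEquivZero_smul {Z : Scheme.{u}} {δ : Z → ℤ} (hZ : Cyc.IsSetup Z δ) {k : ℤ} (c : ℤ)
    {a : AlgebraicCycle Z ℤ} (ha : Cyc.RatEquivZero δ k a) : Cyc.RatEquivZero δ k (c • a) := by
  have hnat : ∀ m : ℕ, Cyc.RatEquivZero δ k ((m : ℤ) • a) := fun m => by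
    induction m with
    | zero => exact CycCommLib.ratEquivZero_of_forall_eq_zero fun z => by rw [smul_apply]; simp
    | succ m IH =>
      exact CycCommLib.ratEquivZero_add hZ IH ha fun z => by
        rw [smul_apply, smul_apply]; push_cast; ring
  obtain ⟨m, rfl | rfl⟩ := c.eq_nat_or_neg
  · exact hnat m
  · exact CycCommLib.ratEquivZero_neg hZ (hnat m) fun z => by rw [smul_apply, smul_apply]; ring

/-- The iterated cap as a function. -/
theorem c1PowFun_eq (B : Bun p O1 n) (t : Bun.Secs O1) (D : AlgebraicCycle P ℤ) :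
    ∀ i : ℕ, Cyc.c1PowFun B.δP O1 t.t i ⇑D = ⇑(B.caps t D i)
  | 0 => rfl
  | i + 1 => by
    show Cyc.c1CapFun B.δP O1 (Cyc.c1PowFun B.δP O1 t.t i ⇑D) (t.t i) = _
    rw [c1PowFun_eq B t D i, B.caps_succ]

namespace Bun

variable (B : Bun p O1 n)

theorem caps_lin (t : Secs O1) {ι : Type*} (S : Finset ι) (c : ι → ℤ) (Ds : ι → AlgebraicCycle P ℤ) (i : ℕ) :
    B.caps t (∑ a ∈ S, c a • Ds a) i = ∑ a ∈ S, c a • B.caps t (Ds a) i :=
  DFunLike.ext _ _ fun z => by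
    rw [cyc_sum_apply, B.caps_sum t S _ Ds c Set.univ (fun _ _ _ _ => trivial)
      (fun z _ => (cyc_sum_apply S _ z).trans (Finset.sum_congr rfl fun a _ => smul_apply _ _ _)) i z trivial]
    exact Finset.sum_congr rfl fun a _ => (smul_apply _ _ _).symm

theorem caps_smul (t : Secs O1) (c : ℤ) (D : AlgebraicCycle P ℤ) (i : ℕ) :
    B.caps t (c • D) i = c • B.caps t D i := by
  simpa using B.caps_lin t (Finset.univ : Finset Unit) (fun _ => c) (fun _ => D) i

theorem caps_sub (t : Secs O1) (D D' : AlgebraicCycle P ℤ) (i : ℕ) :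
    B.caps t (D - D') i = B.caps t D i - B.caps t D' i := by
  have h := B.caps_lin t (Finset.univ : Finset Bool) (fun b => if b then 1 else -1) (fun b => if b then D else D') i
  simp only [Fintype.sum_bool, if_true, Bool.false_eq_true, if_false, one_smul, neg_one_smul, ← sub_eq_add_neg] at h
  exact h

theorem pull_smul (c : ℤ) (a : AlgebraicCycle X ℤ) : B.pull (c • a) = c • B.pull a :=
  DFunLike.ext _ _ fun z => by
    simp only [smul_apply, B.pull_apply]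
    split_ifs
    · rfl
    · rw [mul_zero]

theorem pull_sub (a b : AlgebraicCycle X ℤ) : B.pull (a - b) = B.pull a - B.pull b :=
  DFunLike.ext _ _ fun z => by
    show B.pull (a - b) z = B.pull a z - B.pull b z
    simp only [B.pull_apply]
    split_ifs
    · rfl
    · rw [sub_zero]

theorem caps_pull_smul (t : Secs O1) (c : ℤ) (a : AlgebraicCycle X ℤ) (i : ℕ) :
    B.caps t (B.pull (c • a)) i = c • B.caps t (B.pull a) i := by
  rw [B.pull_smul, B.caps_smul]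

theorem caps_pull_sub (t : Secs O1) (a b : AlgebraicCycle X ℤ) (i : ℕ) :
    B.caps t (B.pull (a - b)) i = B.caps t (B.pull a) i - B.caps t (B.pull b) i := by
  rw [B.pull_sub, B.caps_sub]

theorem pull_ratEquivZero {k : ℤ} {α : AlgebraicCycle X ℤ} (hα : α ∈ Cyc.Zk X B.δX k)
    (h : Cyc.RatEquivZero B.δX k α) : Cyc.RatEquivZero B.δP (k + n) (B.pull α) := by
  haveI := B.flat
  exact Groth.Agent.S1940.result X P B.δX B.δP B.hX B.hP p n
    (fun z hz => B.hgen z fun y hy hys => hz y hy hys) _ _ hα h _ rfl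

theorem caps_ratEquivZero {k : ℤ} {D : AlgebraicCycle P ℤ} (hD : D ∈ Cyc.Zk P B.δP k) (t : Secs O1)
    (h : Cyc.RatEquivZero B.δP k D) (i : ℕ) : Cyc.RatEquivZero B.δP (k - i) (B.caps t D i) := by
  have h0 : Cyc.RatEquiv B.δP k D 0 := by
    show Cyc.RatEquivZero _ _ _
    rwa [sub_zero]
  have h1 := B.caps_ratEquiv hD (fun _ _ => rfl) t t h0 i
  rw [show B.caps t 0 i = 0 from DFunLike.ext _ _ fun z => B.caps_zero t i z] at h1
  have h2 : Cyc.RatEquivZero B.δP (k - i) (B.caps t D i - 0) := h1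
  rwa [sub_zero] at h2

/-- The defining combination of the Chern classes. -/
def relCyc (t : Secs O1) (γ : Fin (n + 2) → AlgebraicCycle X ℤ) : AlgebraicCycle P ℤ :=
  ∑ i : Fin (n + 2), ((-1 : ℤ) ^ (i : ℕ)) • B.caps t (B.pull (γ (Fin.rev i))) (i : ℕ)

theorem relCyc_apply (t : Secs O1) (γ : Fin (n + 2) → AlgebraicCycle X ℤ) (z : P) :
    B.relCyc t γ z = ∑ i : Fin (n + 2), (-1 : ℤ) ^ (i : ℕ) *
      Cyc.c1PowFun B.δP O1 t.t (i : ℕ) (Cyc.pullFun p B.δP B.δX (((n + 1 : ℕ) : ℤ) - 1) ⇑(γ (Fin.rev i))) z := by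
  rw [relCyc, cyc_sum_apply]
  refine Finset.sum_congr rfl fun i _ => ?_
  rw [smul_apply, show (((n + 1 : ℕ) : ℤ) - 1) = (n : ℤ) by push_cast; ring]
  refine congrArg (_ * ·) ?_
  rw [show Cyc.pullFun p B.δP B.δX (n : ℤ) ⇑(γ (Fin.rev i)) = ⇑(B.pull (γ (Fin.rev i))) from rfl,
    c1PowFun_eq B t]

theorem isChernCap_iff (k : ℤ) (α : AlgebraicCycle X ℤ) (γ : Fin (n + 2) → AlgebraicCycle X ℤ) :
    Cyc.IsChernCap p B.δX B.δP O1 (n + 1) k α γ ↔
      γ 0 = α ∧ (∀ j : Fin (n + 2), γ j ∈ Cyc.Zk X B.δX (k - ((j : ℕ) : ℤ))) ∧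
        ∀ t : Secs O1, Cyc.RatEquivZero B.δP (k - 1) (B.relCyc t γ) := by
  refine and_congr_right fun _ => and_congr_right fun _ => ⟨fun h t => ?_, fun h t ht β hβ => ?_⟩
  · exact h t.t t.ne _ fun y => B.relCyc_apply t γ y
  · have : β = B.relCyc ⟨t, ht⟩ γ := DFunLike.ext _ _ fun y => (hβ y).trans (B.relCyc_apply ⟨t, ht⟩ γ y).symm
    exact this ▸ h ⟨t, ht⟩

theorem term_mem (t : Secs O1) {k : ℤ} {γ : Fin (n + 2) → AlgebraicCycle X ℤ}
    (hγ : ∀ j : Fin (n + 2), γ j ∈ Cyc.Zk X B.δX (k - ((j : ℕ) : ℤ))) (i : Fin (n + 2)) :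
    B.caps t (B.pull (γ (Fin.rev i))) (i : ℕ) ∈ Cyc.Zk P B.δP (k - 1) := by
  have := B.caps_mem t (B.pull_mem (hγ (Fin.rev i))) (i : ℕ)
  rwa [show k - ((Fin.rev i : Fin (n + 2)) : ℕ) + (n : ℤ) - (i : ℕ) = k - 1 by
    have := i.2; rw [Fin.val_rev]; omega] at this

/-- The relation does not depend on the sections. -/
theorem relCyc_change {k : ℤ} {γ : Fin (n + 2) → AlgebraicCycle X ℤ}
    (hγ : ∀ j : Fin (n + 2), γ j ∈ Cyc.Zk X B.δX (k - ((j : ℕ) : ℤ))) (t t' : Secs O1)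
    (h : Cyc.RatEquivZero B.δP (k - 1) (B.relCyc t γ)) : Cyc.RatEquivZero B.δP (k - 1) (B.relCyc t' γ) := by
  have hd : ∀ i : Fin (n + 2), Cyc.RatEquivZero B.δP (k - 1)
      (((-1 : ℤ) ^ (i : ℕ)) • (B.caps t' (B.pull (γ (Fin.rev i))) (i : ℕ) -
        B.caps t (B.pull (γ (Fin.rev i))) (i : ℕ))) := fun i => by
    refine ratEquivZero_smul B.hP _ ?_
    have := B.caps_change (B.pull_mem (hγ (Fin.rev i))) t' t (i : ℕ)
    rwa [show k - ((Fin.rev i : Fin (n + 2)) : ℕ) + (n : ℤ) - (i : ℕ) = k - 1 by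
      have := i.2; rw [Fin.val_rev]; omega] at this
  have hsum : Cyc.RatEquivZero B.δP (k - 1) (∑ i : Fin (n + 2), ((-1 : ℤ) ^ (i : ℕ)) •
      (B.caps t' (B.pull (γ (Fin.rev i))) (i : ℕ) - B.caps t (B.pull (γ (Fin.rev i))) (i : ℕ))) := by
    clear h
    classical
    induction (Finset.univ : Finset (Fin (n + 2))) using Finset.induction_on with
    | empty => exact CycCommLib.ratEquivZero_of_forall_eq_zero fun _ => by simp
    | insert a S ha IH =>
      rw [Finset.sum_insert ha]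
      exact CycCommLib.ratEquivZero_add B.hP (hd a) IH fun _ => rfl
  refine CycCommLib.ratEquivZero_add B.hP hsum h fun z => ?_
  simp only [smul_sub, Finset.sum_sub_distrib]
  exact (sub_add_cancel (B.relCyc t' γ z) (B.relCyc t γ z)).symm

/-- Chern caps vanish on classes of cycles rationally equivalent to zero. -/
theorem chern_zero [IsProper p] {k : ℤ} {γ : Fin (n + 2) → AlgebraicCycle X ℤ}
    (hγ : ∀ j : Fin (n + 2), γ j ∈ Cyc.Zk X B.δX (k - ((j : ℕ) : ℤ))) (h0 : Cyc.RatEquivZero B.δX k (γ 0))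
    (t : Secs O1) (hrel : Cyc.RatEquivZero B.δP (k - 1) (B.relCyc t γ)) (j : Fin (n + 2)) :
    Cyc.RatEquivZero B.δX (k - ((j : ℕ) : ℤ)) (γ j) := by
  have hlast : Cyc.RatEquivZero B.δP (k - 1)
      (((-1 : ℤ) ^ (n + 1)) • B.caps t (B.pull (γ 0)) (n + 1)) := by
    refine ratEquivZero_smul B.hP _ ?_
    have h1 := B.caps_ratEquivZero (B.pull_mem (k := k) (by simpa using hγ 0)) t
      (B.pull_ratEquivZero (by simpa using hγ 0) h0) (n + 1)
    rwa [show k + (n : ℤ) - ((n + 1 : ℕ) : ℤ) = k - 1 by push_cast; ring] at h1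
  let a : Fin (n + 1) → AlgebraicCycle X ℤ := fun i => ((-1 : ℤ) ^ (i : ℕ)) • γ (Fin.rev i.castSucc)
  have hk : ∀ i : Fin (n + 1), (k - 1 - n) + (i : ℕ) = k - ((Fin.rev i.castSucc : Fin (n + 2)) : ℕ) := fun i => by
    rw [Fin.val_rev, Fin.val_castSucc]
    omega
  have ha : ∀ i : Fin (n + 1), a i ∈ Cyc.Zk X B.δX ((k - 1 - n) + (i : ℕ)) := fun i => by
    rw [hk]
    exact smul_mem_Zk _ (hγ _)
  have hsum : Cyc.RatEquivZero B.δP ((k - 1 - n) + n) (∑ i, B.caps t (B.pull (a i)) (i : ℕ)) := by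
    rw [sub_add_cancel]
    have hneg : Cyc.RatEquivZero B.δP (k - 1) (-(((-1 : ℤ) ^ (n + 1)) • B.caps t (B.pull (γ 0)) (n + 1))) :=
      CycCommLib.ratEquivZero_neg B.hP hlast fun _ => rfl
    refine CycCommLib.ratEquivZero_add B.hP hrel hneg fun z => ?_
    show _ = B.relCyc t γ z + -((((-1 : ℤ) ^ (n + 1)) • B.caps t (B.pull (γ 0)) (n + 1)) z)
    rw [relCyc, Fin.sum_univ_castSucc (n := n + 1), Fin.val_last, Fin.rev_last]
    simp only [a, B.caps_pull_smul, Fin.val_castSucc]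
    show _ = (_ + _) + -_
    rw [add_neg_cancel_right]
  have key := B.independent (k - 1 - n) a ha (fun _ => t) _ (fun z => cyc_sum_apply _ _ z) hsum
  rcases Fin.eq_zero_or_eq_succ j with rfl | ⟨j', rfl⟩
  · simpa using h0
  · have h1 := ratEquivZero_smul B.hX ((-1 : ℤ) ^ ((Fin.rev j' : Fin (n + 1)) : ℕ)) (key (Fin.rev j'))
    rw [hk, show Fin.rev (Fin.castSucc (Fin.rev j')) = j'.succ by rw [Fin.rev_castSucc, Fin.rev_rev]] at h1
    simp only [a] at h1
    rwa [smul_smul, ← mul_pow, neg_one_mul, neg_neg, one_pow, one_smul,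
      show Fin.rev (Fin.castSucc (Fin.rev j')) = j'.succ by rw [Fin.rev_castSucc, Fin.rev_rev]] at h1

theorem relCyc_sub (t : Secs O1) (γ γ' : Fin (n + 2) → AlgebraicCycle X ℤ) :
    B.relCyc t (fun j => γ j - γ' j) = B.relCyc t γ - B.relCyc t γ' := by
  simp only [relCyc, B.caps_pull_sub, smul_sub, Finset.sum_sub_distrib]

/-- Chern caps respect rational equivalence. -/
theorem chern_unique [IsProper p] {k : ℤ} {α α' : AlgebraicCycle X ℤ} (h : Cyc.RatEquiv B.δX k α α')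
    {γ γ' : Fin (n + 2) → AlgebraicCycle X ℤ} (hγ : Cyc.IsChernCap p B.δX B.δP O1 (n + 1) k α γ)
    (hγ' : Cyc.IsChernCap p B.δX B.δP O1 (n + 1) k α' γ') (j : Fin (n + 2)) :
    Cyc.RatEquiv B.δX (k - ((j : ℕ) : ℤ)) (γ j) (γ' j) := by
  obtain ⟨h1, h2, h3⟩ := (B.isChernCap_iff _ _ _).1 hγ
  obtain ⟨h1', h2', h3'⟩ := (B.isChernCap_iff _ _ _).1 hγ'
  refine B.chern_zero (γ := fun j => γ j - γ' j) (fun j => sub_mem_Zk (h2 j) (h2' j)) ?_ B.std ?_ j
  · show Cyc.RatEquivZero _ _ (γ 0 - γ' 0)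
    rw [h1, h1']
    exact h
  · rw [B.relCyc_sub]
    have hneg : Cyc.RatEquivZero B.δP (k - 1) (-B.relCyc B.std γ') :=
      CycCommLib.ratEquivZero_neg B.hP (h3' B.std) fun _ => rfl
    exact CycCommLib.ratEquivZero_add B.hP (h3 B.std) hneg fun z => sub_eq_add_neg (B.relCyc B.std γ z) _

/-- Existence of Chern caps. -/
theorem exists_chern [IsProper p] {k : ℤ} {α : AlgebraicCycle X ℤ} (hα : α ∈ Cyc.Zk X B.δX k) :
    ∃ γ, Cyc.IsChernCap p B.δX B.δP O1 (n + 1) k α γ := by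
  let β := B.caps B.std (B.pull α) (n + 1)
  have hβ : β ∈ Cyc.Zk P B.δP ((k - 1 - n) + n) := by
    have := B.caps_mem B.std (B.pull_mem hα) (n + 1)
    rwa [show k + (n : ℤ) - ((n + 1 : ℕ) : ℤ) = (k - 1 - n) + n by push_cast; ring] at this
  obtain ⟨a, ha, hre⟩ := B.span (k - 1 - n) (fun _ => B.std) β hβ
  rw [sub_add_cancel] at hre
  let γ : Fin (n + 2) → AlgebraicCycle X ℤ :=
    Fin.cons α fun j => ((-1 : ℤ) ^ (n + ((Fin.rev j : Fin (n + 1)) : ℕ))) • a (Fin.rev j)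
  have hγ : ∀ j : Fin (n + 2), γ j ∈ Cyc.Zk X B.δX (k - ((j : ℕ) : ℤ)) := fun j => by
    rcases Fin.eq_zero_or_eq_succ j with rfl | ⟨j', rfl⟩
    · simpa [γ] using hα
    · simp only [γ, Fin.cons_succ, Fin.val_succ]
      refine smul_mem_Zk _ ?_
      have := ha (Fin.rev j')
      rwa [show (k - 1 - n) + ((Fin.rev j' : Fin (n + 1)) : ℕ) = k - ((j' : ℕ) + 1 : ℕ) by
        rw [Fin.val_rev]; have := j'.2; omega] at this
  have hstd : Cyc.RatEquivZero B.δP (k - 1) (B.relCyc B.std γ) := by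
    refine CycCommLib.ratEquivZero_add B.hP (ratEquivZero_smul B.hP ((-1 : ℤ) ^ (n + 1)) hre)
      (CycCommLib.ratEquivZero_of_forall_eq_zero (α := 0) fun _ => rfl) fun z => ?_
    show _ = _ + (0 : ℤ)
    rw [add_zero, relCyc, cyc_sum_apply, smul_apply]
    show _ = _ * (β z - _)
    rw [cyc_sum_apply, Fin.sum_univ_castSucc, Fin.val_last, Fin.rev_last]
    have hterm : ∀ i : Fin (n + 1), (((-1 : ℤ) ^ ((i.castSucc : Fin (n + 2)) : ℕ)) •
        B.caps B.std (B.pull (γ (Fin.rev i.castSucc))) ((i.castSucc : Fin (n + 2)) : ℕ)) z =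
          (-1 : ℤ) ^ n * B.caps B.std (B.pull (a i)) (i : ℕ) z := fun i => by
      simp only [γ, Fin.rev_castSucc, Fin.cons_succ, Fin.rev_rev, Fin.val_castSucc, B.caps_pull_smul, smul_apply]
      rw [← mul_assoc, ← pow_add, show (i : ℕ) + (n + (i : ℕ)) = 2 * (i : ℕ) + n by ring, pow_add, pow_mul]
      simp
    rw [Finset.sum_congr rfl fun i _ => hterm i, smul_apply, ← Finset.mul_sum,
      show γ 0 = α from rfl, pow_succ]
    ring
  refine ⟨γ, (B.isChernCap_iff _ _ _).2 ⟨rfl, hγ, fun t => ?_⟩⟩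
  have hd : ∀ i : Fin (n + 2), Cyc.RatEquivZero B.δP (k - 1)
      (((-1 : ℤ) ^ (i : ℕ)) • (B.caps t (B.pull (γ (Fin.rev i))) (i : ℕ) -
        B.caps B.std (B.pull (γ (Fin.rev i))) (i : ℕ))) := fun i => by
    refine ratEquivZero_smul B.hP _ ?_
    have := B.caps_change (B.pull_mem (hγ (Fin.rev i))) t B.std (i : ℕ)
    rwa [show k - ((Fin.rev i : Fin (n + 2)) : ℕ) + (n : ℤ) - (i : ℕ) = k - 1 by
      have := i.2; rw [Fin.val_rev]; omega] at this
  refine CycCommLib.ratEquivZero_add B.hP (ratEquivZero_finset_sum B.hP Finset.univ _ fun i _ => hd i) hstd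
    fun z => ?_
  simp only [relCyc, cyc_sum_apply, smul_apply]
  rw [← Finset.sum_add_distrib]
  refine Finset.sum_congr rfl fun i _ => ?_
  show _ = (-1 : ℤ) ^ (i : ℕ) * (B.caps t (B.pull (γ (Fin.rev i))) (i : ℕ) z -
    B.caps B.std (B.pull (γ (Fin.rev i))) (i : ℕ) z) + _
  ring

end Bun

end CycPBLib

end
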