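import Mathlib
import Groth.Agent.CycPBLib.Chern
import Groth.Agent.CycPBLib.ProjBC
import Groth.Agent.CycBivLib.IsoPush
import Groth.Agent.CycSeqLib.Family
import Groth.Agent.SeesawLib.Ranks
import Groth.Agent.S1857

/-!
# Functoriality of the Chern caps
-/

set_option autoImplicit false
set_option linter.style.haveILetI false
set_option linter.unusedSectionVars false

universe u

open AlgebraicGeometry CategoryTheory CategoryTheory.Limits Opposite

noncomputable section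

namespace CycPBLib

open CycC1Lib (pbFib)

variable {X Y P P' : Scheme.{u}} {p : P ⟶ Y} {O1 : P.Modules} {n : ℕ}

theorem ratEquiv_apply_eq {Z : Scheme.{u}} {δ : Z → ℤ} {k : ℤ} {a a' : AlgebraicCycle Z ℤ}
    (h : Cyc.RatEquivZero δ k a) (e : ∀ z, a' z = a z) : Cyc.RatEquivZero δ k a' :=
  (DFunLike.ext _ _ e : a' = a) ▸ h

theorem map_mem_Zk {δP : P → ℤ} {δY : Y → ℤ} {k : ℤ} (f : P ⟶ Y) [QuasiCompact f] {α : AlgebraicCycle P ℤ}
    (hα : α ∈ Cyc.Zk P δP k) : AlgebraicCycle.map f δP δY α ∈ Cyc.Zk Y δY k := fun y hy =>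
  finsum_mem_eq_zero_of_forall_eq_zero fun z (hz : f z = y) => by
    by_cases hd : δP z = δY (f z)
    · rw [hα z fun h => hy (by rw [← hz, ← hd, h]), zero_mul]
    · simp [AlgebraicCycle.mapCoeff, hd]

theorem map_zsmul (f : P ⟶ Y) [QuasiCompact f] (δP : P → ℤ) (δY : Y → ℤ) (c : ℤ) (α : AlgebraicCycle P ℤ) :
    AlgebraicCycle.map f δP δY (c • α) = c • AlgebraicCycle.map f δP δY α :=
  (AddMonoidHom.ofMapSub (AlgebraicCycle.map f δP δY) (CycSeqLib.cycMap_sub f δP δY)).map_zsmul c α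

theorem map_finset_sum (f : P ⟶ Y) [QuasiCompact f] (δP : P → ℤ) (δY : Y → ℤ) {ι : Type*} (S : Finset ι)
    (α : ι → AlgebraicCycle P ℤ) :
    AlgebraicCycle.map f δP δY (∑ i ∈ S, α i) = ∑ i ∈ S, AlgebraicCycle.map f δP δY (α i) :=
  map_sum (AddMonoidHom.ofMapSub (AlgebraicCycle.map f δP δY) (CycSeqLib.cycMap_sub f δP δY)) _ _

theorem pullFun_sum_zsmul (f : P ⟶ Y) (δP : P → ℤ) (δY : Y → ℤ) (r : ℤ) {ι : Type*} (S : Finset ι) (c : ι → ℤ)
    (F : ι → Y → ℤ) :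
    Cyc.pullFun f δP δY r (fun y => ∑ i ∈ S, c i * F i y) =
      fun z => ∑ i ∈ S, c i * Cyc.pullFun f δP δY r (F i) z := by
  funext z
  simp only [Cyc.pullFun]
  split_ifs
  · rw [Finset.sum_mul]
    exact Finset.sum_congr rfl fun i _ => mul_assoc _ _ _
  · simp

/-- The relative dimension of a projective bundle. -/
theorem Bun.relDim (B : Bun p O1 n) [LocallyOfFiniteType p] : Cyc.HasRelDim p n := by
  intro η T hT
  obtain ⟨w, hw, hd⟩ := @FibDimLib.exists_generic_of_component (Y.residueField η) _ _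
    (p.fiberToSpecResidueField η) (UOpenLib.lft_fiberToSpec p η) _ hT
  rw [← hd, ← FibDimLib.fibreDimAt_fiberι]
  have hmax := UOpenLib.max_of_closure_mem p (z := w) (hw ▸ hT)
  have hgen : CycLimLib.IsGen p ((p.fiberι η) w) := fun x' a b => hmax x' a b.mem_closure
  rw [UOpenLib.fibreDimAt_eq_of_max p hmax, AlgSpLib.fibreClosureDim_eq_resTrdeg]
  obtain ⟨m, hm, hδm⟩ := B.hδ ((p.fiberι η) w)
  have h1 := B.hgen _ hgen
  obtain rfl : m = n := by omega
  rw [show Dual3.resTrdeg p ((p.fiberι η) w) = (m : Cardinal) from hm, map_natCast]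
  rfl

/-- The sections pulled back to a base change. -/
def pullSecs (f' : P' ⟶ P) (hinv : PicF.IsInvertible O1) (t : Bun.Secs O1) :
    Bun.Secs ((Scheme.Modules.pullback f').obj O1) :=
  ⟨fun i ξ => pbFib f' O1 ξ (t.t i (f' ξ)), fun i ξ => CycC1Lib.pbFib_ne_zero f' hinv (t.ne i (f' ξ))⟩

variable {π' : P' ⟶ X} {f : X ⟶ Y} {f' : P' ⟶ P} (B : Bun p O1 n)
  (B' : Bun π' ((Scheme.Modules.pullback f').obj O1) n)

theorem deltaCompat_bc (hsq : IsPullback f' π' p f) (hf : Cyc.DeltaCompat f B'.δX B.δX) :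
    Cyc.DeltaCompat f' B'.δP B.δP :=
  CycBivLib.deltaCompat_cancel f' p hsq.w B.hδ (Bivar.deltaCompat_comp π' f B'.δP B'.δX B.δX B'.hδ hf)

theorem map_caps_pullSecs [IsProper f'] (hf' : Cyc.DeltaCompat f' B'.δP B.δP) (t : Bun.Secs O1)
    (D : AlgebraicCycle P' ℤ) :
    ∀ i : ℕ, AlgebraicCycle.map f' B'.δP B.δP (B'.caps (pullSecs f' B.hinv t) D i) =
      B.caps t (AlgebraicCycle.map f' B'.δP B.δP D) i
  | 0 => rfl
  | i + 1 => DFunLike.ext _ _ fun y => by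
    rw [CycC1Lib.map_c1Cap B'.hP B.hP f' hf' B.hinv (B'.caps (pullSecs f' B.hinv t) D i) (t.ne i) _
      (B'.caps_succ _ D i) y, map_caps_pullSecs hf' t D i]
    exact (congrFun (B.caps_succ t _ i) y).symm

theorem map_pull_bc [IsProper f] [IsProper f'] [IsProper p] (hsq : IsPullback f' π' p f)
    (hf : Cyc.DeltaCompat f B'.δX B.δX) {k : ℤ} {γ : AlgebraicCycle X ℤ} (hγ : γ ∈ Cyc.Zk X B'.δX k) :
    AlgebraicCycle.map f' B'.δP B.δP (B'.pull γ) = B.pull (AlgebraicCycle.map f B'.δX B.δX γ) := by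
  haveI := B.flat
  exact DFunLike.coe_injective (CycBivLib.map_pullFun_square hsq.flip B.hX B.hδ hf (deltaCompat_bc B B' hsq hf) n
    B.relDim γ (B'.pull γ) rfl (B'.pull_mem hγ))

/-- The pushforward of a relation is the relation of the pushforwards. -/
theorem map_relCyc_bc [IsProper f] [IsProper f'] [IsProper p] (hsq : IsPullback f' π' p f)
    (hf : Cyc.DeltaCompat f B'.δX B.δX) {k : ℤ} {γ : Fin (n + 2) → AlgebraicCycle X ℤ}
    (hγ : ∀ j : Fin (n + 2), γ j ∈ Cyc.Zk X B'.δX (k - ((j : ℕ) : ℤ))) (t : Bun.Secs O1) :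
    AlgebraicCycle.map f' B'.δP B.δP (B'.relCyc (pullSecs f' B.hinv t) γ) =
      B.relCyc t fun j => AlgebraicCycle.map f B'.δX B.δX (γ j) := by
  rw [Bun.relCyc, map_finset_sum]
  refine Finset.sum_congr rfl fun i _ => ?_
  rw [map_zsmul, map_caps_pullSecs B B' (deltaCompat_bc B B' hsq hf), map_pull_bc B B' hsq hf (hγ _)]

/-- Chern caps push forward. -/
theorem isChernCap_map [IsProper f] [IsProper p] (hsq : IsPullback f' π' p f)
    (hf : Cyc.DeltaCompat f B'.δX B.δX) {k : ℤ} {α : AlgebraicCycle X ℤ}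
    {γ : Fin (n + 2) → AlgebraicCycle X ℤ}
    (hγ : Cyc.IsChernCap π' B'.δX B'.δP ((Scheme.Modules.pullback f').obj O1) (n + 1) k α γ) :
    Cyc.IsChernCap p B.δX B.δP O1 (n + 1) k (AlgebraicCycle.map f B'.δX B.δX α)
      fun j => AlgebraicCycle.map f B'.δX B.δX (γ j) := by
  haveI : IsProper f' := MorphismProperty.of_isPullback hsq.flip ‹IsProper f›
  obtain ⟨h1, h2, h3⟩ := (B'.isChernCap_iff _ _ _).1 hγ
  refine (B.isChernCap_iff _ _ _).2 ⟨by rw [h1], fun j => map_mem_Zk f (h2 j), fun t => ?_⟩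
  rw [← map_relCyc_bc B B' hsq hf h2 t]
  have h0 : Cyc.RatEquiv B'.δP (k - 1) (B'.relCyc (pullSecs f' B.hinv t) γ) 0 := by
    show Cyc.RatEquivZero _ _ _
    rw [sub_zero]
    exact h3 _
  have h := CycPushLib.ratEquiv_map B'.hP B.hP f' (deltaCompat_bc B B' hsq hf) h0
  refine ratEquiv_apply_eq h fun z => ?_
  rw [← CycSeqLib.cycMap_sub, sub_zero]

theorem pullFun_caps_pullSecs [Flat f'] {c : ℤ}
    (hgen : ∀ z, CycLimLib.IsGen f' z → B'.δP z = B.δP (f' z) + c) (t : Bun.Secs O1) (D : AlgebraicCycle P ℤ)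
    (D' : AlgebraicCycle P' ℤ) (hD' : ⇑D' = Cyc.pullFun f' B'.δP B.δP c ⇑D) :
    ∀ i : ℕ, Cyc.pullFun f' B'.δP B.δP c ⇑(B.caps t D i) = ⇑(B'.caps (pullSecs f' B.hinv t) D' i)
  | 0 => hD'.symm
  | i + 1 => by
    rw [B.caps_succ, CycC1Lib.pullFun_c1Cap f' B'.hP B.hP hgen B.hinv (B.caps t D i) (t.ne i),
      pullFun_caps_pullSecs hgen t D D' hD' i, B'.caps_succ]
    rfl

/-- Chern caps pull back. -/
theorem isChernCap_pull [Flat f] [LocallyOfFiniteType f] [IsProper p] [IsProper π'] (hsq : IsPullback f' π' p f)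
    (hf : Cyc.DeltaCompat f B'.δX B.δX) (c : ℕ) (hc : Cyc.HasRelDim f c) {k : ℤ} {α : AlgebraicCycle Y ℤ}
    {γ : Fin (n + 2) → AlgebraicCycle Y ℤ} (hγ : Cyc.IsChernCap p B.δX B.δP O1 (n + 1) k α γ)
    {αX : AlgebraicCycle X ℤ} (hαX : ⇑αX = Cyc.pullFun f B'.δX B.δX c ⇑α)
    {β : Fin (n + 2) → AlgebraicCycle X ℤ} (hβ : ∀ j, ⇑(β j) = Cyc.pullFun f B'.δX B.δX c ⇑(γ j)) :
    Cyc.IsChernCap π' B'.δX B'.δP ((Scheme.Modules.pullback f').obj O1) (n + 1) (k + c) αX β := by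
  haveI := B.flat
  haveI := B'.flat
  haveI : Flat f' := MorphismProperty.of_isPullback hsq.flip ‹Flat f›
  haveI : LocallyOfFiniteType f' := MorphismProperty.of_isPullback hsq.flip ‹LocallyOfFiniteType f›
  have hf' := deltaCompat_bc B B' hsq hf
  have hc' : Cyc.HasRelDim f' c := FibDimLib.hasRelDim_baseChange hsq.flip hc
  have hgen : ∀ z, CycLimLib.IsGen f' z → B'.δP z = B.δP (f' z) + (c : ℤ) := fun z hz =>
    CycLimLib.delta_eq_of_gen f' hf' hc' hz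
  have hgenf : ∀ x, CycLimLib.IsGen f x → B'.δX x = B.δX (f x) + (c : ℤ) := fun x hx =>
    CycLimLib.delta_eq_of_gen f hf hc hx
  obtain ⟨h1, h2, h3⟩ := (B.isChernCap_iff _ _ _).1 hγ
  have hmem : ∀ j : Fin (n + 2), β j ∈ Cyc.Zk X B'.δX (k + c - ((j : ℕ) : ℤ)) := fun j x hx => by
    rw [hβ j]
    exact CycC1Lib.pullCyc_mem_Zk f B'.hX hgenf (h2 j) x fun h => hx (by rw [h]; ring)
  have hpull : ∀ j, ⇑(B'.pull (β j)) = Cyc.pullFun f' B'.δP B.δP c ⇑(B.pull (γ j)) := fun j => by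
    show Cyc.pullFun π' B'.δP B'.δX n ⇑(β j) = Cyc.pullFun f' B'.δP B.δP c (Cyc.pullFun p B.δP B.δX n ⇑(γ j))
    rw [hβ, (Groth.Agent.S1857.result P' X Y B'.δP B'.δX B.δX B'.hP B'.hX B.hX π' f n c B'.relDim hc B'.hδ hf _).2
        _ (h2 j),
      (Groth.Agent.S1857.result P' P Y B'.δP B.δP B.δX B'.hP B.hP B.hX f' p c n hc' B.relDim hf' B.hδ _).2 _ (h2 j),
      hsq.w, add_comm (n : ℤ)]
  refine (B'.isChernCap_iff _ _ _).2 ⟨DFunLike.coe_injective ((hβ 0).trans (by rw [h1, hαX])), hmem, fun t => ?_⟩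
  let t₀ : Bun.Secs O1 := ⟨B.std.t, B.std.ne⟩
  have hrel := Groth.Agent.S1940.result P P' B.δP B'.δP B.hP B'.hP f' c
    (fun z hz => hgen z fun y hy hys => hz y hy hys) (k - 1) _
    (fun z hz => by
      rw [Bun.relCyc, Bun.cyc_sum_apply]
      exact Finset.sum_eq_zero fun i _ => smul_mem_Zk _ (B.term_mem t₀ h2 i) z hz)
    (h3 t₀) (CycC1Lib.pullCyc f' B'.hP hgen (B.relCyc t₀ γ)) rfl
  rw [show k - 1 + (c : ℤ) = k + c - 1 by ring] at hrel
  have heq : CycC1Lib.pullCyc f' B'.hP hgen (B.relCyc t₀ γ) = B'.relCyc (pullSecs f' B.hinv t₀) β := by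
    refine DFunLike.ext _ _ fun z => ?_
    show Cyc.pullFun f' B'.δP B.δP c ⇑(B.relCyc t₀ γ) z = _
    rw [show ⇑(B.relCyc t₀ γ) = fun y => ∑ i : Fin (n + 2), (-1 : ℤ) ^ (i : ℕ) *
        B.caps t₀ (B.pull (γ (Fin.rev i))) (i : ℕ) y from funext fun y => by
          rw [Bun.relCyc, Bun.cyc_sum_apply]; exact Finset.sum_congr rfl fun i _ => smul_apply _ _ _,
      pullFun_sum_zsmul, Bun.relCyc, Bun.cyc_sum_apply]
    refine Finset.sum_congr rfl fun i _ => ?_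
    rw [smul_apply, pullFun_caps_pullSecs B B' hgen t₀ _ _ (hpull (Fin.rev i))]
  rw [heq] at hrel
  exact B'.relCyc_change hmem _ t hrel

end CycPBLib

end
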