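import Mathlib
import Groth.Agent.CycPBLib.Fibre
import Groth.Agent.CycLimLib.Gen
import Groth.Agent.CycAffLib.Fibre
import Groth.Agent.CycBivLib.Clopen

/-!
# Affine space over a base and forgetting coordinates
-/

set_option autoImplicit false
set_option linter.style.haveILetI false
set_option linter.unusedSectionVars false

universe u

open AlgebraicGeometry CategoryTheory CategoryTheory.Limits MvPolynomial Opposite

noncomputable section

namespace CycPBLib

variable (A : Type u) [CommRing A] (σ : Type u) [Fintype σ]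

/-- The structure map of affine space over an affine base. -/
abbrev polyMap : Spec (CommRingCat.of (MvPolynomial σ A)) ⟶ Spec (CommRingCat.of A) :=
  Spec.map (CommRingCat.ofHom (C : A →+* MvPolynomial σ A))

theorem flat_polyMap : Flat (polyMap A σ) :=
  (HasRingHomProperty.Spec_iff (P := @Flat)).2
    (RingHom.flat_algebraMap_iff.2 (inferInstance : Module.Flat A (MvPolynomial σ A)))

theorem lft_polyMap : LocallyOfFiniteType (polyMap A σ) :=
  (HasRingHomProperty.Spec_iff (P := @LocallyOfFiniteType)).2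
    (RingHom.finiteType_algebraMap.2 (inferInstance : Algebra.FiniteType A (MvPolynomial σ A)))

theorem hasRelDim_polyMap : Cyc.HasRelDim (polyMap A σ) (Fintype.card σ) := by
  refine CycAffLib.hasRelDim_of_fibres _ _ fun η => ?_
  obtain ⟨χ, hχ⟩ := Spec.map_surjective ((Spec (CommRingCat.of A)).fromSpecResidueField η)
  let κ := (Spec (CommRingCat.of A)).residueField η
  letI : Algebra A κ := χ.hom.toAlgebra
  letI : Algebra (MvPolynomial σ A) (MvPolynomial σ κ) := MvPolynomial.algebraMvPolynomial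
  refine ⟨An κ σ, Spec.map (CommRingCat.ofHom (MvPolynomial.map χ.hom)), anMap κ σ, ?_, inferInstance, ?_⟩
  · rw [← hχ]
    exact isPullback_SpecMap_of_isPushout _ _ _ _
      (CommRingCat.isPushout_of_isPushout A (MvPolynomial σ A) κ (MvPolynomial σ κ))
  · show topologicalKrullDim (PrimeSpectrum (MvPolynomial σ κ)) = _
    rw [PrimeSpectrum.topologicalKrullDim_eq_ringKrullDim, MvPolynomial.ringKrullDim_of_isNoetherianRing,
      ringKrullDim_eq_zero_of_field, zero_add, Nat.card_eq_fintype_card]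

variable {A} (n n₁ r₂ : ℕ)

/-- Splitting off the first `n₁` coordinates. -/
def splitEquiv (h : n₁ + r₂ = n) : ULift.{u} (Fin n) ≃ ULift.{u} (Fin r₂) ⊕ ULift.{u} (Fin n₁) :=
  Equiv.ulift.trans ((finCongr h.symm).trans (finSumFinEquiv.symm.trans ((Equiv.sumComm _ _).trans
    (Equiv.sumCongr Equiv.ulift.symm Equiv.ulift.symm))))

theorem splitEquiv_castLE (h : n₁ + r₂ = n) (m : Fin n₁) :
    splitEquiv n n₁ r₂ h ⟨Fin.castLE (h ▸ Nat.le_add_right n₁ r₂) m⟩ = Sum.inr ⟨m⟩ := by
  subst h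
  show (Equiv.sumCongr _ _) ((Equiv.sumComm _ _) (finSumFinEquiv.symm _)) = _
  show (Equiv.sumCongr _ _) ((Equiv.sumComm _ _) (finSumFinEquiv.symm (Fin.castAdd r₂ m))) = _
  rw [finSumFinEquiv_symm_apply_castAdd]
  rfl

variable (A)

/-- Forgetting coordinates. -/
abbrev forgetMap (h : n₁ ≤ n) :
    Spec (CommRingCat.of (MvPolynomial (ULift.{u} (Fin n)) A)) ⟶ Spec (CommRingCat.of (MvPolynomial (ULift.{u} (Fin n₁)) A)) :=
  Spec.map (CommRingCat.ofHom
    ((MvPolynomial.rename fun m : ULift.{u} (Fin n₁) => (⟨Fin.castLE h m.down⟩ : ULift.{u} (Fin n))).toRingHom))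

/-- Forgetting coordinates is affine space over the smaller one. -/
theorem forgetMap_eq (h : n₁ + r₂ = n) :
    ∃ e : Spec (CommRingCat.of (MvPolynomial (ULift.{u} (Fin n)) A)) ≅
        Spec (CommRingCat.of (MvPolynomial (ULift.{u} (Fin r₂)) (MvPolynomial (ULift.{u} (Fin n₁)) A))),
      forgetMap A n n₁ (h ▸ Nat.le_add_right n₁ r₂) =
        e.hom ≫ polyMap (MvPolynomial (ULift.{u} (Fin n₁)) A) (ULift.{u} (Fin r₂)) := by
  let E := ((MvPolynomial.renameEquiv A (splitEquiv n n₁ r₂ h)).trans (MvPolynomial.sumAlgEquiv A _ _)).toRingEquiv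
  refine ⟨(Scheme.Spec.mapIso E.toCommRingCatIso.op).symm, ?_⟩
  show _ = Spec.map (CommRingCat.ofHom E.symm.toRingHom) ≫ Spec.map (CommRingCat.ofHom C)
  rw [← Spec.map_comp]
  refine congrArg Spec.map (CommRingCat.hom_ext (RingHom.ext fun x => ?_))
  refine E.injective (Eq.trans ?_ (E.apply_symm_apply (C x)).symm)
  show MvPolynomial.sumAlgEquiv A _ _ (MvPolynomial.renameEquiv A (splitEquiv n n₁ r₂ h)
    (MvPolynomial.rename _ x)) = C x
  rw [MvPolynomial.renameEquiv_apply, MvPolynomial.rename_rename,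
    show (⇑(splitEquiv n n₁ r₂ h) ∘ fun m : ULift.{u} (Fin n₁) =>
      (⟨Fin.castLE (h ▸ Nat.le_add_right n₁ r₂) m.down⟩ : ULift.{u} (Fin n))) = Sum.inr from
        funext fun m => splitEquiv_castLE n n₁ r₂ h m.down]
  exact congr($(MvPolynomial.sumAlgEquiv_comp_rename_inr (R := A) (S₁ := ULift.{u} (Fin r₂))
    (S₂ := ULift.{u} (Fin n₁))) x)

theorem flat_forgetMap (h : n₁ + r₂ = n) : Flat (forgetMap A n n₁ (h ▸ Nat.le_add_right n₁ r₂)) := by
  obtain ⟨e, he⟩ := forgetMap_eq A n n₁ r₂ h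
  haveI := flat_polyMap (MvPolynomial (ULift.{u} (Fin n₁)) A) (ULift.{u} (Fin r₂))
  rw [he]
  infer_instance

theorem delta_forgetMap (h : n₁ + r₂ = n) {δ : Spec (CommRingCat.of (MvPolynomial (ULift.{u} (Fin n)) A)) → ℤ}
    {δ₁ : Spec (CommRingCat.of (MvPolynomial (ULift.{u} (Fin n₁)) A)) → ℤ}
    (hδ : Cyc.DeltaCompat (forgetMap A n n₁ (h ▸ Nat.le_add_right n₁ r₂)) δ δ₁)
    {x} (hx : CycLimLib.IsGen (forgetMap A n n₁ (h ▸ Nat.le_add_right n₁ r₂)) x) :
    δ x = δ₁ (forgetMap A n n₁ (h ▸ Nat.le_add_right n₁ r₂) x) + r₂ := by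
  obtain ⟨e, he⟩ := forgetMap_eq A n n₁ r₂ h
  haveI := lft_polyMap (MvPolynomial (ULift.{u} (Fin n₁)) A) (ULift.{u} (Fin r₂))
  haveI := flat_polyMap (MvPolynomial (ULift.{u} (Fin n₁)) A) (ULift.{u} (Fin r₂))
  haveI : LocallyOfFiniteType (forgetMap A n n₁ (h ▸ Nat.le_add_right n₁ r₂)) := by rw [he]; infer_instance
  have hiso : Cyc.HasRelDim e.hom 0 := CycBivLib.hasRelDim_openImmersion e.hom
  have hr := CycLimLib.hasRelDim_comp e.hom _ hiso (hasRelDim_polyMap _ (ULift.{u} (Fin r₂)))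
  rw [← he] at hr
  have := CycLimLib.delta_eq_of_gen _ hδ hr hx
  simpa using this

end CycPBLib

end
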