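import Mathlib
import Groth.Agent.CycPBLib.UnivHom
import Groth.Agent.CycPBLib.UnivCharts
import Groth.Agent.FormalLib.ModPow

/-!
# Trivialisations adapted to a short exact sequence of locally free modules
-/

set_option autoImplicit false
set_option linter.style.haveILetI false
set_option linter.unusedSectionVars false

universe u

open AlgebraicGeometry CategoryTheory CategoryTheory.Limits Opposite TopologicalSpace
open AmpleLib (res)

noncomputable section

namespace CycPBLib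

theorem exists_iso_free_stdSec {Z : Scheme.{u}} [IsAffine Z] (N : Z.Modules) [Coh.IsQCoh N] {n : ℕ}
    (b : Module.Basis (Fin n) Γ(Z, ⊤) Γ(N, ⊤)) :
    ∃ e : N ≅ FlatMod.freeMod Z n, ∀ i, e.inv.app ⊤ (FittLib.stdSec Z n ⊤ i) = b i := by
  classical
  let s : FlatMod.freeMod Z n ⟶ N := Sigma.desc fun i => QCohLib.unitHom N (b i)
  have : Coh.IsQCoh (FlatMod.freeMod Z n) := LocSuppLib.isQCoh_freeMod Z n
  have hs : ∀ i, s.app ⊤ (FittLib.stdSec Z n ⊤ i) = b i := fun i => by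
    have h1 : Sigma.ι (fun _ : Fin n => Coh.structureModule Z) i ≫ s = QCohLib.unitHom N (b i) :=
      Sigma.ι_desc _ _
    refine (congr($(h1).app ⊤ (1 : Γ(Z, ⊤)))).trans ?_
    rw [QCohLib.unitHom_app, one_smul]
    exact congr($(N.presheaf.map_id _) (b i))
  have hlin : ∀ x, s.app ⊤ x = ∑ i, FittLib.coord x i • b i := fun x => by
    conv_lhs => rw [FittLib.sum_coord x]
    rw [map_sum]
    exact Finset.sum_congr rfl fun i _ => by rw [QCohLib.app_smul, hs]
  suffices h : Function.Bijective (s.app ⊤) by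
    have := CohBCLib.isIso_of_bijective_top s h
    exact ⟨(asIso s).symm, fun i => hs i⟩
  refine ⟨(injective_iff_map_eq_zero _).2 fun x hx => ?_, fun y => ⟨∑ i, b.repr y i • FittLib.stdSec Z n ⊤ i, ?_⟩⟩
  · rw [hlin] at hx
    have hc := Fintype.linearIndependent_iff.1 b.linearIndependent _ hx
    rw [FittLib.sum_coord x]
    exact Finset.sum_eq_zero fun i _ => by rw [hc i, zero_smul]
  · rw [map_sum]
    exact (Finset.sum_congr rfl fun i _ => by rw [QCohLib.app_smul, hs]).trans (b.sum_repr y)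

variable {X : Scheme.{u}} {U : X.Opens}

/-- A trivialisation with a prescribed basis. -/
theorem exists_iso_bas (hU : IsAffineOpen U) (G : X.Modules) [Coh.IsQCoh G] {n : ℕ}
    (b : Module.Basis (Fin n) Γ(X, U) Γ(G, U)) :
    ∃ φ : G.restrict U.ι ≅ FlatMod.freeMod (↑U) n, ∀ k, bas φ k = b k := by
  haveI : IsAffine (U : Scheme.{u}) := hU
  haveI : Coh.IsQCoh (G.restrict U.ι) := inferInstance
  have hV : U.ι ''ᵁ (⊤ : (U : Scheme.{u}).Opens) = U := Scheme.Opens.ι_image_top U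
  have key : ∀ V : X.Opens, ∀ h : V = U, ∃ b' : Module.Basis (Fin n) Γ(X, V) Γ(G, V),
      ∀ k, b' k = G.presheaf.map (eqToHom h).op (b k) := by
    rintro _ rfl
    exact ⟨b, fun k => (congr($(G.presheaf.map_id _) (b k))).symm⟩
  obtain ⟨b', hb'⟩ := key _ hV
  let r : Γ(G.restrict U.ι, ⊤) ≃ₗ[Γ((U : Scheme.{u}), ⊤)] (Fin n →₀ Γ((U : Scheme.{u}), ⊤)) :=
    { toFun := fun x => b'.repr x
      map_add' := fun x y => b'.repr.map_add x y
      map_smul' := fun c x => by
        refine (congrArg b'.repr ?_).trans (b'.repr.map_smul c x)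
        refine (Scheme.Modules.smul_restrictAppIso_hom_apply U.ι G ⊤ c x).trans ?_
        rw [Scheme.Opens.ι_appIso]
        rfl
      invFun := fun y => b'.repr.symm y
      left_inv := b'.repr.symm_apply_apply
      right_inv := b'.repr.apply_symm_apply }
  obtain ⟨φ, hφ⟩ := exists_iso_free_stdSec (G.restrict U.ι) (Module.Basis.ofRepr r)
  refine ⟨φ, fun k => ?_⟩
  have hle : (U.ι ⁻¹ᵁ U) ≤ (⊤ : (U : Scheme.{u}).Opens) := le_top
  have h2 : φ.inv.app (U.ι ⁻¹ᵁ U) (FittLib.stdSec _ n _ k) =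
      (G.restrict U.ι).presheaf.map (homOfLE hle).op (φ.inv.app ⊤ (FittLib.stdSec _ n ⊤ k)) := by
    rw [← QCohLib.app_map φ.inv (homOfLE hle)]
    refine congrArg _ ?_
    refine Eq.trans ?_ (QCohLib.app_map (Sigma.ι (fun _ : Fin n => Coh.structureModule (U : Scheme.{u})) k) (homOfLE hle) _)
    exact congrArg _ (map_one (((U : Scheme.{u}).presheaf.map (homOfLE hle).op).hom)).symm
  rw [bas, h2, hφ k]
  have h3 : (show Γ(G, U.ι ''ᵁ (⊤ : (U : Scheme.{u}).Opens)) from Module.Basis.ofRepr r k) = b' k := rfl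
  refine (QCohLib.map_map' G (homOfLE (le_inU (U := U) le_rfl le_rfl))
    (homOfLE (U.ι.image_mono hle)) (show Γ(G, U.ι ''ᵁ (⊤ : (U : Scheme.{u}).Opens)) from Module.Basis.ofRepr r k)).trans ?_
  rw [h3, hb']
  refine (QCohLib.map_map' G _ _ (b k)).trans ?_
  exact congr($(G.presheaf.map_id _) (b k))

variable {E₁ E E₂ : X.Modules} {r₁ r₂ : ℕ}

/-- Trivialisations of a short exact sequence over a small affine. -/
theorem exists_adapted [IsLocallyNoetherian X] {N : ℕ} (hN : r₁ + r₂ = N)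
    (h₁ : FlatMod.IsFinLocFreeOfRank r₁ E₁) (hE : FlatMod.IsFinLocFreeOfRank N E)
    (h₂ : FlatMod.IsFinLocFreeOfRank r₂ E₂) (a : E₁ ⟶ E) (b : E ⟶ E₂) (hab : a ≫ b = 0)
    (hex : (ShortComplex.mk a b hab).ShortExact) (η : X) :
    ∃ (U : X.Opens) (_ : IsAffineOpen U) (φ : E.restrict U.ι ≅ FlatMod.freeMod (↑U) N)
      (φ₁ : E₁.restrict U.ι ≅ FlatMod.freeMod (↑U) r₁),
      η ∈ U ∧ ∀ l : Fin r₁, bas φ (Fin.castLE (hN ▸ Nat.le_add_right r₁ r₂) l) = a.app U (bas φ₁ l) := by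
  classical
  subst hN
  have hcoh : ∀ {M : X.Modules} {r : ℕ}, FlatMod.IsFinLocFreeOfRank r M → Coh.IsQCoh M := fun hM =>
    (LocSuppLib.isCoh_of_isFinLocFree fun x => let ⟨U, h⟩ := hM x; ⟨U, _, h⟩).1
  haveI := hcoh h₁
  haveI := hcoh hE
  haveI := hcoh h₂
  obtain ⟨U₁, hη₁, ⟨ψ₁⟩⟩ := h₁ η
  obtain ⟨U₂, hη₂, ⟨ψ₂⟩⟩ := h₂ η
  obtain ⟨U, hU, hη, hle⟩ := exists_isAffineOpen_mem_and_subset (X := X) (x := η) (U := U₁ ⊓ U₂) ⟨hη₁, hη₂⟩
  obtain ⟨b₁⟩ := FittLib.nonempty_basis_of_iso E₁ ψ₁ (V := U) fun x hx => (hle hx).1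
  obtain ⟨b₂⟩ := FittLib.nonempty_basis_of_iso E₂ ψ₂ (V := U) fun x hx => (hle hx).2
  haveI : Mono a := hex.mono_f
  haveI : Epi b := hex.epi_g
  choose ℓ hℓ using fun m => FormalLib.app_surjective_of_epi _ b hU (b₂ m)
  let A : Γ(E₁, U) →ₗ[Γ(X, U)] Γ(E, U) :=
    { toFun := a.app U, map_add' := map_add _, map_smul' := fun r m => QCohLib.app_smul a U r m }
  let B : Γ(E, U) →ₗ[Γ(X, U)] Γ(E₂, U) :=
    { toFun := b.app U, map_add' := map_add _, map_smul' := fun r m => QCohLib.app_smul b U r m }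
  have hA : Function.Injective A := QCohLib.app_injective_of_mono a U
  have hBA : ∀ x, B (A x) = 0 := fun x => congr($(hab).app U x)
  have hker : ∀ y, B y = 0 → ∃ x, A x = y := fun y hy =>
    QCohLib.exists_of_app_eq_zero hex.exact inferInstance y hy
  let v : Fin (r₁ + r₂) → Γ(E, U) := Fin.append (fun l => A (b₁ l)) ℓ
  have hli : LinearIndependent Γ(X, U) v := Fintype.linearIndependent_iff.2 fun c hc => by
    rw [Fin.sum_univ_add] at hc
    simp only [v, Fin.append_left, Fin.append_right] at hc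
    have h2 := congrArg B hc
    simp only [map_add, map_sum, map_smul, hBA, smul_zero, Finset.sum_const_zero, zero_add, map_zero,
      show ∀ m, B (ℓ m) = b₂ m from hℓ] at h2
    have hc2 := Fintype.linearIndependent_iff.1 b₂.linearIndependent _ h2
    simp only [hc2, zero_smul, Finset.sum_const_zero, add_zero, ← map_smul, ← map_sum] at hc
    have hc1 := Fintype.linearIndependent_iff.1 b₁.linearIndependent _ (hA (hc.trans (map_zero A).symm))
    intro i
    exact Fin.addCases hc1 hc2 i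
  have hsp : ⊤ ≤ Submodule.span Γ(X, U) (Set.range v) := fun y _ => by
    let y₂ := ∑ m, b₂.repr (B y) m • ℓ m
    obtain ⟨x, hx⟩ := hker (y - y₂) (by
      simp only [y₂, map_sub, map_sum, map_smul, show ∀ m, B (ℓ m) = b₂ m from hℓ, b₂.sum_repr, sub_self])
    have hy : y = A x + y₂ := by rw [hx, sub_add_cancel]
    rw [hy]
    refine Submodule.add_mem _ ?_ (Submodule.sum_mem _ fun m _ => Submodule.smul_mem _ _
      (Submodule.subset_span ⟨Fin.natAdd r₁ m, by simp [v]⟩))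
    rw [← b₁.sum_repr x, map_sum]
    refine Submodule.sum_mem _ fun l _ => ?_
    rw [map_smul]
    exact Submodule.smul_mem _ _ (Submodule.subset_span ⟨Fin.castAdd r₂ l, by simp [v]⟩)
  obtain ⟨φ, hφ⟩ := exists_iso_bas hU E (Module.Basis.mk hli hsp)
  obtain ⟨φ₁, hφ₁⟩ := exists_iso_bas hU E₁ b₁
  refine ⟨U, hU, φ, φ₁, hη, fun l => ?_⟩
  rw [hφ, hφ₁, Module.Basis.mk_apply, show Fin.castLE _ l = Fin.castAdd r₂ l from rfl]
  simp only [v, Fin.append_left]
  rfl

end CycPBLib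

end
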