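import Mathlib
import Groth.Agent.CycPBLib.Adapted
import Groth.Agent.CycPBLib.Chern
import Groth.Agent.CycPBLib.ProjBC
import Groth.Agent.CohCmpLib.HomLift
import Groth.Agent.SeesawLib.Pulled

/-!
# The projective bundles of a short exact sequence
-/

set_option autoImplicit false
set_option linter.style.haveILetI false
set_option linter.unusedSectionVars false

universe u

open AlgebraicGeometry CategoryTheory CategoryTheory.Limits Opposite TopologicalSpace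
open AmpleLib (res GenOn GenAt)
open KFlatLib (pb puSec)

noncomputable section

namespace CycPBLib

variable {X P P₁ P₂ T : Scheme.{u}}

theorem isProjBundle_iso {p : P ⟶ X} {E : X.Modules} {O1 O1' : P.Modules} {q : pb p E ⟶ O1}
    (hP : KRR.IsProjBundle p E O1 q) (e : O1 ≅ O1') : KRR.IsProjBundle p E O1' (q ≫ e.hom) where
  invertible := SeesawLib.isFinLocFreeOfRank_of_iso hP.invertible e.symm
  epi := haveI := hP.epi; inferInstance
  univ T g L hL s hs := by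
    obtain ⟨h, ⟨hg, i, hi⟩, huniq⟩ := hP.univ T g L hL s hs
    refine ⟨h, ⟨hg, (Scheme.Modules.pullback h).mapIso e.symm ≪≫ i, ?_⟩, ?_⟩
    · rw [← hi]
      simp
    · rintro h' ⟨hg', i', hi'⟩
      refine huniq h' ⟨hg', (Scheme.Modules.pullback h').mapIso e ≪≫ i', ?_⟩
      rw [← hi']
      simp

theorem not_genAt_zero {M : X.Modules} {W : X.Opens} {x : X} (hx : x ∈ W) : ¬ GenAt M (0 : Γ(M, W)) hx := by
  intro h
  refine zero_ne_one (α := X.presheaf.stalk x) (h.1 ?_)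
  simp

/-- A morphism generated at every point is an epimorphism. -/
theorem epi_of_genAt {M N : X.Modules} (u : M ⟶ N)
    (h : ∀ x : X, ∃ (W : X.Opens) (hx : x ∈ W) (m : Γ(M, W)), GenAt N (u.app W m) hx) : Epi u := by
  refine CohCmpLib.epi_of_stalk_surjective fun x z => ?_
  obtain ⟨W, hx, m, hm⟩ := h x
  obtain ⟨c, hc⟩ := hm.2 z
  refine ⟨c • M.presheaf.germ W x hx m, ?_⟩
  refine (((DerSch.stalkFunctor X x).map u).hom.map_smul c (M.presheaf.germ W x hx m)).trans ?_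
  exact (congrArg (c • ·) (DerSch.stalkFunctor_map_germ x u W hx m)).trans hc

section Cone

variable {p : P ⟶ X} {p₂ : P₂ ⟶ X} {E E₁ E₂ : X.Modules} {O1 : P.Modules} {O₂ : P₂.Modules}
  {q : pb p E ⟶ O1} {q₂ : pb p₂ E₂ ⟶ O₂} {a : E₁ ⟶ E} {b : E ⟶ E₂}

/-- Composing with the embedding of the smaller bundle. -/
theorem compQ_natural {j : P₂ ⟶ P} (hj : j ≫ p = p₂) (i₂ : pb j O1 ⟶ O₂)
    (h : compQ q hj i₂ = (Scheme.Modules.pullback p₂).map b ≫ q₂) (f : T ⟶ P₂) {g : T ⟶ X} (hf : f ≫ p₂ = g)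
    (hfj : (f ≫ j) ≫ p = g) {L : T.Modules} (i : pb f O₂ ⟶ L) :
    (Scheme.Modules.pullback g).map b ≫ compQ q₂ hf i =
      compQ q hfj ((Scheme.Modules.pullbackComp f j).inv.app O1 ≫ (Scheme.Modules.pullback f).map i₂ ≫ i) := by
  subst hf
  subst hj
  refine hom_ext_pu _ _ _ fun W m => ?_
  have h0 : i₂.app (j ⁻¹ᵁ (p ⁻¹ᵁ W)) (puSec j (q.app (p ⁻¹ᵁ W) (puSec p m))) =
      q₂.app _ (puSec (j ≫ p) (b.app W m)) := by
    have h1 := (comp_apply_puSec q (rfl : j ≫ p = j ≫ p) i₂ m).symm.trans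
      (congr($(h).app ((j ≫ p) ⁻¹ᵁ W) (puSec (j ≫ p) m)))
    refine ((congr($(O₂.presheaf.map_id _) _)).symm.trans h1).trans ?_
    exact congrArg (q₂.app _) (KFlatLib.puSec_natural (j ≫ p) b m)
  refine Eq.trans (congrArg ((compQ q₂ rfl i).app ((f ≫ j ≫ p) ⁻¹ᵁ W))
    (KFlatLib.puSec_natural (f ≫ j ≫ p) b m)) ?_
  rw [compQ, compQ, comp_apply_puSec, comp_apply_puSec]
  refine congrArg (L.presheaf.map _) ?_
  show _ = i.app _ (((Scheme.Modules.pullback f).map i₂).app _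
    (((Scheme.Modules.pullbackComp f j).inv.app O1).app _ (puSec (f ≫ j) (q.app (p ⁻¹ᵁ W) (puSec p m)))))
  rw [CohCmpLib.pullbackComp_inv_puSec]
  refine congrArg (i.app _) ?_
  exact (congrArg (puSec f) h0).symm.trans (KFlatLib.puSec_natural f i₂ _).symm

theorem compQ_congr {h h' : T ⟶ P} (e : h = h') {g : T ⟶ X} (hg : h ≫ p = g) (hg' : h' ≫ p = g) :
    compQ q hg ((Scheme.Modules.pullbackCongr e).hom.app O1) = compQ q hg' (𝟙 _) := by
  subst e
  simp [compQ, Scheme.Modules.pullbackCongr]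

/-- The pullback of a cokernel. -/
theorem exists_desc (hab : a ≫ b = 0) (hex : (ShortComplex.mk a b hab).ShortExact) (g : T ⟶ X) {L : T.Modules}
    (c : pb g E ⟶ L) (hc : (Scheme.Modules.pullback g).map a ≫ c = 0) :
    ∃ s : pb g E₂ ⟶ L, (Scheme.Modules.pullback g).map b ≫ s = c := by
  let A := Scheme.Modules.pullbackPushforwardAdjunction g
  have h1 : a ≫ A.homEquiv _ _ c = 0 := by
    rw [← A.homEquiv_naturality_left, hc, A.homEquiv_unit, Functor.map_zero, comp_zero]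
  refine ⟨(A.homEquiv _ _).symm (hex.gIsCokernel.desc (CokernelCofork.ofπ (A.homEquiv _ _ c) h1)), ?_⟩
  rw [← A.homEquiv_naturality_left_symm]
  refine (congrArg (A.homEquiv _ _).symm ?_).trans ((A.homEquiv _ _).symm_apply_apply c)
  exact hex.gIsCokernel.fac (CokernelCofork.ofπ (A.homEquiv _ _ c) h1) WalkingParallelPair.one

variable (a q) in
/-- The open set where `E₁` generates `O(1)`. -/
def genOpen (hinv : PicF.IsInvertible O1) : P.Opens :=
  ⨆ (W : X.Opens) (m : Γ(E₁, W)), genLocus' (q.app (p ⁻¹ᵁ W) (puSec p (a.app W m))) hinv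

theorem mem_genOpen {hinv : PicF.IsInvertible O1} {z : P} :
    z ∈ genOpen q a hinv ↔ ∃ (W : X.Opens) (m : Γ(E₁, W)) (hz : z ∈ p ⁻¹ᵁ W),
      GenAt O1 (q.app (p ⁻¹ᵁ W) (puSec p (a.app W m))) hz := by
  simp only [genOpen, Opens.mem_iSup]
  exact exists_congr fun W => exists_congr fun m => Iff.rfl

variable (hP : KRR.IsProjBundle p E O1 q) (hP₂ : KRR.IsProjBundle p₂ E₂ O₂ q₂) (hab : a ≫ b = 0)
  (hex : (ShortComplex.mk a b hab).ShortExact)

include hP hP₂ hex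

/-- The bundle of the quotient is embedded, with image the complement of `genOpen`. -/
theorem exists_embedding [IsProper p] [IsProper p₂] (hinv : PicF.IsInvertible O1) :
    ∃ (j : P₂ ⟶ P) (_ : pb j O1 ≅ O₂), j ≫ p = p₂ ∧ IsClosedImmersion j ∧
      Set.range j = (genOpen q a hinv : Set P)ᶜ := by
  haveI := hP.epi
  haveI := hP₂.epi
  haveI : Epi b := hex.epi_g
  have hepi : ∀ {T : Scheme.{u}} (g : T ⟶ X), Epi ((Scheme.Modules.pullback g).map b) := fun g => by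
    haveI := (Scheme.Modules.pullbackPushforwardAdjunction g).isLeftAdjoint
    exact Functor.map_epi _ _
  haveI := hepi p₂
  obtain ⟨j, ⟨hj, i₂, hi₂⟩, -⟩ := hP.univ P₂ p₂ O₂ hP₂.invertible
    ((Scheme.Modules.pullback p₂).map b ≫ q₂) (epi_comp _ _)
  have hmono : Mono j := ⟨fun {T} f₁ f₂ hf => by
    let g := (f₁ ≫ j) ≫ p
    have hg : ∀ f : T ⟶ P₂, f ≫ j = f₁ ≫ j → f ≫ p₂ = g := fun f h => by
      rw [← hj, ← Category.assoc, h]
    let iso : ∀ f : T ⟶ P₂, f ≫ j = f₁ ≫ j → (pb f O₂ ≅ pb (f₁ ≫ j) O1) := fun f h =>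
      (Scheme.Modules.pullback f).mapIso i₂.symm ≪≫ (Scheme.Modules.pullbackComp f j).app O1 ≪≫
        (Scheme.Modules.pullbackCongr h).app O1
    have key : ∀ (f : T ⟶ P₂) (h : f ≫ j = f₁ ≫ j),
        (Scheme.Modules.pullback g).map b ≫ compQ q₂ (hg f h) (iso f h).hom = compQ q (rfl : (f₁ ≫ j) ≫ p = g) (𝟙 _) := by
      intro f h
      rw [compQ_natural hj i₂.hom hi₂ f (hg f h) (by rw [h])]
      refine Eq.trans (congrArg _ ?_) (compQ_congr (q := q) h (by rw [h]) rfl)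
      simp only [iso, Iso.trans_hom, Iso.app_hom, Functor.mapIso_hom, Iso.symm_hom]
      rw [← Functor.map_comp_assoc, Iso.hom_inv_id, CategoryTheory.Functor.map_id, Category.id_comp]
      exact Iso.inv_hom_id_app_assoc _ _ _
    haveI := hepi g
    let s := compQ q₂ (hg f₁ rfl) (iso f₁ rfl).hom
    haveI : Epi ((Scheme.Modules.pullback g).map b ≫ s) := by
      rw [key f₁ rfl]
      haveI : Epi ((Scheme.Modules.pullback (f₁ ≫ j)).map q) := by
        haveI := (Scheme.Modules.pullbackPushforwardAdjunction (f₁ ≫ j)).isLeftAdjoint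
        exact Functor.map_epi _ _
      unfold compQ
      infer_instance
    haveI : Epi s := epi_of_epi ((Scheme.Modules.pullback g).map b) s
    obtain ⟨f, -, huniq⟩ := hP₂.univ T g _ (CohCmpLib.rank_one_pullback (f₁ ≫ j) hP.invertible) s inferInstance
    rw [huniq f₁ ⟨hg f₁ rfl, iso f₁ rfl, rfl⟩, huniq f₂ ⟨hg f₂ hf.symm, iso f₂ hf.symm, ?_⟩]
    rw [← cancel_epi ((Scheme.Modules.pullback g).map b)]
    exact (key f₂ hf.symm).trans (key f₁ rfl).symm⟩
  haveI : IsProper (j ≫ p) := hj ▸ inferInstance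
  haveI : IsProper j := IsProper.of_comp j p
  refine ⟨j, i₂, hj, (IsClosedImmersion.iff_isProper_and_mono j).2 ⟨inferInstance, hmono⟩, ?_⟩
  ext z
  rw [Set.mem_compl_iff, SetLike.mem_coe, mem_genOpen]
  constructor
  · rintro ⟨y, rfl⟩ ⟨W, m, hz, hgen⟩
    subst hj
    have h1 := (comp_apply_puSec q (rfl : j ≫ p = j ≫ p) i₂.hom (a.app W m)).symm.trans
      (congr($(hi₂).app ((j ≫ p) ⁻¹ᵁ W) (puSec (j ≫ p) (a.app W m))))
    have h2 : i₂.hom.app (j ⁻¹ᵁ (p ⁻¹ᵁ W)) (puSec j (q.app (p ⁻¹ᵁ W) (puSec p (a.app W m)))) =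
        q₂.app ((j ≫ p) ⁻¹ᵁ W) (puSec (j ≫ p) (b.app W (a.app W m))) :=
      ((congr($(O₂.presheaf.map_id _) _)).symm.trans h1).trans
        (congrArg (q₂.app _) (KFlatLib.puSec_natural (j ≫ p) b (a.app W m)))
    have h3 := (TwistLib.genAt_app_iso i₂ _ (x := y) hz).2 (TwistLib.GenAt.puSec j hgen)
    rw [show b.app W (a.app W m) = 0 from congr($(hab).app W m)] at h2
    rw [h2] at h3
    have h4 : q₂.app ((j ≫ p) ⁻¹ᵁ W) (puSec (j ≫ p) (0 : Γ(E₂, W))) = 0 :=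
      (congrArg (q₂.app _) (map_zero
        (((Scheme.Modules.pullbackPushforwardAdjunction (j ≫ p)).unit.app E₂).app W).hom)).trans (map_zero _)
    rw [h4] at h3
    exact not_genAt_zero _ h3
  · intro hno
    let T := Spec (P.residueField z)
    let x : T ⟶ P := P.fromSpecResidueField z
    have hx : ∀ s : T, x s = z := fun s => P.fromSpecResidueField_apply z s
    obtain ⟨V, e, hzV, he⟩ := TwistLib.exists_genOn hinv z
    have hA : (⊤ : T.Opens) ≤ x ⁻¹ᵁ V := fun s _ => show x s ∈ V by rw [hx]; exact hzV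
    have hσ : GenOn (pb x O1) (res _ hA (puSec x e)) := TwistLib.genOn_of_genAt fun s hs => by
      rw [AmpleLib.genAt_res hA _ hs]
      exact TwistLib.GenAt.puSec x (he.genAt (hA hs))
    obtain ⟨i, -⟩ := exists_iso_one _ hσ
    let g := x ≫ p
    let c : pb g E ⟶ Coh.structureModule T := compQ q (rfl : x ≫ p = g) i.hom
    haveI : Epi ((Scheme.Modules.pullback x).map q) := by
      haveI := (Scheme.Modules.pullbackPushforwardAdjunction x).isLeftAdjoint
      exact Functor.map_epi _ _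
    haveI : Epi c := by
      show Epi (compQ q rfl i.hom)
      unfold compQ
      infer_instance
    have hc : (Scheme.Modules.pullback g).map a ≫ c = 0 := by
      refine hom_ext_pu _ _ _ fun W m => ?_
      show c.app _ (((Scheme.Modules.pullback g).map a).app _ (puSec g m)) = _
      rw [KFlatLib.puSec_natural g a m]
      refine (comp_apply_puSec q rfl i.hom (a.app W m)).trans ((congr($((Coh.structureModule T).presheaf.map_id _) _)).trans ?_)
      let σ := q.app (p ⁻¹ᵁ W) (puSec p (a.app W m))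
      let y : Γ(T, x ⁻¹ᵁ (p ⁻¹ᵁ W)) := i.hom.app (x ⁻¹ᵁ (p ⁻¹ᵁ W)) (puSec x σ)
      show y = 0
      refine (basicOpen_eq_bot_iff y).1 (le_bot_iff.1 fun s hs => ?_)
      have hs' : s ∈ x ⁻¹ᵁ (p ⁻¹ᵁ W) := T.basicOpen_le y hs
      have h2 : GenAt (Coh.structureModule T) (W := x ⁻¹ᵁ (p ⁻¹ᵁ W)) (y • (1 : Γ(T, x ⁻¹ᵁ (p ⁻¹ᵁ W)))) hs' :=
        (AmpleLib.genAt_smul_iff y (M := Coh.structureModule T) _ hs' ((AmpleLib.one_genOn _).genAt hs')).2 hs
      rw [show y • (1 : Γ(T, x ⁻¹ᵁ (p ⁻¹ᵁ W))) = y from mul_one y] at h2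
      have h3 := (genAt_puSec_iff' x hinv σ (x := s) hs').1 ((TwistLib.genAt_app_iso i _ (x := s) hs').1 h2)
      refine (hno ?_).elim
      rw [← hx s]
      exact ⟨W, m, hs', h3⟩
    obtain ⟨s', hs'⟩ := exists_desc hab hex g c hc
    haveI : Epi ((Scheme.Modules.pullback g).map b ≫ s') := hs' ▸ inferInstance
    haveI : Epi s' := epi_of_epi ((Scheme.Modules.pullback g).map b) s'
    obtain ⟨f, ⟨hf, i', hi'⟩, -⟩ := hP₂.univ T g _ (CohCmpLib.rank_one_structureModule T) s' inferInstance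
    have hfj : (f ≫ j) ≫ p = g := by rw [Category.assoc, hj, hf]
    have h5 : compQ q hfj (((Scheme.Modules.pullbackComp f j).app O1).symm ≪≫
        (Scheme.Modules.pullback f).mapIso i₂ ≪≫ i').hom = c := by
      rw [← hs', ← hi']
      exact (compQ_natural hj i₂.hom hi₂ f hf hfj i'.hom).symm
    obtain ⟨_, -, huniq⟩ := hP.univ T g _ (CohCmpLib.rank_one_structureModule T) c inferInstance
    have h6 : f ≫ j = x := (huniq _ ⟨hfj, _, h5⟩).trans (huniq x ⟨rfl, i, rfl⟩).symm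
    exact ⟨f (IsLocalRing.closedPoint _), (congr($(h6).base _)).trans (hx _)⟩

end Cone

/-- The map to the bundle of the subsheaf. -/
theorem exists_proj {p : P ⟶ X} {p₁ : P₁ ⟶ X} {E E₁ : X.Modules} {O1 : P.Modules} {O₁ : P₁.Modules}
    {q : pb p E ⟶ O1} {q₁ : pb p₁ E₁ ⟶ O₁} (hP : KRR.IsProjBundle p E O1 q)
    (hP₁ : KRR.IsProjBundle p₁ E₁ O₁ q₁) (a : E₁ ⟶ E) (hinv : PicF.IsInvertible O1) :
    ∃ (φ : (genOpen q a hinv : Scheme.{u}) ⟶ P₁) (i : pb φ O₁ ≅ pb (genOpen q a hinv).ι O1),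
      φ ≫ p₁ = (genOpen q a hinv).ι ≫ p ∧
      ∀ (W : X.Opens) (m : Γ(E₁, W)) (h : (genOpen q a hinv).ι ⁻¹ᵁ (p ⁻¹ᵁ W) ≤ φ ⁻¹ᵁ (p₁ ⁻¹ᵁ W)),
        res _ h (i.hom.app (φ ⁻¹ᵁ (p₁ ⁻¹ᵁ W)) (puSec φ (q₁.app (p₁ ⁻¹ᵁ W) (puSec p₁ m)))) =
          puSec (genOpen q a hinv).ι (q.app (p ⁻¹ᵁ W) (puSec p (a.app W m))) := by
  let U₀ := genOpen q a hinv
  let ι := U₀.ι
  let s1 : pb p E₁ ⟶ O1 := (Scheme.Modules.pullback p).map a ≫ q
  let s : pb (ι ≫ p) E₁ ⟶ pb ι O1 :=
    (Scheme.Modules.pullbackComp ι p).inv.app E₁ ≫ (Scheme.Modules.pullback ι).map s1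
  have hs : ∀ (W : X.Opens) (m : Γ(E₁, W)), s.app ((ι ≫ p) ⁻¹ᵁ W) (puSec (ι ≫ p) m) =
      puSec ι (q.app (p ⁻¹ᵁ W) (puSec p (a.app W m))) := fun W m => by
    show ((Scheme.Modules.pullback ι).map s1).app _
      (((Scheme.Modules.pullbackComp ι p).inv.app E₁).app _ (puSec (ι ≫ p) m)) = _
    rw [CohCmpLib.pullbackComp_inv_puSec]
    refine (KFlatLib.puSec_natural ι s1 (puSec p m)).trans (congrArg (puSec ι) ?_)
    exact congrArg (q.app _) (KFlatLib.puSec_natural p a m)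
  haveI : Epi s := epi_of_genAt s fun x => by
    obtain ⟨W, m, hz, hgen⟩ := mem_genOpen.1 x.2
    refine ⟨(ι ≫ p) ⁻¹ᵁ W, hz, puSec (ι ≫ p) m, ?_⟩
    rw [hs]
    exact TwistLib.GenAt.puSec ι hgen
  obtain ⟨φ, ⟨hφ, i, hi⟩, -⟩ := hP₁.univ _ (ι ≫ p) _ (CohCmpLib.rank_one_pullback ι hP.invertible) s inferInstance
  refine ⟨φ, i, hφ, fun W m h => ?_⟩
  rw [← hs, ← hi]
  exact (comp_apply_puSec q₁ hφ i.hom m).symm

end CycPBLib

end
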