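import Mathlib
import Groth.Agent.CycPBLib.WhitGeom
import Groth.Agent.CycPBLib.PolyProj
import Groth.Agent.CycBivLib.Setup

/-!
# The projection off the bundle of the quotient is flat of the expected relative dimension
-/

set_option autoImplicit false
set_option linter.style.haveILetI false
set_option linter.unusedSectionVars false

universe u

open AlgebraicGeometry CategoryTheory CategoryTheory.Limits Opposite TopologicalSpace MvPolynomial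
open AmpleLib (res GenOn GenAt)
open KFlatLib (pb puSec)

noncomputable section

namespace CycPBLib

variable {X P S T T' : Scheme.{u}} {p : P ⟶ X} {O1 : P.Modules} {N : ℕ} {U : X.Opens}

theorem Cond.comp {e : Fin N → Γ(O1, p ⁻¹ᵁ U)} {f : T ⟶ P} {v : Fin N → Γ(T, ⊤)} {j : Fin N}
    (hinv : PicF.IsInvertible O1) (hv : v j = 1) (hf : f ⁻¹ᵁ (p ⁻¹ᵁ U) = ⊤) (h : T' ⟶ T) (H : Cond e f v) :
    Cond e (h ≫ f) (fun k => h.appTop (v k)) := by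
  classical
  let D := genLocus' (e j) hinv
  have hle : D ≤ p ⁻¹ᵁ U := genLocus'_le _ _
  have hgen : GenOn O1 (res O1 hle (e j)) := genLocus'_genOn _ _
  choose t ht using fun k => (hgen D le_rfl).2 (res O1 hle (e k))
  have htk : ∀ k, res O1 hle (e k) = t k • res O1 hle (e j) := fun k => by
    rw [← ht k]
    exact congrArg _ (AmpleLib.res_refl _ _)
  have hT : (⊤ : T.Opens) ≤ f ⁻¹ᵁ D := hf ▸ le_genLocus'_of_cond hinv H hv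
  have hT' : (⊤ : T'.Opens) ≤ (h ≫ f) ⁻¹ᵁ D := fun x _ => hT (Opens.mem_top (h x))
  refine cond_of hle hgen htk hT' fun k => ?_
  rw [← Scheme.Hom.appLE_comp_appLE h f D ⊤ ⊤ hT le_top, CommRingCat.comp_apply,
    val_of_cond H hv hle (htk k) hT, appLE_top]

theorem cond_trans {P₁ : Scheme.{u}} {p₁ : P₁ ⟶ X} {O₁ : P₁.Modules} {M : ℕ}
    {e : Fin N → Γ(O1, p ⁻¹ᵁ U)} {e₁ : Fin M → Γ(O₁, p₁ ⁻¹ᵁ U)} (σ : Fin M → Fin N) {u : S ⟶ P} {w : S ⟶ P₁}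
    (i : pb w O₁ ≅ pb u O1) (h : u ⁻¹ᵁ (p ⁻¹ᵁ U) ≤ w ⁻¹ᵁ (p₁ ⁻¹ᵁ U))
    (hi : ∀ k, res _ h (i.hom.app (w ⁻¹ᵁ (p₁ ⁻¹ᵁ U)) (puSec w (e₁ k))) = puSec u (e (σ k)))
    {c : T ⟶ S} {v : Fin N → Γ(T, ⊤)} (hT : (⊤ : T.Opens) ≤ (c ≫ u) ⁻¹ᵁ (p ⁻¹ᵁ U))
    (H : Cond e (c ≫ u) v) : Cond e₁ (c ≫ w) (fun k => v (σ k)) := by
  obtain ⟨ic, hic⟩ := H
  let F : pb c (pb u O1) ⟶ Coh.structureModule T := (Scheme.Modules.pullbackComp c u).hom.app O1 ≫ ic.hom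
  refine ⟨((Scheme.Modules.pullbackComp c w).app O₁).symm ≪≫ (Scheme.Modules.pullback c).mapIso i ≪≫
    (Scheme.Modules.pullbackComp c u).app O1 ≪≫ ic, fun k => ?_⟩
  show F.app _ (((Scheme.Modules.pullback c).map i.hom).app _
    (((Scheme.Modules.pullbackComp c w).inv.app O₁).app _ (puSec (c ≫ w) (e₁ k)))) = _
  rw [CohCmpLib.pullbackComp_inv_puSec]
  refine (congrArg (F.app _) (KFlatLib.puSec_natural c i.hom (puSec w (e₁ k)))).trans ?_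
  let A := F.app (c ⁻¹ᵁ (w ⁻¹ᵁ (p₁ ⁻¹ᵁ U))) (puSec c (i.hom.app _ (puSec w (e₁ k))))
  show A = _
  have hle : c ⁻¹ᵁ (u ⁻¹ᵁ (p ⁻¹ᵁ U)) ≤ c ⁻¹ᵁ (w ⁻¹ᵁ (p₁ ⁻¹ᵁ U)) := c.preimage_mono h
  have hge : c ⁻¹ᵁ (w ⁻¹ᵁ (p₁ ⁻¹ᵁ U)) ≤ c ⁻¹ᵁ (u ⁻¹ᵁ (p ⁻¹ᵁ U)) := le_top.trans hT
  have h1 : res (Coh.structureModule T) hle A = T.presheaf.map (homOfLE le_top).op (v (σ k)) := by
    refine (QCohLib.app_map F (homOfLE hle) _).symm.trans ?_
    refine (congrArg (F.app _) (TwistLib.puSec_res c h _).symm).trans ?_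
    rw [hi]
    refine Eq.trans ?_ (hic (σ k))
    exact congrArg (ic.hom.app _) (CohCmpLib.pullbackComp_puSec c u O1 (e (σ k)))
  have h2 := congrArg (res (Coh.structureModule T) hge) h1
  rw [AmpleLib.res_res, AmpleLib.res_refl] at h2
  rw [h2]
  exact congr($((T.presheaf.map_comp (homOfLE (le_top : c ⁻¹ᵁ (u ⁻¹ᵁ (p ⁻¹ᵁ U)) ≤ ⊤)).op
    (homOfLE hge).op)) (v (σ k))).symm

theorem appTop_map_inv {A B : CommRingCat.{u}} (f : A ⟶ B) (x : A) :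
    (Spec.map f).appTop ((Scheme.ΓSpecIso A).inv x) = (Scheme.ΓSpecIso B).inv (f x) :=
  (congr($(Scheme.ΓSpecIso_inv_naturality f) x)).symm

variable {P₁ : Scheme.{u}} {p₁ : P₁ ⟶ X} {E E₁ E₂ : X.Modules} {O₁ : P₁.Modules}
  {q : pb p E ⟶ O1} {q₁ : pb p₁ E₁ ⟶ O₁} {n n₁ r₂ : ℕ}

/-- Around every point, the projection is a coordinate projection. -/
theorem exists_chart_proj [IsLocallyNoetherian X] (hn : n₁ + r₂ = n)
    (hE : FlatMod.IsFinLocFreeOfRank (n + 1) E) (hP : KRR.IsProjBundle p E O1 q)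
    (hE₁ : FlatMod.IsFinLocFreeOfRank (n₁ + 1) E₁) (hP₁ : KRR.IsProjBundle p₁ E₁ O₁ q₁)
    (hE₂ : FlatMod.IsFinLocFreeOfRank r₂ E₂) (a : E₁ ⟶ E) (b : E ⟶ E₂) (hab : a ≫ b = 0)
    (hex : (ShortComplex.mk a b hab).ShortExact) (hinv : PicF.IsInvertible O1)
    (φ : (genOpen q a hinv : Scheme.{u}) ⟶ P₁) (i : pb φ O₁ ≅ pb (genOpen q a hinv).ι O1)
    (hφ : φ ≫ p₁ = (genOpen q a hinv).ι ≫ p)
    (hi : ∀ (W : X.Opens) (m : Γ(E₁, W)) (h : (genOpen q a hinv).ι ⁻¹ᵁ (p ⁻¹ᵁ W) ≤ φ ⁻¹ᵁ (p₁ ⁻¹ᵁ W)),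
      res _ h (i.hom.app (φ ⁻¹ᵁ (p₁ ⁻¹ᵁ W)) (puSec φ (q₁.app (p₁ ⁻¹ᵁ W) (puSec p₁ m)))) =
        puSec (genOpen q a hinv).ι (q.app (p ⁻¹ᵁ W) (puSec p (a.app W m))))
    (z : (genOpen q a hinv : Scheme.{u})) :
    ∃ (U : X.Opens) (c : Spec (CommRingCat.of (Pol Γ(X, U) n)) ⟶ genOpen q a hinv)
      (c₁ : Spec (CommRingCat.of (Pol Γ(X, U) n₁)) ⟶ P₁), IsOpenImmersion c ∧ IsOpenImmersion c₁ ∧
      c ≫ φ = forgetMap Γ(X, U) n n₁ (hn ▸ Nat.le_add_right n₁ r₂) ≫ c₁ ∧ z ∈ Set.range c := by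
  classical
  haveI := hP.epi
  haveI := hP₁.epi
  let U₀ := genOpen q a hinv
  let ι := U₀.ι
  obtain ⟨U, hU, φE, φ₁, hη, had⟩ := exists_adapted (r₁ := n₁ + 1) (r₂ := r₂) (N := n + 1) (by omega) hE₁ hE hE₂ a b hab hex
    (p (ι z))
  obtain ⟨C', hC'⟩ := exists_charts hU φE hP
  obtain ⟨C₁, hC₁⟩ := exists_charts hU φ₁ hP₁
  have hinv₁ : PicF.IsInvertible O₁ := (CohCmpLib.invertible_iff_rank_one O₁).2 hP₁.invertible
  have hle : ι ⁻¹ᵁ (p ⁻¹ᵁ U) ≤ φ ⁻¹ᵁ (p₁ ⁻¹ᵁ U) := le_of_eq (by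
    rw [← Scheme.Hom.comp_preimage, ← Scheme.Hom.comp_preimage, hφ])
  have hzU : p₁ (φ z) ∈ U := by
    show (φ ≫ p₁) z ∈ U
    rw [hφ]
    exact hη
  obtain ⟨l, hl⟩ := exists_genAt_eSec (q := q₁) φ₁ hinv₁ (z := φ z) hzU
  have hNle : n₁ + 1 ≤ n + 1 := by omega
  let σ : Fin (n₁ + 1) → Fin (n + 1) := Fin.castLE hNle
  have hiσ : ∀ k, res _ hle (i.hom.app (φ ⁻¹ᵁ (p₁ ⁻¹ᵁ U)) (puSec φ (eSec φ₁ q₁ k))) = puSec ι (eSec φE q (σ k)) :=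
    fun k => by
    refine (hi U (bas φ₁ k) hle).trans ?_
    rw [← had k]
    rfl
  have hzD : ι z ∈ genLocus' (eSec φE q (σ l)) hinv := by
    refine ⟨hη, ?_⟩
    rw [← genAt_puSec_iff' ι hinv _ (x := z) hη, ← hiσ l, AmpleLib.genAt_res hle _ (show z ∈ ι ⁻¹ᵁ (p ⁻¹ᵁ U) from hη),
      TwistLib.genAt_app_iso i]
    exact TwistLib.GenAt.puSec φ hl
  obtain ⟨hcoi, hrange, hcover, hcond⟩ := hC' (σ l)
  obtain ⟨hc₁oi, -, hc₁over, hc₁cond⟩ := hC₁ l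
  haveI := hcoi
  haveI := hc₁oi
  let T := Spec (CommRingCat.of (Pol Γ(X, U) n))
  have hrangeU : Set.range (C' (σ l)) ⊆ Set.range ι := by
    rw [hrange, Scheme.Opens.range_ι]
    rintro y ⟨hy, hgen⟩
    refine mem_genOpen.2 ⟨U, bas φ₁ l, hy, ?_⟩
    rw [← had l]
    exact hgen
  let c : T ⟶ U₀ := IsOpenImmersion.lift ι (C' (σ l)) hrangeU
  have hc : c ≫ ι = C' (σ l) := IsOpenImmersion.lift_fac _ _ _
  haveI : IsOpenImmersion (c ≫ ι) := hc ▸ hcoi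
  haveI : IsOpenImmersion c := IsOpenImmersion.of_comp c ι
  refine ⟨U, c, C₁ l, inferInstance, hc₁oi, ?_, ?_⟩
  swap
  · obtain ⟨x, hx⟩ := hrange.ge hzD
    exact ⟨x, ι.isOpenEmbedding.injective ((congr($(hc).base x)).trans hx)⟩
  let F := forgetMap Γ(X, U) n n₁ (hn ▸ Nat.le_add_right n₁ r₂)
  let g : T ⟶ X := Spec.map (CommRingCat.ofHom (C : Γ(X, U) →+* Pol Γ(X, U) n)) ≫ hU.fromSpec
  have hg : g ⁻¹ᵁ U = ⊤ := by
    show Spec.map _ ⁻¹ᵁ hU.fromSpec ⁻¹ᵁ U = ⊤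
    rw [hU.fromSpec_preimage_self]
    rfl
  let v := fun k => chartVals Γ(X, U) n (σ l) (σ k)
  have hvl : v l = 1 := chartVals_self _ _ _
  obtain ⟨f, -, huniq⟩ := existsUnique_lift φ₁ hP₁ g hg v l hvl
  have hover : F ≫ C₁ l ≫ p₁ = g := by
    rw [hc₁over, ← Spec.map_comp_assoc]
    refine congrArg (Spec.map · ≫ hU.fromSpec) (CommRingCat.hom_ext (RingHom.ext fun r => ?_))
    exact MvPolynomial.rename_C _ r
  have hcg : (c ≫ ι) ≫ p = g := by rw [hc, hcover]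
  refine (huniq _ ⟨?_, ?_⟩).trans (huniq _ ⟨(Category.assoc _ _ _).trans hover, ?_⟩).symm
  · rw [Category.assoc, hφ, ← Category.assoc, hcg]
  · refine cond_trans σ i hle hiσ ?_ (hc.symm ▸ hcond)
    rw [← Scheme.Hom.comp_preimage, hcg, hg]
  · have hpre : C₁ l ⁻¹ᵁ (p₁ ⁻¹ᵁ U) = ⊤ := by
      rw [← Scheme.Hom.comp_preimage, hc₁over]
      show Spec.map _ ⁻¹ᵁ hU.fromSpec ⁻¹ᵁ U = ⊤
      rw [hU.fromSpec_preimage_self]
      rfl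
    have h1 := Cond.comp hinv₁ (chartVals_self _ n₁ l) hpre F hc₁cond
    suffices hv : v = fun k => F.appTop (chartVals Γ(X, U) n₁ l k) by rwa [hv]
    funext k
    rcases Fin.eq_self_or_eq_succAbove l k with rfl | ⟨m, rfl⟩
    · rw [hvl, chartVals_self, map_one]
    · have hσ : σ (l.succAbove m) = (σ l).succAbove (Fin.castLE (by omega) m) := by
        apply Fin.ext
        simp only [σ, Fin.succAbove, Fin.lt_def, Fin.val_castSucc, Fin.val_castLE]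
        split_ifs <;> simp
      simp only [v, hσ, chartVals, Fin.insertNth_apply_succAbove]
      refine Eq.trans (congrArg _ (MvPolynomial.rename_X
        (fun m : ULift.{u} (Fin n₁) => (⟨Fin.castLE (by omega) m.down⟩ : ULift.{u} (Fin n))) ⟨m⟩).symm) ?_
      exact (appTop_map_inv (A := CommRingCat.of (Pol Γ(X, U) n₁)) (B := CommRingCat.of (Pol Γ(X, U) n))
        (CommRingCat.ofHom (MvPolynomial.rename
          fun m : ULift.{u} (Fin n₁) => (⟨Fin.castLE (by omega) m.down⟩ : ULift.{u} (Fin n))).toRingHom) (MvPolynomial.X ⟨m⟩)).symm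

/-- The projection is flat, with the expected dimension at generic points of fibres. -/
theorem flat_gen_proj [IsLocallyNoetherian X] (hn : n₁ + r₂ = n)
    (hE : FlatMod.IsFinLocFreeOfRank (n + 1) E) (hP : KRR.IsProjBundle p E O1 q)
    (hE₁ : FlatMod.IsFinLocFreeOfRank (n₁ + 1) E₁) (hP₁ : KRR.IsProjBundle p₁ E₁ O₁ q₁)
    (hE₂ : FlatMod.IsFinLocFreeOfRank r₂ E₂) (a : E₁ ⟶ E) (b : E ⟶ E₂) (hab : a ≫ b = 0)
    (hex : (ShortComplex.mk a b hab).ShortExact) (hinv : PicF.IsInvertible O1)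
    (φ : (genOpen q a hinv : Scheme.{u}) ⟶ P₁) (i : pb φ O₁ ≅ pb (genOpen q a hinv).ι O1)
    (hφ : φ ≫ p₁ = (genOpen q a hinv).ι ≫ p)
    (hi : ∀ (W : X.Opens) (m : Γ(E₁, W)) (h : (genOpen q a hinv).ι ⁻¹ᵁ (p ⁻¹ᵁ W) ≤ φ ⁻¹ᵁ (p₁ ⁻¹ᵁ W)),
      res _ h (i.hom.app (φ ⁻¹ᵁ (p₁ ⁻¹ᵁ W)) (puSec φ (q₁.app (p₁ ⁻¹ᵁ W) (puSec p₁ m)))) =
        puSec (genOpen q a hinv).ι (q.app (p ⁻¹ᵁ W) (puSec p (a.app W m))))
    {δ₀ : (genOpen q a hinv).toScheme → ℤ} {δ₁ : P₁ → ℤ} (hδ : Cyc.DeltaCompat φ δ₀ δ₁) :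
    Flat φ ∧ ∀ z, CycLimLib.IsGen φ z → δ₀ z = δ₁ (φ z) + r₂ := by
  have key := exists_chart_proj hn hE hP hE₁ hP₁ hE₂ a b hab hex hinv φ i hφ hi
  refine ⟨Flat.of_stalkMap φ fun z => ?_, fun z hz => ?_⟩
  · obtain ⟨U, c, c₁, hc, hc₁, hsq, x, rfl⟩ := key z
    haveI := flat_forgetMap Γ(X, U) n n₁ r₂ hn
    haveI : Flat (c ≫ φ) := hsq ▸ inferInstance
    have h1 : ((c.stalkMap x).hom.comp (φ.stalkMap (c x)).hom).Flat := by
      have := Flat.stalkMap (c ≫ φ) x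
      rw [Scheme.Hom.stalkMap_comp] at this
      exact this
    have h2 : (inv (c.stalkMap x)).hom.Flat :=
      RingHom.Flat.of_bijective (ConcreteCategory.bijective_of_isIso (inv (c.stalkMap x)))
    have h3 := h1.comp h2
    rw [← RingHom.comp_assoc, ← CommRingCat.hom_comp, IsIso.hom_inv_id, CommRingCat.hom_id, RingHom.id_comp] at h3
    exact h3
  · obtain ⟨U, c, c₁, hc, hc₁, hsq, x, rfl⟩ := key z
    let F := forgetMap Γ(X, U) n n₁ (hn ▸ Nat.le_add_right n₁ r₂)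
    haveI : Flat F := flat_forgetMap Γ(X, U) n n₁ r₂ hn
    have hx : CycLimLib.IsGen (c ≫ φ) x := (CycLimLib.isGen_comp_iff c φ x).2
      ⟨fun y hy _ => c.isOpenEmbedding.injective hy, hz⟩
    rw [hsq] at hx
    have hF := ((CycLimLib.isGen_comp_iff F c₁ x).1 hx).1
    have hδc : Cyc.DeltaCompat (F ≫ c₁) (fun y => δ₀ (c y)) δ₁ :=
      hsq ▸ Bivar.deltaCompat_comp c φ (fun y => δ₀ (c y)) δ₀ δ₁ (CycBivLib.deltaCompat_restrict c) hδ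
    have := delta_forgetMap Γ(X, U) n n₁ r₂ hn
      (CycBivLib.deltaCompat_cancel F c₁ rfl (CycBivLib.deltaCompat_restrict c₁) hδc) hF
    rw [this]
    exact congrArg (δ₁ · + (r₂ : ℤ)) (congr($(hsq).base x)).symm

end CycPBLib

end
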