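import Mathlib
import Groth.Agent.CycPBLib.WhitLocal
import Groth.Agent.CycPBLib.Func
import Groth.Agent.CycBivLib.Clopen
import Groth.Agent.CycPushLib.Restrict

/-!
# The relation of the subsheaf, up to a cycle supported on the bundle of the quotient
-/

set_option autoImplicit false
set_option linter.style.haveILetI false
set_option linter.unusedSectionVars false

universe u

open AlgebraicGeometry CategoryTheory CategoryTheory.Limits Opposite TopologicalSpace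
open AmpleLib (res GenOn GenAt)
open KFlatLib (pb puSec)
open CycC1Lib (fib pbFib)
open CycBivLib (fibMap)

noncomputable section

namespace CycPBLib

/-- Rational sections descend along open immersions. -/
theorem pbFib_surjective {S P : Scheme.{u}} (f : S ⟶ P) [IsOpenImmersion f] {L : P.Modules}
    (hL : PicF.IsInvertible L) (x : S) (w : Cyc.secFibre (pb f L) x) : ∃ v, pbFib f L x v = w := by
  obtain ⟨U, e, hU, he⟩ := TwistLib.exists_genOn hL (f x)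
  obtain ⟨φ, hφ⟩ := CycC1Lib.exists_coord (TwistLib.GenAt.puSec f (he.genAt hU)) w
  obtain ⟨ψ, hψ⟩ := f.stalkMap_surjective x φ
  refine ⟨ψ • fib L (L.presheaf.germ U (f x) hU e), ?_⟩
  rw [CycC1Lib.pbFib_coord f hU (he.genAt hU) rfl]
  exact (congrArg (· • _) hψ).trans hφ.symm

theorem pbFib_zero {S P : Scheme.{u}} (f : S ⟶ P) {L : P.Modules} (hL : PicF.IsInvertible L) (x : S) :
    pbFib f L x 0 = 0 := by
  obtain ⟨U, e, hU, he⟩ := TwistLib.exists_genOn hL (f x)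
  rw [CycC1Lib.pbFib_coord f hU (he.genAt hU) (φ := 0) (zero_smul _ _).symm, map_zero, zero_smul]

/-- Relative dimension from the generic points of the fibres. -/
theorem hasRelDim_of_gen {S Y : Scheme.{u}} (f : S ⟶ Y) [LocallyOfFiniteType f] {δS : S → ℤ} {δY : Y → ℤ}
    (hδ : Cyc.DeltaCompat f δS δY) {r : ℕ} (hgen : ∀ z, CycLimLib.IsGen f z → δS z = δY (f z) + r) :
    Cyc.HasRelDim f r := by
  intro η T hT
  obtain ⟨w, hw, hd⟩ := @FibDimLib.exists_generic_of_component (Y.residueField η) _ _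
    (f.fiberToSpecResidueField η) (UOpenLib.lft_fiberToSpec f η) _ hT
  rw [← hd, ← FibDimLib.fibreDimAt_fiberι]
  have hmax := UOpenLib.max_of_closure_mem f (z := w) (hw ▸ hT)
  have hg : CycLimLib.IsGen f ((f.fiberι η) w) := fun x' a b => hmax x' a b.mem_closure
  rw [UOpenLib.fibreDimAt_eq_of_max f hmax, AlgSpLib.fibreClosureDim_eq_resTrdeg]
  obtain ⟨m, hm, hδm⟩ := hδ ((f.fiberι η) w)
  have h1 := hgen _ hg
  obtain rfl : m = r := by omega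
  rw [show Dual3.resTrdeg f ((f.fiberι η) w) = (m : Cardinal) from hm, map_natCast]
  rfl

variable {X P P₁ : Scheme.{u}} {p : P ⟶ X} {p₁ : P₁ ⟶ X} {O1 : P.Modules} {O₁ : P₁.Modules} {n n₁ : ℕ}

namespace Bun

variable (B : Bun p O1 n)

/-- The defining combination for `r` classes. -/
def rel (t : Secs O1) (r : ℕ) (ε : Fin (r + 1) → AlgebraicCycle X ℤ) : AlgebraicCycle P ℤ :=
  ∑ i : Fin (r + 1), ((-1 : ℤ) ^ (i : ℕ)) • B.caps t (B.pull (ε (Fin.rev i))) (i : ℕ)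

theorem rel_term_mem (t : Secs O1) {r : ℕ} {k : ℤ} {ε : Fin (r + 1) → AlgebraicCycle X ℤ}
    (hε : ∀ j : Fin (r + 1), ε j ∈ Cyc.Zk X B.δX (k - ((j : ℕ) : ℤ))) (i : Fin (r + 1)) :
    B.caps t (B.pull (ε (Fin.rev i))) (i : ℕ) ∈ Cyc.Zk P B.δP (k + n - r) := by
  have := B.caps_mem t (B.pull_mem (hε (Fin.rev i))) (i : ℕ)
  rwa [show k - ((Fin.rev i : Fin (r + 1)) : ℕ) + (n : ℤ) - (i : ℕ) = k + n - r by
    have := i.2; rw [Fin.val_rev]; omega] at this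

theorem rel_mem (t : Secs O1) {r : ℕ} {k : ℤ} {ε : Fin (r + 1) → AlgebraicCycle X ℤ}
    (hε : ∀ j : Fin (r + 1), ε j ∈ Cyc.Zk X B.δX (k - ((j : ℕ) : ℤ))) :
    B.rel t r ε ∈ Cyc.Zk P B.δP (k + n - r) := fun z hz => by
  rw [rel, cyc_sum_apply]
  exact Finset.sum_eq_zero fun i _ => smul_mem_Zk _ (B.rel_term_mem t hε i) z hz

theorem rel_change (t t' : Secs O1) {r : ℕ} {k : ℤ} {ε : Fin (r + 1) → AlgebraicCycle X ℤ}
    (hε : ∀ j : Fin (r + 1), ε j ∈ Cyc.Zk X B.δX (k - ((j : ℕ) : ℤ))) :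
    Cyc.RatEquiv B.δP (k + n - r) (B.rel t r ε) (B.rel t' r ε) := by
  show Cyc.RatEquivZero _ _ (B.rel t r ε - B.rel t' r ε)
  rw [rel, rel, ← Finset.sum_sub_distrib]
  refine ratEquivZero_finset_sum B.hP _ _ fun i _ => ?_
  rw [← smul_sub]
  refine ratEquivZero_smul B.hP _ ?_
  have := B.caps_change (B.pull_mem (hε (Fin.rev i))) t t' (i : ℕ)
  rwa [show k - ((Fin.rev i : Fin (r + 1)) : ℕ) + (n : ℤ) - (i : ℕ) = k + n - r by
    have := i.2; rw [Fin.val_rev]; omega] at this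

end Bun

variable {E E₁ E₂ : X.Modules} {q : pb p E ⟶ O1} {q₁ : pb p₁ E₁ ⟶ O₁} {r₂ : ℕ}

/-- Off the bundle of the quotient, the relation of the subsheaf is rationally zero. -/
theorem exists_rel_support_succ [IsProper p] [IsProper p₁] (B : Bun p O1 n) (B₁ : Bun p₁ O₁ n₁)
    (hδX : B₁.δX = B.δX) (hn : n₁ + r₂ = n)
    (hE : FlatMod.IsFinLocFreeOfRank (n + 1) E) (hP : KRR.IsProjBundle p E O1 q)
    (hE₁ : FlatMod.IsFinLocFreeOfRank (n₁ + 1) E₁) (hP₁ : KRR.IsProjBundle p₁ E₁ O₁ q₁)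
    (hE₂ : FlatMod.IsFinLocFreeOfRank r₂ E₂) (a : E₁ ⟶ E) (b : E ⟶ E₂) (hab : a ≫ b = 0)
    (hex : (ShortComplex.mk a b hab).ShortExact) (hinv : PicF.IsInvertible O1)
    {k : ℤ} {ε : Fin (n₁ + 2) → AlgebraicCycle X ℤ}
    (hε : ∀ j : Fin (n₁ + 2), ε j ∈ Cyc.Zk X B.δX (k - ((j : ℕ) : ℤ)))
    (hrel : Cyc.RatEquivZero B₁.δP (k - 1) (B₁.relCyc B₁.std ε)) :
    ∀ t : Bun.Secs O1, ∃ z, z ∈ Cyc.Zk P B.δP (k - 1 + r₂) ∧ (∀ x ∈ genOpen q a hinv, z x = 0) ∧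
      Cyc.RatEquiv B.δP (k - 1 + r₂) (B.rel t (n₁ + 1) ε) z := by
  classical
  haveI := B.hX.1
  obtain ⟨φ, i, hφ, hi⟩ := exists_proj hP hP₁ a hinv
  let U₀ := genOpen q a hinv
  let ι := U₀.ι
  let δ₀ : U₀.toScheme → ℤ := fun z => B.δP (ι z)
  have hδι : Cyc.DeltaCompat ι δ₀ B.δP := CycBivLib.deltaCompat_restrict ι
  have hS₀ : Cyc.IsSetup U₀.toScheme δ₀ := CycBivLib.isSetup_of_lft ι B.hP hδι
  have hδφ : Cyc.DeltaCompat φ δ₀ B₁.δP :=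
    CycBivLib.deltaCompat_cancel φ p₁ hφ B₁.hδ (hδX ▸ Bivar.deltaCompat_comp ι p δ₀ B.δP B.δX hδι B.hδ)
  obtain ⟨hflat, hgen⟩ := flat_gen_proj hn hE hP hE₁ hP₁ hE₂ a b hab hex hinv φ i hφ hi hδφ
  haveI : LocallyOfFiniteType (φ ≫ p₁) := hφ ▸ inferInstance
  haveI : LocallyOfFiniteType φ := locallyOfFiniteType_of_comp φ p₁
  have hrd : Cyc.HasRelDim φ r₂ := hasRelDim_of_gen φ hδφ hgen
  haveI := B.flat
  haveI := B₁.flat
  have hpull : ∀ (x : AlgebraicCycle X ℤ) (m : ℤ), x ∈ Cyc.Zk X B.δX m →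
      Cyc.pullFun ι δ₀ B.δP 0 ⇑(B.pull x) = Cyc.pullFun φ δ₀ B₁.δP r₂ ⇑(B₁.pull x) := fun x m hx => by
    show Cyc.pullFun ι δ₀ B.δP ((0 : ℕ) : ℤ) (Cyc.pullFun p B.δP B.δX n ⇑x) =
      Cyc.pullFun φ δ₀ B₁.δP r₂ (Cyc.pullFun p₁ B₁.δP B₁.δX n₁ ⇑x)
    rw [(Groth.Agent.S1857.result _ P X δ₀ B.δP B.δX hS₀ B.hP B.hX ι p 0 n
        (CycBivLib.hasRelDim_openImmersion ι) B.relDim hδι B.hδ m).2 x hx,
      (Groth.Agent.S1857.result _ P₁ X δ₀ B₁.δP B₁.δX hS₀ B₁.hP B₁.hX φ p₁ r₂ n₁ hrd B₁.relDim hδφ B₁.hδ m).2 x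
        (hδX.symm ▸ hx), hφ, hδX]
    congr 1
    push_cast
    omega
  -- transported sections
  let t₁ := B₁.std
  have hex' : ∀ (m : ℕ) (z : U₀.toScheme),
      ∃ v, pbFib ι O1 z v = fibMap i.hom z (pbFib φ O₁ z (t₁.t m (φ z))) :=
    fun m z => pbFib_surjective ι hinv z _
  choose v hv using hex'
  have hv0 : ∀ m z, v m z ≠ 0 := fun m z h => by
    have h1 := hv m z
    rw [h, pbFib_zero ι hinv] at h1
    exact CycBivLib.fibMap_ne_zero i (CycC1Lib.pbFib_ne_zero φ B₁.hinv (t₁.ne m (φ z))) h1.symm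
  let t' : Bun.Secs O1 :=
    ⟨fun m y => if hy : y ∈ U₀ then v m ⟨y, hy⟩ else B.std.t m y, fun m y => by
      by_cases hy : y ∈ U₀
      · rw [dif_pos hy]; exact hv0 m ⟨y, hy⟩
      · rw [dif_neg hy]; exact B.std.ne m y⟩
  have ht' : ∀ m (z : U₀.toScheme), fibMap i.hom z (pbFib φ O₁ z (t₁.t m (φ z))) = pbFib ι O1 z (t'.t m (ι z)) :=
    fun m z => (hv m z).symm.trans (congrArg (pbFib ι O1 z) (show t'.t m (ι z) = v m z from dif_pos (show ι z ∈ U₀ from z.2)).symm)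
  have hgι : ∀ z, CycLimLib.IsGen ι z → δ₀ z = B.δP (ι z) + (0 : ℤ) := fun z _ => (add_zero _).symm
  have hcaps : ∀ (x : AlgebraicCycle X ℤ) (m : ℤ), x ∈ Cyc.Zk X B.δX m → ∀ d : ℕ,
      Cyc.pullFun ι δ₀ B.δP 0 ⇑(B.caps t' (B.pull x) d) =
        Cyc.pullFun φ δ₀ B₁.δP r₂ ⇑(B₁.caps t₁ (B₁.pull x) d) := by
    intro x m hx d
    induction d with
    | zero => exact hpull x m hx
    | succ d IH =>
      haveI := hflat
      rw [B.caps_succ, B₁.caps_succ, CycC1Lib.pullFun_c1Cap ι hS₀ B.hP hgι hinv _ (t'.ne d),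
        CycC1Lib.pullFun_c1Cap φ hS₀ B₁.hP hgen B₁.hinv _ (t₁.ne d), IH,
        ← CycBivLib.c1CapFun_fibMap hS₀ (AmpleDevLib.isInvertible_pb φ B₁.hinv) i]
      exact congrArg (Cyc.c1CapFun δ₀ _ _) (funext fun z => (ht' d z).symm)
  haveI := hflat
  have hε₁ : ∀ j : Fin (n₁ + 2), ε j ∈ Cyc.Zk X B₁.δX (k - ((j : ℕ) : ℤ)) := hδX.symm ▸ hε
  have hR₁ : B₁.relCyc t₁ ε ∈ Cyc.Zk P₁ B₁.δP (k - 1) := fun z hz => by
    rw [Bun.relCyc, Bun.cyc_sum_apply]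
    exact Finset.sum_eq_zero fun j _ => smul_mem_Zk _ (B₁.term_mem t₁ hε₁ j) z hz
  let αU := CycC1Lib.pullCyc φ hS₀ hgen (B₁.relCyc t₁ ε)
  have hαU : ∀ z, αU z = B.rel t' (n₁ + 1) ε (ι z) := fun z => by
    show Cyc.pullFun φ δ₀ B₁.δP r₂ ⇑(B₁.relCyc t₁ ε) z = _
    rw [show ⇑(B₁.relCyc t₁ ε) = fun y => ∑ j : Fin (n₁ + 2), (-1 : ℤ) ^ (j : ℕ) *
        B₁.caps t₁ (B₁.pull (ε (Fin.rev j))) (j : ℕ) y from funext fun y => by
          rw [Bun.relCyc, Bun.cyc_sum_apply]; exact Finset.sum_congr rfl fun j _ => smul_apply _ _ _,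
      pullFun_sum_zsmul, Bun.rel, Bun.cyc_sum_apply]
    refine Finset.sum_congr rfl fun j _ => ?_
    rw [smul_apply, ← hcaps _ _ (hε (Fin.rev j)) (j : ℕ)]
    exact congrArg _ (CycBivLib.pullFun_openImmersion ι _ z)
  have h0 : Cyc.RatEquivZero δ₀ (k - 1 + r₂) αU :=
    Groth.Agent.S1940.result P₁ _ B₁.δP δ₀ B₁.hP hS₀ φ r₂
      (fun z hz => hgen z fun y hy hys => hz y hy hys) (k - 1) _ hR₁ hrel αU rfl
  have hk : k + (n : ℤ) - ((n₁ + 1 : ℕ) : ℤ) = k - 1 + r₂ := by push_cast; omega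
  obtain ⟨z, hz, hzU, hzR⟩ := CycPushLib.exists_supported_on_complement B.hP U₀
    (α := B.rel t' (n₁ + 1) ε) (β := 0) (hk ▸ B.rel_mem t' hε) (fun _ _ => rfl) (αU := αU) (βU := 0) hαU
    (fun _ => rfl) (by show Cyc.RatEquivZero _ _ (αU - 0); rwa [sub_zero])
  intro t
  refine ⟨z, hz, hzU, CycCommLib.ratEquiv_trans B.hP (hk ▸ B.rel_change t t' hε) ?_⟩
  rwa [zero_add] at hzR

end CycPBLib

end
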