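import Mathlib
import Groth.Agent.CycPBLib.WhitRes
import Groth.Agent.CycBivLib.Vanish
import Groth.Agent.S1859

/-!
# Identifying a cycle supported on the bundle of the quotient
-/

set_option autoImplicit false
set_option linter.style.haveILetI false
set_option linter.unusedSectionVars false

universe u

open AlgebraicGeometry CategoryTheory CategoryTheory.Limits
open KFlatLib (pb)

noncomputable section

namespace CycPBLib

variable {X P P₂ : Scheme.{u}} {p : P ⟶ X} {p₂ : P₂ ⟶ X} {O1 : P.Modules} {n n₂ : ℕ}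

theorem ratEquiv_smul {Z : Scheme.{u}} {δ : Z → ℤ} (hZ : Cyc.IsSetup Z δ) {k : ℤ} (c : ℤ)
    {a a' : AlgebraicCycle Z ℤ} (h : Cyc.RatEquiv δ k a a') : Cyc.RatEquiv δ k (c • a) (c • a') := by
  show Cyc.RatEquivZero _ _ (c • a - c • a')
  rw [← smul_sub]
  exact ratEquivZero_smul hZ c h

theorem ratEquiv_finset_sum {Z : Scheme.{u}} {δ : Z → ℤ} (hZ : Cyc.IsSetup Z δ) {k : ℤ} {ι : Type*} (S : Finset ι)
    (f g : ι → AlgebraicCycle Z ℤ) (h : ∀ i ∈ S, Cyc.RatEquiv δ k (f i) (g i)) :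
    Cyc.RatEquiv δ k (∑ i ∈ S, f i) (∑ i ∈ S, g i) := by
  show Cyc.RatEquivZero _ _ ((∑ i ∈ S, f i) - _)
  rw [← Finset.sum_sub_distrib]
  exact Bun.ratEquivZero_finset_sum hZ S _ h

theorem ratEquiv_zero_iff {Z : Scheme.{u}} {δ : Z → ℤ} {k : ℤ} {a : AlgebraicCycle Z ℤ} :
    Cyc.RatEquiv δ k a 0 ↔ Cyc.RatEquivZero δ k a := by
  show Cyc.RatEquivZero _ _ _ ↔ _
  rw [sub_zero]

namespace Bun

variable (B : Bun p O1 n)

theorem caps_sum' (t : Secs O1) {ι : Type*} (S : Finset ι) (Ds : ι → AlgebraicCycle P ℤ) (i : ℕ) :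
    B.caps t (∑ a ∈ S, Ds a) i = ∑ a ∈ S, B.caps t (Ds a) i := by
  simpa only [one_smul] using B.caps_lin t S (fun _ => (1 : ℤ)) Ds i

theorem deltaCompat_embedded {j : P₂ ⟶ P} (B₂ : Bun p₂ (pb j O1) n₂) (hj : j ≫ p = p₂) (hX : B₂.δX = B.δX) :
    Cyc.DeltaCompat j B₂.δP B.δP :=
  CycBivLib.deltaCompat_cancel j p hj B.hδ (hX ▸ B₂.hδ)

theorem map_caps_embedded {j : P₂ ⟶ P} [IsProper j] (B₂ : Bun p₂ (pb j O1) n₂)
    (hjδ : Cyc.DeltaCompat j B₂.δP B.δP) (t : Secs O1) (D : AlgebraicCycle P₂ ℤ) :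
    ∀ i : ℕ, AlgebraicCycle.map j B₂.δP B.δP (B₂.caps (pullSecs j B.hinv t) D i) =
      B.caps t (AlgebraicCycle.map j B₂.δP B.δP D) i
  | 0 => rfl
  | i + 1 => DFunLike.ext _ _ fun y => by
    rw [CycC1Lib.map_c1Cap B₂.hP B.hP j hjδ B.hinv (B₂.caps (pullSecs j B.hinv t) D i) (t.ne i) _
      (B₂.caps_succ _ D i) y, map_caps_embedded B₂ hjδ t D i]
    exact (congrFun (B.caps_succ t _ i) y).symm

/-- Pushing an iterated cap of a pullback to the base. -/
theorem push_caps_lt [IsProper p] {k : ℤ} {α : AlgebraicCycle X ℤ} (hα : α ∈ Cyc.Zk X B.δX k) (t : Secs O1) {s : ℕ}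
    (hs : s < n) : AlgebraicCycle.map p B.δP B.δX (B.caps t (B.pull α) s) = 0 :=
  DFunLike.ext _ _ (B.map_caps_of_lt hα t hs)

/-- A cycle supported on the embedded bundle and equivalent to the relation of the subsheaf. -/
theorem rel_eq_push [IsProper p] [IsProper p₂] {j : P₂ ⟶ P} [IsClosedImmersion j]
    (B₂ : Bun p₂ (pb j O1) n₂) (hj : j ≫ p = p₂) (hX : B₂.δX = B.δX) {r : ℕ} (hn : r + n₂ = n)
    {k : ℤ} {ε : Fin (r + 1) → AlgebraicCycle X ℤ}
    (hε : ∀ i : Fin (r + 1), ε i ∈ Cyc.Zk X B.δX (k - ((i : ℕ) : ℤ))) (t : Secs O1) {z : AlgebraicCycle P ℤ}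
    (hz : z ∈ Cyc.Zk P B.δP (k + n₂)) (hzs : ∀ x ∉ Set.range j, z x = 0)
    (hR : Cyc.RatEquiv B.δP (k + n₂) (B.rel t r ε) z) :
    Cyc.RatEquiv B.δP (k + n₂) (B.rel t r ε)
      (((-1 : ℤ) ^ r) • AlgebraicCycle.map j B₂.δP B.δP (B₂.pull (ε 0))) := by
  classical
  haveI : QuasiCompact p := inferInstance
  have hjδ := B.deltaCompat_embedded B₂ hj hX
  have hδ₂ : B₂.δP = fun d => B.δP (j d) := funext fun d => by
    obtain ⟨m, hm, h⟩ := hjδ d
    have h0 := CycPushLib.trdeg_preimmersion_left j d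
    rw [Dual3.resTrdeg, hm] at h0
    have : m = 0 := by exact_mod_cast h0
    rw [h, this]; simp
  -- the cycle on the small bundle
  let z₂ := CycGysLib.restrictCyc j z
  have hz₂ : z₂ ∈ Cyc.Zk P₂ B₂.δP (k + n₂) := fun d hd => by
    rw [hδ₂] at hd
    exact hz (j d) hd
  have hjz : AlgebraicCycle.map j B₂.δP B.δP z₂ = z := by
    rw [hδ₂]
    exact CycBivLib.map_restrict_of_supported j z hzs
  let t₂ : Secs (pb j O1) := pullSecs j B.hinv t
  obtain ⟨a, ha, hza⟩ := B₂.span k (fun _ => t₂) z₂ hz₂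
  have hjre : Cyc.RatEquiv B.δP (k + n₂) (B.rel t r ε)
      (∑ l : Fin (n₂ + 1), AlgebraicCycle.map j B₂.δP B.δP (B₂.caps t₂ (B₂.pull (a l)) (l : ℕ))) := by
    refine CycCommLib.ratEquiv_trans B.hP hR ?_
    rw [← hjz, ← map_finset_sum]
    exact CycPushLib.ratEquiv_map B₂.hP B.hP j hjδ hza
  -- testing with powers of the hyperplane class
  have key : ∀ i : ℕ, i ≤ n₂ → Cyc.RatEquiv B.δX (k + n₂ - i)
      (∑ l : Fin (n₂ + 1), AlgebraicCycle.map p₂ B₂.δP B.δX (B₂.caps t₂ (B₂.pull (a l)) ((l : ℕ) + i)))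
      (if i = n₂ then ((-1 : ℤ) ^ r) • ε 0 else 0) := by
    intro i hi
    have h1 : Cyc.RatEquiv B.δX (k + n₂ - i)
        (AlgebraicCycle.map p B.δP B.δX (B.caps t (B.rel t r ε) i))
        (AlgebraicCycle.map p B.δP B.δX
          (B.caps t (∑ l : Fin (n₂ + 1), AlgebraicCycle.map j B₂.δP B.δP (B₂.caps t₂ (B₂.pull (a l)) (l : ℕ))) i)) := by
      refine CycPushLib.ratEquiv_map B.hP B.hX p B.hδ (B.caps_ratEquiv ?_ ?_ t t hjre i)
      · have := B.rel_mem t hε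
        rwa [show k + (n : ℤ) - r = k + n₂ by omega] at this
      · intro x hx
        rw [cyc_sum_apply]
        refine Finset.sum_eq_zero fun l _ => ?_
        refine map_mem_Zk j ?_ x hx
        have := B₂.caps_mem t₂ (B₂.pull_mem (ha l)) (l : ℕ)
        rwa [show k + ((l : ℕ) : ℤ) + n₂ - (l : ℕ) = k + n₂ by ring] at this
    have h2 : Cyc.RatEquiv B.δX (k + n₂ - i)
        (AlgebraicCycle.map p B.δP B.δX
          (B.caps t (∑ l : Fin (n₂ + 1), AlgebraicCycle.map j B₂.δP B.δP (B₂.caps t₂ (B₂.pull (a l)) (l : ℕ))) i))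
        (∑ l : Fin (n₂ + 1), AlgebraicCycle.map p₂ B₂.δP B.δX (B₂.caps t₂ (B₂.pull (a l)) ((l : ℕ) + i))) := by
      rw [B.caps_sum', map_finset_sum]
      refine ratEquiv_finset_sum B.hX _ _ _ fun l _ => ?_
      have hm := B₂.caps_mem t₂ (B₂.caps_mem t₂ (B₂.pull_mem (ha l)) (l : ℕ)) i
      rw [← B.map_caps_embedded B₂ hjδ t,
        Groth.Agent.S1859.result P₂ P X B₂.δP B.δP B.δX B₂.hP B.hP B.hX j p hjδ B.hδ _ _ hm]
      subst hj
      have hc := B₂.caps_caps (B₂.pull_mem (ha l)) t₂ t₂ t₂ (l : ℕ) i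
      rw [show k + ((l : ℕ) : ℤ) + n₂ - (((l : ℕ) + i : ℕ) : ℤ) = k + n₂ - i by push_cast; ring] at hc
      exact CycPushLib.ratEquiv_map B₂.hP B.hX (j ≫ p) (hX ▸ B₂.hδ) hc
    have h3 : Cyc.RatEquiv B.δX (k + n₂ - i) (AlgebraicCycle.map p B.δP B.δX (B.caps t (B.rel t r ε) i))
        (if i = n₂ then ((-1 : ℤ) ^ r) • ε 0 else 0) := by
      rw [rel, B.caps_lin, map_finset_sum, Finset.sum_congr rfl fun m _ => map_zsmul p B.δP B.δX _ _,
        Fin.sum_univ_castSucc, Fin.val_last, Fin.rev_last]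
      have hterm : ∀ m : Fin r, Cyc.RatEquivZero B.δX (k + n₂ - i) (((-1 : ℤ) ^ ((m.castSucc : Fin (r + 1)) : ℕ)) •
          AlgebraicCycle.map p B.δP B.δX (B.caps t (B.caps t (B.pull (ε (Fin.rev m.castSucc))) (m : ℕ)) i)) := by
        intro m
        refine ratEquivZero_smul B.hX _ ?_
        have hc := B.caps_caps (B.pull_mem (hε (Fin.rev m.castSucc))) t t t (m : ℕ) i
        rw [show k - ((Fin.rev m.castSucc : Fin (r + 1)) : ℕ) + (n : ℤ) - (((m : ℕ) + i : ℕ) : ℤ) = k + n₂ - i by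
          have := m.2; rw [Fin.val_rev, Fin.val_castSucc]; omega] at hc
        have h := CycPushLib.ratEquiv_map B.hP B.hX p B.hδ hc
        rw [B.push_caps_lt (hε _) t (by have := m.2; omega)] at h
        exact ratEquiv_zero_iff.1 h
      have hlast : Cyc.RatEquiv B.δX (k + n₂ - i)
          (((-1 : ℤ) ^ r) • AlgebraicCycle.map p B.δP B.δX (B.caps t (B.caps t (B.pull (ε 0)) r) i))
          (if i = n₂ then ((-1 : ℤ) ^ r) • ε 0 else 0) := by
        have hε0 : ε 0 ∈ Cyc.Zk X B.δX k := by simpa using hε 0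
        have hc := B.caps_caps (B.pull_mem hε0) t t t r i
        rw [show k + (n : ℤ) - ((r + i : ℕ) : ℤ) = k + n₂ - i by push_cast; omega] at hc
        have h := CycPushLib.ratEquiv_map B.hP B.hX p B.hδ hc
        split_ifs with hin
        · subst hin
          refine ratEquiv_smul B.hX _ (CycCommLib.ratEquiv_trans B.hX h ?_)
          rw [add_sub_cancel_right, hn]
          exact B.push_caps hε0 t
        · rw [B.push_caps_lt hε0 t (by omega)] at h
          refine ratEquiv_zero_iff.2 (ratEquivZero_smul B.hX _ (ratEquiv_zero_iff.1 h))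
      refine CycCommLib.ratEquivZero_add B.hX (Bun.ratEquivZero_finset_sum B.hX Finset.univ _ fun m _ => hterm m)
        hlast fun w => ?_
      exact add_sub_assoc _ _ _
    exact CycCommLib.ratEquiv_trans B.hX (CycCommLib.ratEquiv_symm B.hX h2)
      (CycCommLib.ratEquiv_trans B.hX (CycCommLib.ratEquiv_symm B.hX h1) h3)
  -- the coefficients, by descending induction
  have hcoef : ∀ d : ℕ, ∀ l : Fin (n₂ + 1), n₂ - (l : ℕ) = d →
      Cyc.RatEquiv B.δX (k + (l : ℕ)) (a l) (if (l : ℕ) = 0 then ((-1 : ℤ) ^ r) • ε 0 else 0) := by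
    intro d
    induction d using Nat.strong_induction_on with
    | _ d IH =>
    intro l hd
    have hl := l.2
    have h := key (n₂ - (l : ℕ)) (by omega)
    rw [show k + (n₂ : ℤ) - ((n₂ - (l : ℕ) : ℕ) : ℤ) = k + (l : ℕ) by omega,
      if_congr (show n₂ - (l : ℕ) = n₂ ↔ (l : ℕ) = 0 by omega) rfl rfl] at h
    refine CycCommLib.ratEquiv_trans B.hX ?_ h
    rw [← Finset.add_sum_erase _ _ (Finset.mem_univ l)]
    have hself : Cyc.RatEquiv B.δX (k + (l : ℕ)) (AlgebraicCycle.map p₂ B₂.δP B.δX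
        (B₂.caps t₂ (B₂.pull (a l)) ((l : ℕ) + (n₂ - (l : ℕ))))) (a l) := by
      have := B₂.push_caps (ha l) t₂
      rw [hX] at this
      rwa [show (l : ℕ) + (n₂ - (l : ℕ)) = n₂ by omega]
    have hrest : Cyc.RatEquivZero B.δX (k + (l : ℕ)) (∑ l' ∈ Finset.univ.erase l,
        AlgebraicCycle.map p₂ B₂.δP B.δX (B₂.caps t₂ (B₂.pull (a l')) ((l' : ℕ) + (n₂ - (l : ℕ))))) := by
      refine Bun.ratEquivZero_finset_sum B.hX _ _ fun l' hl' => ?_
      have hne : (l' : ℕ) ≠ l := fun h => Finset.ne_of_mem_erase hl' (Fin.ext h)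
      rcases lt_or_gt_of_ne hne with hlt | hgt
      · have h1 := B₂.push_caps_lt (ha l') t₂ (s := (l' : ℕ) + (n₂ - (l : ℕ))) (by omega)
        rw [hX] at h1
        rw [h1]
        exact CycCommLib.ratEquivZero_of_forall_eq_zero fun _ => rfl
      · have h0 := IH (n₂ - (l' : ℕ)) (by omega) l' rfl
        rw [if_neg (by omega), ratEquiv_zero_iff] at h0
        have h1 := B₂.caps_ratEquivZero (B₂.pull_mem (ha l')) t₂ (B₂.pull_ratEquivZero (ha l') (hX.symm ▸ h0))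
          ((l' : ℕ) + (n₂ - (l : ℕ)))
        rw [show k + ((l' : ℕ) : ℤ) + n₂ - (((l' : ℕ) + (n₂ - (l : ℕ)) : ℕ) : ℤ) = k + (l : ℕ) by
          have := l'.2; omega] at h1
        have h2 := CycPushLib.ratEquiv_map B₂.hP B₂.hX p₂ B₂.hδ (ratEquiv_zero_iff.2 h1)
        rw [hX, show AlgebraicCycle.map p₂ B₂.δP B.δX 0 = 0 from
          (AddMonoidHom.ofMapSub (AlgebraicCycle.map p₂ B₂.δP B.δX) (CycSeqLib.cycMap_sub p₂ _ _)).map_zero] at h2
        exact ratEquiv_zero_iff.1 h2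
    refine CycCommLib.ratEquiv_symm B.hX (CycCommLib.ratEquivZero_add B.hX hrest hself fun w => ?_)
    exact (add_sub_right_comm _ _ _).trans (add_comm _ _)
  refine CycCommLib.ratEquiv_trans B.hP hjre ?_
  rw [← map_finset_sum, ← map_zsmul]
  refine CycPushLib.ratEquiv_map B₂.hP B.hP j hjδ ?_
  have hterm : ∀ l : Fin (n₂ + 1), Cyc.RatEquiv B₂.δP (k + n₂) (B₂.caps t₂ (B₂.pull (a l)) (l : ℕ))
      (if (l : ℕ) = 0 then ((-1 : ℤ) ^ r) • B₂.pull (ε 0) else 0) := by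
    intro l
    have h := hcoef _ l rfl
    have hb : ((-1 : ℤ) ^ r) • ε 0 ∈ Cyc.Zk X B₂.δX k := hX.symm ▸ smul_mem_Zk _ (by simpa using hε 0)
    rw [← hX] at h
    split_ifs at h ⊢ with hl
    · rw [hl, Nat.cast_zero, add_zero] at h
      have hal : a l ∈ Cyc.Zk X B₂.δX k := by simpa [hl] using ha l
      rw [hl, ← B₂.pull_smul]
      show Cyc.RatEquivZero _ _ (B₂.pull (a l) - _)
      rw [← B₂.pull_sub]
      exact B₂.pull_ratEquivZero (sub_mem_Zk hal hb) h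
    · have h1 := B₂.caps_ratEquivZero (B₂.pull_mem (ha l)) t₂
        (B₂.pull_ratEquivZero (ha l) (ratEquiv_zero_iff.1 h)) (l : ℕ)
      rw [show k + ((l : ℕ) : ℤ) + n₂ - (l : ℕ) = k + n₂ by ring] at h1
      exact ratEquiv_zero_iff.2 h1
  have hs := ratEquiv_finset_sum B₂.hP Finset.univ _ _ fun l _ => hterm l
  rwa [Fin.sum_univ_succ (f := fun l : Fin (n₂ + 1) =>
      if (l : ℕ) = 0 then ((-1 : ℤ) ^ r) • B₂.pull (ε 0) else 0), Fin.val_zero, if_pos rfl,
    Finset.sum_eq_zero fun l _ => if_neg (Fin.val_ne_zero_iff.2 (Fin.succ_ne_zero l)), add_zero] at hs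

end Bun

end CycPBLib

end
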