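import Mathlib
import Groth.Agent.CycPBLib.WhitClass

/-!
# The sum formula
-/

set_option autoImplicit false
set_option linter.style.haveILetI false
set_option linter.unusedSectionVars false

universe u

open AlgebraicGeometry CategoryTheory CategoryTheory.Limits
open KFlatLib (pb)

noncomputable section

namespace CycPBLib

variable {X P P₁ P₂ : Scheme.{u}} {p : P ⟶ X} {p₁ : P₁ ⟶ X} {p₂ : P₂ ⟶ X}
  {O1 : P.Modules} {O₁ : P₁.Modules} {O₂ : P₂.Modules} {E E₁ E₂ : X.Modules}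
  {q : pb p E ⟶ O1} {q₁ : pb p₁ E₁ ⟶ O₁} {q₂ : pb p₂ E₂ ⟶ O₂} {n r₁ r₂ : ℕ}

/-- Chern caps only depend on `O(1)` up to isomorphism. -/
theorem isChernCap_iso {δ : X → ℤ} {δP : P → ℤ} (hPs : Cyc.IsSetup P δP) {M N : P.Modules}
    (hN : PicF.IsInvertible N) (e : M ≅ N) {r : ℕ} {k : ℤ} {α : AlgebraicCycle X ℤ}
    {γ : Fin (r + 1) → AlgebraicCycle X ℤ} (h : Cyc.IsChernCap p δ δP M r k α γ) :
    Cyc.IsChernCap p δ δP N r k α γ := by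
  refine ⟨h.1, h.2.1, fun t ht β hβ => h.2.2 (fun m ξ => CycBivLib.fibMap e.symm.hom ξ (t m ξ))
    (fun m ξ => CycBivLib.fibMap_ne_zero e.symm (ht m ξ)) β fun y => ?_⟩
  have key : ∀ (D : P → ℤ) (i : ℕ), Cyc.c1PowFun δP M (fun m ξ => CycBivLib.fibMap e.symm.hom ξ (t m ξ)) i D =
      Cyc.c1PowFun δP N t i D := by
    intro D i
    induction i with
    | zero => rfl
    | succ i IH =>
      show Cyc.c1CapFun δP M _ _ = Cyc.c1CapFun δP N _ _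
      rw [IH, CycBivLib.c1CapFun_fibMap hPs hN e.symm]
  simp only [hβ, key]

theorem Bun.pull_sum (B : Bun p O1 n) {ι : Type*} (S : Finset ι) (a : ι → AlgebraicCycle X ℤ) :
    B.pull (∑ i ∈ S, a i) = ∑ i ∈ S, B.pull (a i) :=
  map_sum (AddMonoidHom.ofMapSub B.pull B.pull_sub) _ _

theorem Bun.caps_zero' (B : Bun p O1 n) (t : Bun.Secs O1) (i : ℕ) : B.caps t 0 i = 0 :=
  DFunLike.ext _ _ fun z => B.caps_zero t i z

/-- The tuple of the sum formula. -/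
def whitTup (N : ℕ) (ε : Fin (r₂ + 1) → Fin (r₁ + 1) → AlgebraicCycle X ℤ) (j : Fin (N + 1)) :
    AlgebraicCycle X ℤ :=
  ∑ a : Fin (r₁ + 1), ∑ b : Fin (r₂ + 1), if (a : ℕ) + (b : ℕ) = (j : ℕ) then ε b a else 0

theorem whitTup_mem {δ : X → ℤ} {k : ℤ} (N : ℕ) {ε : Fin (r₂ + 1) → Fin (r₁ + 1) → AlgebraicCycle X ℤ}
    (hε : ∀ (b : Fin (r₂ + 1)) (a : Fin (r₁ + 1)), ε b a ∈ Cyc.Zk X δ (k - ((b : ℕ) : ℤ) - ((a : ℕ) : ℤ))) (j : Fin (N + 1)) :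
    whitTup N ε j ∈ Cyc.Zk X δ (k - ((j : ℕ) : ℤ)) := fun x hx => by
  simp only [whitTup, Bun.cyc_sum_apply]
  refine Finset.sum_eq_zero fun a _ => Finset.sum_eq_zero fun b _ => ?_
  split_ifs with h
  · refine hε b a x ?_
    rwa [show k - ((b : ℕ) : ℤ) - ((a : ℕ) : ℤ) = k - (j : ℕ) by omega]
  · rfl

theorem whitTup_zero (N : ℕ) (ε : Fin (r₂ + 1) → Fin (r₁ + 1) → AlgebraicCycle X ℤ) :
    whitTup N ε 0 = ε 0 0 := by
  rw [whitTup, Finset.sum_eq_single 0 (fun a _ ha => Finset.sum_eq_zero fun b _ => if_neg ?_) (by simp),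
    Finset.sum_eq_single 0 (fun b _ hb => if_neg ?_) (by simp)]
  · simp
  · have := Fin.val_ne_zero_iff.2 hb
    simp only [Fin.val_zero]; omega
  · have := Fin.val_ne_zero_iff.2 ha
    simp only [Fin.val_zero]; omega

/-- The relation of the sum tuple, in terms of those of the subsheaf. -/
theorem Bun.rel_whitTup (B : Bun p O1 n) (t : Bun.Secs O1) {N : ℕ} (hN : r₁ + r₂ = N) (hn : N = n + 1) {k : ℤ}
    {ε : Fin (r₂ + 1) → Fin (r₁ + 1) → AlgebraicCycle X ℤ}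
    (hε : ∀ (b : Fin (r₂ + 1)) (a : Fin (r₁ + 1)), ε b a ∈ Cyc.Zk X B.δX (k - ((b : ℕ) : ℤ) - ((a : ℕ) : ℤ))) :
    Cyc.RatEquiv B.δP (k - 1) (B.rel t N (whitTup N ε))
      (∑ b : Fin (r₂ + 1), ((-1 : ℤ) ^ (r₂ - (b : ℕ))) • B.caps t (B.rel t r₁ (ε b)) (r₂ - (b : ℕ))) := by
  classical
  have h1 : B.rel t N (whitTup N ε) = ∑ b : Fin (r₂ + 1), ∑ a : Fin (r₁ + 1),
      ((-1 : ℤ) ^ (r₁ - (a : ℕ) + (r₂ - (b : ℕ)))) •
        B.caps t (B.pull (ε b a)) (r₁ - (a : ℕ) + (r₂ - (b : ℕ))) := by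
    have e : ∀ i : Fin (N + 1), ((-1 : ℤ) ^ (i : ℕ)) • B.caps t (B.pull (whitTup N ε (Fin.rev i))) (i : ℕ) =
        ∑ b : Fin (r₂ + 1), ∑ a : Fin (r₁ + 1),
          if i = ⟨r₁ - (a : ℕ) + (r₂ - (b : ℕ)), by omega⟩ then
            ((-1 : ℤ) ^ (i : ℕ)) • B.caps t (B.pull (ε b a)) (i : ℕ) else 0 := by
      intro i
      simp only [whitTup, B.pull_sum, B.caps_sum', Finset.smul_sum]
      rw [Finset.sum_comm]
      refine Finset.sum_congr rfl fun b _ => Finset.sum_congr rfl fun a _ => ?_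
      have hiff : ((a : ℕ) + (b : ℕ) = ((Fin.rev i : Fin (N + 1)) : ℕ)) ↔
          i = ⟨r₁ - (a : ℕ) + (r₂ - (b : ℕ)), by omega⟩ := by
        have := a.2; have := b.2; have := i.2
        rw [Fin.ext_iff, Fin.val_rev]
        simp only
        omega
      by_cases hc : (a : ℕ) + (b : ℕ) = ((Fin.rev i : Fin (N + 1)) : ℕ)
      · rw [if_pos hc, if_pos (hiff.1 hc)]
      · rw [if_neg hc, if_neg fun h => hc (hiff.2 h),
          show B.pull 0 = 0 from (AddMonoidHom.ofMapSub B.pull B.pull_sub).map_zero, B.caps_zero', smul_zero]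
    rw [Bun.rel, Finset.sum_congr rfl fun i _ => e i, Finset.sum_comm]
    refine Finset.sum_congr rfl fun b _ => ?_
    rw [Finset.sum_comm]
    refine Finset.sum_congr rfl fun a _ => ?_
    simp
  rw [h1]
  refine ratEquiv_finset_sum B.hP _ _ _ fun b _ => ?_
  rw [Bun.rel, B.caps_lin, Finset.smul_sum, ← Equiv.sum_comp Fin.revPerm (fun a => _ • _)]
  refine ratEquiv_finset_sum B.hP _ _ _ fun i _ => ?_
  simp only [Fin.revPerm_apply]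
  have hi : r₁ - ((Fin.rev i : Fin (r₁ + 1)) : ℕ) = (i : ℕ) := by
    have := i.2
    rw [Fin.val_rev]; omega
  rw [hi, smul_smul, ← pow_add, add_comm (r₂ - (b : ℕ)) (i : ℕ)]
  refine ratEquiv_smul B.hP _ ?_
  have h := B.caps_caps (B.pull_mem (hε b (Fin.rev i))) t t t (i : ℕ) (r₂ - (b : ℕ))
  rw [show k - ((b : ℕ) : ℤ) - ((Fin.rev i : Fin (r₁ + 1)) : ℕ) + (n : ℤ) - (((i : ℕ) + (r₂ - (b : ℕ)) : ℕ) : ℤ)
      = k - 1 by
    have := b.2; have := i.2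
    rw [Fin.val_rev]; omega] at h
  exact CycCommLib.ratEquiv_symm B.hP h

/-- Off the bundle of the quotient the relation of the subsheaf vanishes. -/
theorem exists_rel_support [IsProper p] [IsProper p₁] (B : Bun p O1 n) (hn : r₁ + r₂ = n + 1)
    (hE : FlatMod.IsFinLocFreeOfRank (n + 1) E) (hP : KRR.IsProjBundle p E O1 q)
    (hE₁ : FlatMod.IsFinLocFreeOfRank r₁ E₁) (hP₁ : KRR.IsProjBundle p₁ E₁ O₁ q₁)
    (hE₂ : FlatMod.IsFinLocFreeOfRank r₂ E₂) (a : E₁ ⟶ E) (b : E ⟶ E₂) (hab : a ≫ b = 0)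
    (hex : (ShortComplex.mk a b hab).ShortExact) (hinv : PicF.IsInvertible O1)
    {δ₁ : P₁ → ℤ} (hS₁ : Cyc.IsSetup P₁ δ₁) (hδ₁ : Cyc.DeltaCompat p₁ δ₁ B.δX)
    {k : ℤ} {α : AlgebraicCycle X ℤ} {ε : Fin (r₁ + 1) → AlgebraicCycle X ℤ}
    (hε : Cyc.IsChernCap p₁ B.δX δ₁ O₁ r₁ k α ε) (t : Bun.Secs O1) :
    ∃ z, z ∈ Cyc.Zk P B.δP (k - 1 + r₂) ∧ (∀ x ∈ genOpen q a hinv, z x = 0) ∧
      Cyc.RatEquiv B.δP (k - 1 + r₂) (B.rel t r₁ ε) z := by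
  cases r₁ with
  | zero =>
    obtain ⟨φ, -⟩ := exists_proj hP hP₁ a hinv
    haveI := isEmpty_of_rank_zero hE₁ hP₁
    refine ⟨B.rel t 0 ε, ?_, fun x hx => (IsEmpty.false (φ ⟨x, hx⟩)).elim, CycCommLib.ratEquiv_refl _⟩
    have := B.rel_mem t hε.2.1
    rwa [show k + (n : ℤ) - ((0 : ℕ) : ℤ) = k - 1 + r₂ by omega] at this
  | succ n₁ =>
    obtain ⟨B₁, hX₁, hP₁δ⟩ := exists_bun' hE₁ hP₁ B.hX hS₁ hδ₁
    subst hP₁δ
    rw [← hX₁] at hε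
    obtain ⟨-, h2, h3⟩ := (B₁.isChernCap_iff _ _ _).1 hε
    exact exists_rel_support_succ B B₁ hX₁ (by omega) hE hP hE₁ hP₁ hE₂ a b hab hex hinv (hX₁ ▸ h2) (h3 _) t

/-- The sum tuple is a Chern tuple. -/
theorem isChernCap_whitney [IsProper p] [IsProper p₁] [IsProper p₂] {δ : X → ℤ} {δP : P → ℤ} {δ₁ : P₁ → ℤ}
    {δ₂ : P₂ → ℤ} (hX : Cyc.IsSetup X δ) (hPs : Cyc.IsSetup P δP) (hS₁ : Cyc.IsSetup P₁ δ₁) (hS₂ : Cyc.IsSetup P₂ δ₂)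
    (hδ : Cyc.DeltaCompat p δP δ) (hδ₁ : Cyc.DeltaCompat p₁ δ₁ δ) (hδ₂ : Cyc.DeltaCompat p₂ δ₂ δ)
    {N : ℕ} (hN : r₁ + r₂ = N) (hE : FlatMod.IsFinLocFreeOfRank N E) (hP : KRR.IsProjBundle p E O1 q)
    (hE₁ : FlatMod.IsFinLocFreeOfRank r₁ E₁) (hP₁ : KRR.IsProjBundle p₁ E₁ O₁ q₁)
    (hE₂ : FlatMod.IsFinLocFreeOfRank r₂ E₂) (hP₂ : KRR.IsProjBundle p₂ E₂ O₂ q₂)
    (a : E₁ ⟶ E) (b : E ⟶ E₂) (hab : a ≫ b = 0) (hex : (ShortComplex.mk a b hab).ShortExact)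
    {k : ℤ} {α : AlgebraicCycle X ℤ} {γ₂ : Fin (r₂ + 1) → AlgebraicCycle X ℤ}
    (hγ₂ : Cyc.IsChernCap p₂ δ δ₂ O₂ r₂ k α γ₂) {ε : Fin (r₂ + 1) → Fin (r₁ + 1) → AlgebraicCycle X ℤ}
    (hε : ∀ b : Fin (r₂ + 1), Cyc.IsChernCap p₁ δ δ₁ O₁ r₁ (k - ((b : ℕ) : ℤ)) (γ₂ b) (ε b)) :
    Cyc.IsChernCap p δ δP O1 N k α (whitTup N ε) := by
  classical
  have hσ := whitTup_mem (δ := δ) (k := k) N fun b a => (hε b).2.1 a
  have hσ0 : whitTup N ε 0 = α := by rw [whitTup_zero, (hε 0).1, hγ₂.1]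
  obtain rfl | ⟨n, rfl⟩ : N = 0 ∨ ∃ n, N = n + 1 := by
    rcases N with _ | n
    · exact Or.inl rfl
    · exact Or.inr ⟨n, rfl⟩
  · haveI := isEmpty_of_rank_zero hE hP
    exact ⟨hσ0, hσ, fun t ht β _ => CycCommLib.ratEquivZero_of_forall_eq_zero fun z => (IsEmpty.false z).elim⟩
  obtain ⟨B, rfl, rfl⟩ := exists_bun' hE hP hX hPs hδ
  refine (B.isChernCap_iff _ _ _).2 ⟨hσ0, hσ, fun t => ?_⟩
  show Cyc.RatEquivZero B.δP (k - 1) (B.rel t (n + 1) (whitTup (n + 1) ε))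
  refine ratEquiv_zero_iff.1 (CycCommLib.ratEquiv_trans B.hP (B.rel_whitTup t hN rfl fun b a => (hε b).2.1 a) ?_)
  have hinv : PicF.IsInvertible O1 := B.hinv
  have hsupp := fun c => exists_rel_support B hN hE hP hE₁ hP₁ hE₂ a b hab hex hinv hS₁ hδ₁ (hε c) t
  choose z hz hzU hzR using hsupp
  obtain ⟨j, i₂, hj, hjc, hrange⟩ := exists_embedding hP hP₂ hab hex hinv
  have hzs : ∀ c, ∀ x ∉ Set.range j, z c x = 0 := fun c x hx => hzU c x (by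
    rw [hrange] at hx
    exact not_not.1 hx)
  have hmem : ∀ c : Fin (r₂ + 1), B.rel t r₁ (ε c) ∈ Cyc.Zk P B.δP (k - ((c : ℕ) : ℤ) - 1 + r₂) := fun c => by
    have := B.rel_mem t (hε c).2.1
    rwa [show k - ((c : ℕ) : ℤ) + (n : ℤ) - (r₁ : ℤ) = k - ((c : ℕ) : ℤ) - 1 + r₂ by omega] at this
  have hdeg : ∀ c : Fin (r₂ + 1), k - ((c : ℕ) : ℤ) - 1 + r₂ - ((r₂ - (c : ℕ) : ℕ) : ℤ) = k - 1 := fun c => by
    have := c.2; omega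
  cases r₂ with
  | zero =>
    haveI := isEmpty_of_rank_zero hE₂ hP₂
    refine ratEquiv_zero_iff.2 (Bun.ratEquivZero_finset_sum B.hP _ _ fun c _ => ratEquivZero_smul B.hP _ ?_)
    have h0 : z c = 0 := DFunLike.ext _ _ fun x => hzs c x fun ⟨y, _⟩ => IsEmpty.false y
    have h := B.caps_ratEquiv (hmem c) (hz c) t t (hzR c) (0 - (c : ℕ))
    rw [h0, B.caps_zero', hdeg] at h
    exact ratEquiv_zero_iff.1 h
  | succ n₂ =>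
    have hP₂' := isProjBundle_iso hP₂ i₂.symm
    obtain ⟨B₂, hX₂, hP₂δ⟩ := exists_bun' hE₂ hP₂' B.hX hS₂ hδ₂
    subst hP₂δ
    have hγ₂' := isChernCap_iso (p := p₂) B₂.hP B₂.hinv i₂.symm hγ₂
    rw [← hX₂] at hγ₂'
    obtain ⟨-, hg2, hg3⟩ := (B₂.isChernCap_iff _ _ _).1 hγ₂'
    have hjδ := B.deltaCompat_embedded B₂ hj hX₂
    let t₂ := pullSecs j B.hinv t
    have hterm : ∀ c : Fin (n₂ + 2), Cyc.RatEquiv B.δP (k - 1) (B.caps t (B.rel t r₁ (ε c)) (n₂ + 1 - (c : ℕ)))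
        (((-1 : ℤ) ^ r₁) • AlgebraicCycle.map j B₂.δP B.δP (B₂.caps t₂ (B₂.pull (γ₂ c)) (n₂ + 1 - (c : ℕ)))) := by
      intro c
      have hk : k - ((c : ℕ) : ℤ) - 1 + ((n₂ + 1 : ℕ) : ℤ) = k - ((c : ℕ) : ℤ) + n₂ := by push_cast; ring
      have h1 := B.rel_eq_push B₂ hj hX₂ (r := r₁) (by omega) (hε c).2.1 t (hk ▸ hz c) (hzs c) (hk ▸ hzR c)
      rw [(hε c).1, ← hk] at h1
      have hpm : AlgebraicCycle.map j B₂.δP B.δP (B₂.pull (γ₂ c)) ∈ Cyc.Zk P B.δP (k - ((c : ℕ) : ℤ) - 1 + ((n₂ + 1 : ℕ) : ℤ)) := by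
        rw [hk]
        exact map_mem_Zk j (B₂.pull_mem (hg2 c))
      have h2 := B.caps_ratEquiv (hmem c) (smul_mem_Zk _ hpm) t t h1 (n₂ + 1 - (c : ℕ))
      rwa [hdeg, B.caps_smul, ← B.map_caps_embedded B₂ hjδ] at h2
    refine CycCommLib.ratEquiv_trans B.hP
      (ratEquiv_finset_sum B.hP _ _ _ fun c _ => ratEquiv_smul B.hP _ (hterm c)) ?_
    have hsum : (∑ c : Fin (n₂ + 2), ((-1 : ℤ) ^ (n₂ + 1 - (c : ℕ))) • ((-1 : ℤ) ^ r₁) •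
        AlgebraicCycle.map j B₂.δP B.δP (B₂.caps t₂ (B₂.pull (γ₂ c)) (n₂ + 1 - (c : ℕ)))) =
        ((-1 : ℤ) ^ r₁) • AlgebraicCycle.map j B₂.δP B.δP (B₂.relCyc t₂ γ₂) := by
      rw [Bun.relCyc, map_finset_sum, Finset.smul_sum, ← Equiv.sum_comp Fin.revPerm (fun c => _ • _)]
      refine Finset.sum_congr rfl fun c _ => ?_
      have hc : n₂ + 1 - ((Fin.rev c : Fin (n₂ + 2)) : ℕ) = (c : ℕ) := by
        have := c.2
        rw [Fin.val_rev]; omega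
      simp only [Fin.revPerm_apply, hc, map_zsmul]
      rw [smul_comm]
    rw [hsum]
    refine ratEquiv_zero_iff.2 (ratEquivZero_smul B.hP _ (ratEquiv_zero_iff.1 ?_))
    have h := CycPushLib.ratEquiv_map B₂.hP B.hP j hjδ (ratEquiv_zero_iff.2 (hg3 t₂))
    rwa [show AlgebraicCycle.map j B₂.δP B.δP 0 = 0 from
      (AddMonoidHom.ofMapSub (AlgebraicCycle.map j B₂.δP B.δP) (CycSeqLib.cycMap_sub j _ _)).map_zero] at h

/-- The sum formula. -/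
theorem ratEquiv_whitney [IsProper p] [IsProper p₁] [IsProper p₂] {δ : X → ℤ} {δP : P → ℤ} {δ₁ : P₁ → ℤ}
    {δ₂ : P₂ → ℤ} (hX : Cyc.IsSetup X δ) (hPs : Cyc.IsSetup P δP) (hS₁ : Cyc.IsSetup P₁ δ₁) (hS₂ : Cyc.IsSetup P₂ δ₂)
    (hδ : Cyc.DeltaCompat p δP δ) (hδ₁ : Cyc.DeltaCompat p₁ δ₁ δ) (hδ₂ : Cyc.DeltaCompat p₂ δ₂ δ)
    {N : ℕ} (hN : r₁ + r₂ = N) (hE : FlatMod.IsFinLocFreeOfRank N E) (hP : KRR.IsProjBundle p E O1 q)
    (hE₁ : FlatMod.IsFinLocFreeOfRank r₁ E₁) (hP₁ : KRR.IsProjBundle p₁ E₁ O₁ q₁)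
    (hE₂ : FlatMod.IsFinLocFreeOfRank r₂ E₂) (hP₂ : KRR.IsProjBundle p₂ E₂ O₂ q₂)
    (a : E₁ ⟶ E) (b : E ⟶ E₂) (hab : a ≫ b = 0) (hex : (ShortComplex.mk a b hab).ShortExact)
    {k : ℤ} {α : AlgebraicCycle X ℤ} {γ₂ : Fin (r₂ + 1) → AlgebraicCycle X ℤ}
    (hγ₂ : Cyc.IsChernCap p₂ δ δ₂ O₂ r₂ k α γ₂) {ε : Fin (r₂ + 1) → Fin (r₁ + 1) → AlgebraicCycle X ℤ}
    (hε : ∀ b : Fin (r₂ + 1), Cyc.IsChernCap p₁ δ δ₁ O₁ r₁ (k - ((b : ℕ) : ℤ)) (γ₂ b) (ε b))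
    {γ : Fin (N + 1) → AlgebraicCycle X ℤ} (hγ : Cyc.IsChernCap p δ δP O1 N k α γ) (j : Fin (N + 1)) :
    Cyc.RatEquiv δ (k - ((j : ℕ) : ℤ)) (γ j) (whitTup N ε j) := by
  have h := isChernCap_whitney hX hPs hS₁ hS₂ hδ hδ₁ hδ₂ hN hE hP hE₁ hP₁ hE₂ hP₂ a b hab hex hγ₂ hε
  cases N with
  | zero =>
    obtain rfl : j = 0 := Fin.ext (by omega)
    rw [hγ.1, h.1]
    exact CycCommLib.ratEquiv_refl _
  | succ n =>
    obtain ⟨B, rfl, rfl⟩ := exists_bun' hE hP hX hPs hδ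
    exact B.chern_unique (CycCommLib.ratEquiv_refl _) hγ h j

end CycPBLib

end
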