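import Mathlib
import Groth.Agent.CycPBLib.Func
import Groth.Agent.S1922

/-!
# Chern caps commute with first Chern classes
-/

set_option autoImplicit false
set_option linter.style.haveILetI false
set_option linter.unusedSectionVars false

universe u

open AlgebraicGeometry CategoryTheory CategoryTheory.Limits Opposite

noncomputable section

namespace CycPBLib

open CycC1Lib (pbFib capCyc)

variable {X P : Scheme.{u}} {p : P ⟶ X} {O1 : P.Modules} {n : ℕ}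

theorem cap_sum {Z : Scheme.{u}} {δ : Z → ℤ} (hZ : Cyc.IsSetup Z δ) {L : Z.Modules} (hL : PicF.IsInvertible L)
    {s : (ξ : Z) → Cyc.secFibre L ξ} (hs : ∀ ξ, s ξ ≠ 0) {ι : Type*} (S : Finset ι) (c : ι → ℤ)
    (D : ι → AlgebraicCycle Z ℤ) :
    capCyc hZ hL (∑ a ∈ S, c a • D a) hs = ∑ a ∈ S, c a • capCyc hZ hL (D a) hs :=
  DFunLike.ext _ _ fun z => by
    show Cyc.c1CapFun δ L ⇑(∑ a ∈ S, c a • D a) s z = _
    rw [Bun.cyc_sum_apply, CycCommLib.c1CapFun_comb (δ := δ) S c D ⇑(∑ a ∈ S, c a • D a) fun ξ _ =>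
      (Bun.cyc_sum_apply S _ ξ).trans (Finset.sum_congr rfl fun a _ => smul_apply _ _ _)]
    refine Finset.sum_congr rfl fun a _ => ?_
    rw [smul_apply]
    rfl

namespace Bun

variable (B : Bun p O1 n)

/-- An invertible cap commutes with the iterated caps of `O(1)`. -/
theorem cap_caps_comm {M : P.Modules} (hM : PicF.IsInvertible M) {w : (ξ : P) → Cyc.secFibre M ξ}
    (hw : ∀ ξ, w ξ ≠ 0) {m : ℤ} {D : AlgebraicCycle P ℤ} (hD : D ∈ Cyc.Zk P B.δP m) (t : Secs O1) :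
    ∀ i : ℕ, Cyc.RatEquiv B.δP (m - i - 1) (capCyc B.hP hM (B.caps t D i) hw)
      (B.caps t (capCyc B.hP hM D hw) i)
  | 0 => CycCommLib.ratEquiv_refl _
  | i + 1 => by
    have hi : B.caps t D i ∈ Cyc.Zk P B.δP (m - (i + 1 : ℕ) - 1 + 2) := by
      have := B.caps_mem t hD i
      rwa [show (m - (i : ℕ) : ℤ) = m - (i + 1 : ℕ) - 1 + 2 by push_cast; ring] at this
    have h1 := Groth.Agent.S1922.result P B.δP B.hP M O1 hM B.hinv _ (B.caps t D i) hi w w (t.t i) (t.t i)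
      hw hw (t.ne i) (t.ne i) (capCyc B.hP hM (B.caps t D (i + 1)) hw)
      (capCyc B.hP B.hinv (capCyc B.hP hM (B.caps t D i) hw) (t.ne i)) rfl rfl
    refine CycCommLib.ratEquiv_trans B.hP h1 ?_
    have IH := cap_caps_comm hM hw hD t i
    have hk : (m - (i : ℕ) - 1 : ℤ) = m - (i + 1 : ℕ) - 1 + 1 := by push_cast; ring
    rw [hk] at IH
    refine CycCommLib.c1Cap_congr B.hP B.hinv ?_ ?_ IH (t.ne i) (t.ne i) rfl (B.caps_succ t _ i)
    · refine CycCommLib.capCyc_mem_Zk B.hP hM ?_ hw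
      rw [show (m - (i + 1 : ℕ) - 1 + 1 + 1 : ℤ) = m - (i + 1 : ℕ) - 1 + 2 by ring]
      exact hi
    · have hD' : capCyc B.hP hM D hw ∈ Cyc.Zk P B.δP (m - 1) :=
        CycCommLib.capCyc_mem_Zk B.hP hM (by rwa [sub_add_cancel]) hw
      have := B.caps_mem t hD' i
      rwa [show (m - 1 - (i : ℕ) : ℤ) = m - (i + 1 : ℕ) - 1 + 1 by push_cast; ring] at this

/-- The cap of a relation is the relation of the caps. -/
theorem relCyc_cap {L : X.Modules} (hL : PicF.IsInvertible L) {v : (η : X) → Cyc.secFibre L η}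
    (hv : ∀ η, v η ≠ 0) {k : ℤ} {γ : Fin (n + 2) → AlgebraicCycle X ℤ}
    (hγ : ∀ j : Fin (n + 2), γ j ∈ Cyc.Zk X B.δX (k - ((j : ℕ) : ℤ))) (t : Secs O1)
    (h : Cyc.RatEquivZero B.δP (k - 1) (B.relCyc t γ)) :
    Cyc.RatEquivZero B.δP (k - 1 - 1) (B.relCyc t fun j => capCyc B.hX hL (γ j) hv) := by
  haveI := B.flat
  let M := (Scheme.Modules.pullback p).obj L
  have hM : PicF.IsInvertible M := AmpleDevLib.isInvertible_pb p hL
  let w : (ξ : P) → Cyc.secFibre M ξ := fun ξ => pbFib p L ξ (v (p ξ))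
  have hw : ∀ ξ, w ξ ≠ 0 := fun ξ => CycC1Lib.pbFib_ne_zero p hL (hv _)
  have hpull : ∀ j, B.pull (capCyc B.hX hL (γ j) hv) = capCyc B.hP hM (B.pull (γ j)) hw := fun j =>
    DFunLike.coe_injective (CycC1Lib.pullFun_c1Cap p B.hP B.hX B.hgen hL (γ j) hv)
  have hrel : Cyc.RatEquivZero B.δP (k - 1 - 1) (capCyc B.hP hM (B.relCyc t γ) hw) := by
    refine CycCommLib.c1Cap_ratEquivZero B.hP hM ?_ ((sub_add_cancel (k - 1) 1).symm ▸ h) hw rfl
    rw [sub_add_cancel]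
    intro z hz
    rw [relCyc, cyc_sum_apply]
    exact Finset.sum_eq_zero fun i _ => smul_mem_Zk _ (B.term_mem t hγ i) z hz
  rw [relCyc, cap_sum] at hrel
  simp only [relCyc, hpull]
  have hd : ∀ i : Fin (n + 2), Cyc.RatEquiv B.δP (k - 1 - 1)
      (capCyc B.hP hM (B.caps t (B.pull (γ (Fin.rev i))) (i : ℕ)) hw)
      (B.caps t (capCyc B.hP hM (B.pull (γ (Fin.rev i))) hw) (i : ℕ)) := fun i => by
    have := B.cap_caps_comm hM hw (B.pull_mem (hγ (Fin.rev i))) t (i : ℕ)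
    rwa [show k - ((Fin.rev i : Fin (n + 2)) : ℕ) + (n : ℤ) - (i : ℕ) - 1 = k - 1 - 1 by
      have := i.2; rw [Fin.val_rev]; omega] at this
  have hsum : Cyc.RatEquivZero B.δP (k - 1 - 1) (∑ i : Fin (n + 2), ((-1 : ℤ) ^ (i : ℕ)) •
      (B.caps t (capCyc B.hP hM (B.pull (γ (Fin.rev i))) hw) (i : ℕ) -
        capCyc B.hP hM (B.caps t (B.pull (γ (Fin.rev i))) (i : ℕ)) hw)) := by
    classical
    clear hrel
    induction (Finset.univ : Finset (Fin (n + 2))) using Finset.induction_on with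
    | empty => exact CycCommLib.ratEquivZero_of_forall_eq_zero fun _ => by simp
    | insert a S ha IH =>
      rw [Finset.sum_insert ha]
      exact CycCommLib.ratEquivZero_add B.hP
        (ratEquivZero_smul B.hP _ (CycCommLib.ratEquiv_symm B.hP (hd a))) IH fun _ => rfl
  refine CycCommLib.ratEquivZero_add B.hP hsum hrel fun z => ?_
  simp only [smul_sub, Finset.sum_sub_distrib]
  exact (sub_add_cancel _ _).symm

/-- Capping a Chern tuple with a first Chern class. -/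
theorem isChernCap_cap {L : X.Modules} (hL : PicF.IsInvertible L) {v : (η : X) → Cyc.secFibre L η}
    (hv : ∀ η, v η ≠ 0) {k : ℤ} {α : AlgebraicCycle X ℤ} {γ : Fin (n + 2) → AlgebraicCycle X ℤ}
    (hγ : Cyc.IsChernCap p B.δX B.δP O1 (n + 1) k α γ) :
    Cyc.IsChernCap p B.δX B.δP O1 (n + 1) (k - 1) (capCyc B.hX hL α hv)
      fun j => capCyc B.hX hL (γ j) hv := by
  obtain ⟨h1, h2, h3⟩ := (B.isChernCap_iff _ _ _).1 hγ
  refine (B.isChernCap_iff _ _ _).2 ⟨by rw [h1], fun j => ?_, fun t => ?_⟩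
  · refine CycCommLib.capCyc_mem_Zk B.hX hL ?_ hv
    rw [show k - 1 - ((j : ℕ) : ℤ) + 1 = k - ((j : ℕ) : ℤ) by ring]
    exact h2 j
  · exact B.relCyc_cap hL hv h2 t (h3 t)

/-- Linear combinations of Chern tuples. -/
theorem isChernCap_sum {k : ℤ} {ι : Type*} (S : Finset ι) (c : ι → ℤ) (α : ι → AlgebraicCycle X ℤ)
    (γ : ι → Fin (n + 2) → AlgebraicCycle X ℤ)
    (hγ : ∀ a ∈ S, Cyc.IsChernCap p B.δX B.δP O1 (n + 1) k (α a) (γ a)) :
    Cyc.IsChernCap p B.δX B.δP O1 (n + 1) k (∑ a ∈ S, c a • α a) fun j => ∑ a ∈ S, c a • γ a j := by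
  refine (B.isChernCap_iff _ _ _).2 ⟨Finset.sum_congr rfl fun a ha => by rw [(hγ a ha).1], fun j z hz => ?_,
    fun t => ?_⟩
  · rw [cyc_sum_apply]
    exact Finset.sum_eq_zero fun a ha => smul_mem_Zk _ ((hγ a ha).2.1 j) z hz
  have e : B.relCyc t (fun j => ∑ a ∈ S, c a • γ a j) = ∑ a ∈ S, c a • B.relCyc t (γ a) := by
    simp only [relCyc]
    have hpull : ∀ j, B.pull (∑ a ∈ S, c a • γ a j) = ∑ a ∈ S, c a • B.pull (γ a j) := fun j =>
      DFunLike.ext _ _ fun z => by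
        simp only [B.pull_apply, cyc_sum_apply, smul_apply]
        split_ifs
        · rfl
        · simp
    simp only [hpull, B.caps_lin, Finset.smul_sum, smul_comm (c _)]
    exact Finset.sum_comm
  rw [e]
  exact ratEquivZero_finset_sum B.hP S _ fun a ha =>
    ratEquivZero_smul B.hP _ (((B.isChernCap_iff _ _ _).1 (hγ a ha)).2.2 t)

end Bun

variable {Q R : Scheme.{u}} {p' : Q ⟶ X} {O1' : Q.Modules} {m : ℕ} {q₁ : R ⟶ Q} {q₂ : R ⟶ P}

/-- Chern classes of two bundles commute. -/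
theorem isChernCap_comm [IsProper p] [IsProper p'] [IsProper q₂] (hsq : IsPullback q₁ q₂ p' p) (BE : Bun p O1 n)
    (BF : Bun p' O1' m) (BR : Bun q₂ ((Scheme.Modules.pullback q₁).obj O1') m) (hδ : BE.δX = BF.δX)
    (hδR : BR.δX = BE.δP) {k : ℤ} {γ : Fin (n + 2) → AlgebraicCycle X ℤ} {α : AlgebraicCycle X ℤ}
    (hγ : Cyc.IsChernCap p BE.δX BE.δP O1 (n + 1) k α γ)
    (Ψ : Fin (n + 2) → Fin (m + 2) → AlgebraicCycle X ℤ)
    (hΨ : ∀ a : Fin (n + 2), Cyc.IsChernCap p' BF.δX BF.δP O1' (m + 1) (k - ((a : ℕ) : ℤ)) (γ a) (Ψ a))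
    (b : Fin (m + 2)) :
    Cyc.IsChernCap p BE.δX BE.δP O1 (n + 1) (k - ((b : ℕ) : ℤ)) (Ψ 0 b) fun a => Ψ a b := by
  haveI := BE.flat
  obtain ⟨hγ0, hγm, hγr⟩ := (BE.isChernCap_iff _ _ _).1 hγ
  have hf : Cyc.DeltaCompat p BR.δX BF.δX := by rw [hδR, ← hδ]; exact BE.hδ
  have hmem : ∀ a : Fin (n + 2), Ψ a b ∈ Cyc.Zk X BE.δX (k - ((b : ℕ) : ℤ) - ((a : ℕ) : ℤ)) := fun a => by
    rw [hδ, show k - ((b : ℕ) : ℤ) - ((a : ℕ) : ℤ) = k - ((a : ℕ) : ℤ) - ((b : ℕ) : ℤ) by ring]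
    exact (hΨ a).2.1 b
  refine (BE.isChernCap_iff _ _ _).2 ⟨rfl, hmem, fun t => ?_⟩
  -- tuples of the pulled back classes
  have hpull : ∀ a : Fin (n + 2), Cyc.IsChernCap q₂ BR.δX BR.δP ((Scheme.Modules.pullback q₁).obj O1') (m + 1)
      (k - ((a : ℕ) : ℤ) + n) (BE.pull (γ a)) fun l => BE.pull (Ψ a l) := fun a => by
    refine isChernCap_pull BF BR hsq hf n BE.relDim (hΨ a) ?_ fun l => ?_ <;> rw [hδR, ← hδ] <;> rfl
  have hcaps : ∀ (i : ℕ) (a : Fin (n + 2)), Cyc.IsChernCap q₂ BR.δX BR.δP ((Scheme.Modules.pullback q₁).obj O1')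
      (m + 1) (k - ((a : ℕ) : ℤ) + n - i) (BE.caps t (BE.pull (γ a)) i)
        fun l => BE.caps t (BE.pull (Ψ a l)) i := by
    intro i a
    induction i with
    | zero => simpa [Bun.caps] using hpull a
    | succ i IH =>
      have h := BR.isChernCap_cap BE.hinv (v := t.t i) (t.ne i) IH
      rw [show k - ((a : ℕ) : ℤ) + n - ((i + 1 : ℕ) : ℤ) = k - ((a : ℕ) : ℤ) + n - i - 1 by push_cast; ring]
      have key : ∀ D : AlgebraicCycle P ℤ, ∀ i : ℕ,
          CycC1Lib.capCyc BR.hX BE.hinv (BE.caps t D i) (t.ne i) = BE.caps t D (i + 1) := fun D i =>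
        DFunLike.coe_injective (by rw [BE.caps_succ, ← hδR]; rfl)
      simpa only [key] using h
  have hterm : ∀ i ∈ (Finset.univ : Finset (Fin (n + 2))), Cyc.IsChernCap q₂ BR.δX BR.δP
      ((Scheme.Modules.pullback q₁).obj O1') (m + 1) (k - 1) (BE.caps t (BE.pull (γ (Fin.rev i))) (i : ℕ))
        fun l => BE.caps t (BE.pull (Ψ (Fin.rev i) l)) (i : ℕ) := fun i _ => by
    have h := hcaps (i : ℕ) (Fin.rev i)
    rwa [show k - ((Fin.rev i : Fin (n + 2)) : ℕ) + (n : ℤ) - (i : ℕ) = k - 1 by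
      have := i.2; rw [Fin.val_rev]; omega] at h
  obtain ⟨h1, h2, h3⟩ := (BR.isChernCap_iff _ _ _).1
    (BR.isChernCap_sum Finset.univ (fun i : Fin (n + 2) => (-1 : ℤ) ^ (i : ℕ)) _ _ hterm)
  have h0 := hγr t
  rw [← hδR] at h0
  have key := BR.chern_zero h2 (h1.symm ▸ h0) BR.std (h3 _) b
  rw [hδR, show k - 1 - ((b : ℕ) : ℤ) = k - ((b : ℕ) : ℤ) - 1 by ring] at key
  exact key

end CycPBLib

end
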