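import Mathlib
import Groth.Agent.CycPBLib.WhitGeom
import Groth.Agent.CycPBLib.Comm
import Groth.Agent.CohCmpLib.Eps

/-!
# One step of the support argument for filtered bundles
-/

set_option autoImplicit false
set_option linter.style.haveILetI false
set_option linter.unusedSectionVars false

universe u

open AlgebraicGeometry CategoryTheory CategoryTheory.Limits
open AmpleLib (res GenOn GenAt)
open KFlatLib (pb puSec)
open CycC1Lib (fib pbFib capCyc)

noncomputable section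

namespace CycPBLib

theorem fib_germ_eq_zero_iff {Z : Scheme.{u}} {M : Z.Modules} (hM : PicF.IsInvertible M) {W : Z.Opens}
    (σ : Γ(M, W)) {x : Z} (hx : x ∈ W) : fib M (M.presheaf.germ W x hx σ) = 0 ↔ ¬ GenAt M σ hx := by
  obtain ⟨V, e, hV, he⟩ := TwistLib.exists_genOn hM x
  obtain ⟨r, hr⟩ := (he.genAt hV).2 (M.presheaf.germ W x hx σ)
  dsimp only at hr
  have hiff : GenAt M σ hx ↔ IsUnit r := by
    rw [GenAt]
    simp only [← hr, smul_smul]
    constructor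
    · intro h
      obtain ⟨c, hc⟩ := h.2 (M.presheaf.germ V x hV e)
      refine isUnit_iff_exists_inv'.2 ⟨c, (he.genAt hV).1 ?_⟩
      dsimp only at hc ⊢
      rw [hc, one_smul]
    · exact fun h => (he.genAt hV).comp h.unit.mulRight.bijective
  rw [hiff, ← hr, show fib M (r • M.presheaf.germ V x hV e) = r • fib M (M.presheaf.germ V x hV e) from
    Submodule.Quotient.mk_smul _ _ _, CycC1Lib.fib_smul_eq_zero_iff (he.genAt hV)]
  exact (IsLocalRing.residue_eq_zero_iff r).trans ((IsLocalRing.mem_maximalIdeal r).trans Iff.rfl)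

variable {X P : Scheme.{u}} {p : P ⟶ X} {O1 : P.Modules} {E M M' L : X.Modules} (q : pb p E ⟶ O1)

/-- The section of `O(1)` of a local section of a module over `E`. -/
def sg (g : M ⟶ E) {W : X.Opens} (m : Γ(M, W)) : Γ(O1, p ⁻¹ᵁ W) := q.app (p ⁻¹ᵁ W) (puSec p (g.app W m))

variable (g : M ⟶ E)

theorem sg_res {V W : X.Opens} (h : V ≤ W) (m : Γ(M, W)) :
    sg q g (res M h m) = res O1 (p.preimage_mono h) (sg q g m) := by
  unfold sg
  rw [show g.app V (res M h m) = res E h (g.app W m) from QCohLib.app_map g (homOfLE h) m, TwistLib.puSec_res]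
  exact QCohLib.app_map q (homOfLE (p.preimage_mono h)) _

theorem sg_smul {W : X.Opens} (c : Γ(X, W)) (m : Γ(M, W)) : sg q g (c • m) = p.app W c • sg q g m := by
  unfold sg
  rw [QCohLib.app_smul, TwistLib.puSec_smul, QCohLib.app_smul]

theorem sg_add {W : X.Opens} (m m' : Γ(M, W)) : sg q g (m + m') = sg q g m + sg q g m' := by
  unfold sg
  rw [map_add, show puSec p (g.app W m + g.app W m') = puSec p (g.app W m) + puSec p (g.app W m') from
    map_add (((Scheme.Modules.pullbackPushforwardAdjunction p).unit.app E).app W).hom _ _, map_add]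

variable {a : M' ⟶ M} {b : M ⟶ L} {hab : a ≫ b = 0} (hex : (ShortComplex.mk a b hab).ShortExact)
  (hinv : PicF.IsInvertible O1)

include hex hinv in
/-- Off the previous open set, the section only depends on the image in the graded piece. -/
theorem fib_sg_eq {W W' W'' : X.Opens} (h : W'' ≤ W) (h' : W'' ≤ W') (m : Γ(M, W)) (m' : Γ(M, W'))
    (c : Γ(X, W'')) (hc : res L h' (b.app W' m') = c • res L h (b.app W m))
    {ξ : P} (hξ : ξ ∈ p ⁻¹ᵁ W'') (hnot : ξ ∉ genOpen q (a ≫ g) hinv) :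
    fib O1 (O1.presheaf.germ (p ⁻¹ᵁ W') ξ (h' hξ) (sg q g m')) =
      P.presheaf.germ (p ⁻¹ᵁ W'') ξ hξ (p.app W'' c) •
        fib O1 (O1.presheaf.germ (p ⁻¹ᵁ W) ξ (h hξ) (sg q g m)) := by
  haveI := hex.mono_f
  have hker : b.app W'' (res M h' m' - c • res M h m) = 0 := by
    rw [map_sub, QCohLib.app_smul, show b.app W'' (res M h' m') = res L h' (b.app W' m') from
      QCohLib.app_map b (homOfLE h') m', show b.app W'' (res M h m) = res L h (b.app W m) from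
      QCohLib.app_map b (homOfLE h) m, hc, sub_self]
  obtain ⟨y, hy⟩ := QCohLib.exists_of_app_eq_zero hex.exact hex.mono_f _ hker
  have h0 : fib O1 (O1.presheaf.germ (p ⁻¹ᵁ W'') ξ hξ (sg q g (a.app W'' y))) = 0 := by
    rw [fib_germ_eq_zero_iff hinv]
    exact fun hgen => hnot (mem_genOpen.2 ⟨W'', y, hξ, hgen⟩)
  have h1 : sg q g (res M h' m') = p.app W'' c • sg q g (res M h m) + sg q g (a.app W'' y) := by
    rw [← sg_smul, ← sg_add]
    exact congrArg (sg q g) ((congrArg (c • res M h m + ·) hy).trans (add_sub_cancel _ _)).symm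
  have h2 := congrArg (fun s => fib O1 (O1.presheaf.germ (p ⁻¹ᵁ W'') ξ hξ s)) h1
  simp only [sg_res, AmpleLib.germ_res] at h2
  rw [h2, map_add, AmpleLib.germ_smul, AmpleLib.germ_res,
    show ∀ u v : O1.presheaf.stalk ξ, fib O1 (u + v) = fib O1 u + fib O1 v from fun _ _ => Submodule.Quotient.mk_add _,
    h0, add_zero]
  exact Submodule.Quotient.mk_smul _ _ _

include hex hinv in
/-- A lift of a generator of the graded piece generates. -/
theorem genAt_sg_lift {W : X.Opens} (m : Γ(M, W)) (he : GenOn L (b.app W m)) {ξ : P} (hξ : ξ ∈ p ⁻¹ᵁ W)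
    (hnot : ξ ∉ genOpen q (a ≫ g) hinv) (hmem : ξ ∈ genOpen q g hinv) : GenAt O1 (sg q g m) hξ := by
  obtain ⟨W', m', hξ', hgen⟩ := mem_genOpen.1 hmem
  obtain ⟨c, hc⟩ := (he (W ⊓ W') inf_le_left).2 (res L inf_le_right (b.app W' m'))
  by_contra hno
  have h := fib_sg_eq q g hex hinv inf_le_left inf_le_right m m' c hc.symm (ξ := ξ) ⟨hξ, hξ'⟩ hnot
  rw [(fib_germ_eq_zero_iff hinv _ hξ).2 hno, smul_zero] at h
  exact (fib_germ_eq_zero_iff hinv _ hξ').1 h hgen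

include hex hinv in
/-- One step: the difference of the two caps moves the support into the next closed set. -/
theorem exists_step {δP : P → ℤ} (hPs : Cyc.IsSetup P δP) (hL : PicF.IsInvertible L) {k : ℤ}
    {D : AlgebraicCycle P ℤ} (hD : D ∈ Cyc.Zk P δP (k + 1)) (hsupp : ∀ ξ ∈ genOpen q (a ≫ g) hinv, D ξ = 0)
    {s : (ξ : P) → Cyc.secFibre O1 ξ} (hs : ∀ ξ, s ξ ≠ 0)
    {w : (ξ : P) → Cyc.secFibre (pb p L) ξ} (hw : ∀ ξ, w ξ ≠ 0) :
    ∃ D', D' ∈ Cyc.Zk P δP k ∧ (∀ x ∈ genOpen q g hinv, D' x = 0) ∧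
      Cyc.RatEquiv δP k
        (capCyc hPs hinv D hs - capCyc hPs (AmpleDevLib.isInvertible_pb p hL) D hw) D' := by
  classical
  haveI := hex.epi_g
  have hLp := AmpleDevLib.isInvertible_pb p hL
  have hlift : ∀ y : X, ∃ (W : X.Opens) (m : Γ(M, W)), y ∈ W ∧ GenOn L (b.app W m) := fun y => by
    obtain ⟨V, e, hV, he⟩ := TwistLib.exists_genOn hL y
    obtain ⟨W, hW, hyW, m, hm⟩ := CohCmpLib.exists_local_lift b e hV
    refine ⟨W, m, hyW, ?_⟩
    rw [hm]
    exact he.res hW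
  choose W m hW he using hlift
  let Tset : Set P := {ξ | ξ ∉ genOpen q (a ≫ g) hinv ∧ ξ ∈ genOpen q g hinv}
  let sO : (ξ : P) → Cyc.secFibre O1 ξ := fun ξ =>
    if ξ ∈ Tset then fib O1 (O1.presheaf.germ (p ⁻¹ᵁ W (p ξ)) ξ (hW (p ξ)) (sg q g (m (p ξ)))) else s ξ
  let sL : (ξ : P) → Cyc.secFibre (pb p L) ξ := fun ξ =>
    if ξ ∈ Tset then pbFib p L ξ (fib L (L.presheaf.germ (W (p ξ)) (p ξ) (hW (p ξ)) (b.app _ (m (p ξ))))) else w ξ
  have hsO : ∀ ξ, sO ξ ≠ 0 := fun ξ => by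
    simp only [sO]
    split_ifs with h
    · exact fun h0 => (fib_germ_eq_zero_iff hinv _ _).1 h0
        (genAt_sg_lift q g hex hinv (m (p ξ)) (he _) (hW (p ξ)) h.1 h.2)
    · exact hs ξ
  have hsL : ∀ ξ, sL ξ ≠ 0 := fun ξ => by
    simp only [sL]
    split_ifs with h
    · exact CycC1Lib.pbFib_ne_zero p hL fun h0 => (fib_germ_eq_zero_iff hL _ _).1 h0 ((he _).genAt _)
    · exact hw ξ
  refine ⟨capCyc hPs hinv D hsO - capCyc hPs hLp D hsL, ?_, ?_, ?_⟩
  · exact fun z hz => by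
      show capCyc hPs hinv D hsO z - capCyc hPs hLp D hsL z = 0
      rw [CycCommLib.capCyc_mem_Zk hPs hinv hD hsO z hz, CycCommLib.capCyc_mem_Zk hPs hLp hD hsL z hz, sub_zero]
  · intro x hx
    show Cyc.c1CapFun δP O1 ⇑D sO x - Cyc.c1CapFun δP (pb p L) ⇑D sL x = 0
    obtain ⟨S, hS⟩ := CycC1Lib.exists_finset_generizations D x
    rw [CycC1Lib.c1CapFun_eq_sum hS, CycC1Lib.c1CapFun_eq_sum hS, sub_eq_zero]
    refine Finset.sum_congr rfl fun ξ _ => ?_
    by_cases hξ0 : D ξ = 0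
    · rw [hξ0, zero_mul, zero_mul]
    by_cases hsp : ξ ⤳ x
    swap
    · rw [CycC1Lib.secDivFun_eq_zero_of_not fun h => hsp h.1, CycC1Lib.secDivFun_eq_zero_of_not fun h => hsp h.1]
    have hξT : ξ ∈ Tset := ⟨fun h => hξ0 (hsupp ξ h), hsp.mem_open (genOpen q g hinv).isOpen hx⟩
    have hxnot : x ∉ genOpen q (a ≫ g) hinv := fun h => hξT.1 (hsp.mem_open (genOpen q (a ≫ g) hinv).isOpen h)
    let W₀ := W (p x)
    let m₀ := m (p x)
    have hx₀ : x ∈ p ⁻¹ᵁ W₀ := hW (p x)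
    have hgx := genAt_sg_lift q g hex hinv m₀ (he _) hx₀ hxnot hx
    have hxD : x ∈ genLocus' (sg q g m₀) hinv := ⟨hx₀, hgx⟩
    have hξD : ξ ∈ genLocus' (sg q g m₀) hinv := hsp.mem_open (genLocus' (sg q g m₀) hinv).isOpen hxD
    have hξ₀ : ξ ∈ p ⁻¹ᵁ W₀ := hξD.1
    obtain ⟨c, hc⟩ := ((he (p x)) (W₀ ⊓ W (p ξ)) inf_le_left).2 (res L inf_le_right (b.app _ (m (p ξ))))
    have hξ2 : ξ ∈ p ⁻¹ᵁ (W₀ ⊓ W (p ξ)) := ⟨hξ₀, hW (p ξ)⟩
    let φ : P.presheaf.stalk ξ := P.presheaf.germ (p ⁻¹ᵁ (W₀ ⊓ W (p ξ))) ξ hξ2 (p.app _ c)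
    have eO : sO ξ = φ • fib O1 (O1.presheaf.germ (genLocus' (sg q g m₀) hinv) ξ hξD
        (res O1 (genLocus'_le _ hinv) (sg q g m₀))) := by
      simp only [sO, if_pos hξT]
      rw [AmpleLib.germ_res]
      exact fib_sg_eq q g hex hinv inf_le_left inf_le_right m₀ (m (p ξ)) c hc.symm hξ2 hξT.1
    have eL : sL ξ = φ • fib (pb p L) ((pb p L).presheaf.germ (p ⁻¹ᵁ W₀) ξ hξ₀ (puSec p (b.app W₀ m₀))) := by
      simp only [sL, if_pos hξT]
      refine (CycC1Lib.pbFib_coord p (show p ξ ∈ W₀ from hξ₀) ((he (p x)).genAt _)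
        (φ := X.presheaf.germ (W₀ ⊓ W (p ξ)) (p ξ) hξ2 c) ?_).trans ?_
      · rw [← AmpleLib.germ_res L (inf_le_right : W₀ ⊓ W (p ξ) ≤ W (p ξ)) _ (x := p ξ) hξ2, ← hc,
          AmpleLib.germ_smul, AmpleLib.germ_res]
        exact Submodule.Quotient.mk_smul _ _ _
      · exact congrArg (· • _) (Scheme.Hom.germ_stalkMap_apply p _ ξ hξ2 c)
    rw [CycC1Lib.secDivFun_eq_divFun hPs (genLocus'_genOn _ hinv) hxD hξD eO,
      CycC1Lib.secDivFun_eq_divFun hPs (TwistLib.genOn_of_genAt fun z hz => TwistLib.GenAt.puSec p ((he (p x)).genAt hz))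
        hx₀ hξ₀ eL]
  · show Cyc.RatEquivZero _ _ _
    refine CycCommLib.ratEquivZero_add hPs
      (CycC1Lib.ratEquiv_c1Cap hPs hinv D hD hs hsO (capCyc hPs hinv D hs) (capCyc hPs hinv D hsO) rfl rfl)
      (CycC1Lib.ratEquiv_c1Cap hPs hLp D hD hsL hw (capCyc hPs hLp D hsL) (capCyc hPs hLp D hw) rfl rfl) fun z => ?_
    show Cyc.c1CapFun δP O1 ⇑D s z - Cyc.c1CapFun δP (pb p L) ⇑D w z -
        (Cyc.c1CapFun δP O1 ⇑D sO z - Cyc.c1CapFun δP (pb p L) ⇑D sL z) =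
      (Cyc.c1CapFun δP O1 ⇑D s z - Cyc.c1CapFun δP O1 ⇑D sO z) +
        (Cyc.c1CapFun δP (pb p L) ⇑D sL z - Cyc.c1CapFun δP (pb p L) ⇑D w z)
    ring

end CycPBLib

end
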