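import Mathlib
import Groth.Agent.CycPBLib.FiltStep
import Groth.Agent.CycPBLib.WhitClass

/-!
# Filtered bundles
-/

set_option autoImplicit false
set_option linter.style.haveILetI false
set_option linter.unusedSectionVars false

universe u

open AlgebraicGeometry CategoryTheory CategoryTheory.Limits
open KFlatLib (pb puSec)
open CycC1Lib (pbFib capCyc)

noncomputable section

namespace CycPBLib

variable {X P : Scheme.{u}} {p : P ⟶ X} {O1 : P.Modules} {E : X.Modules} {n : ℕ}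

theorem genOpen_eq_bot_of_zero {M : X.Modules} (q : pb p E ⟶ O1) (hinv : PicF.IsInvertible O1) {g : M ⟶ E}
    (hg : g = 0) : genOpen q g hinv = ⊥ := by
  refine le_bot_iff.1 fun z hz => ?_
  obtain ⟨W, m, hzW, hgen⟩ := mem_genOpen.1 hz
  subst hg
  rw [show q.app (p ⁻¹ᵁ W) (puSec p ((0 : M ⟶ E).app W m)) = 0 from
    (congrArg (q.app _) (map_zero (((Scheme.Modules.pullbackPushforwardAdjunction p).unit.app E).app W).hom)).trans
      (map_zero _)] at hgen
  exact (not_genAt_zero _ hgen).elim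

theorem genOpen_eq_top_of_iso {M : X.Modules} {q : pb p E ⟶ O1} [Epi q] (hinv : PicF.IsInvertible O1) (g : M ≅ E)
    (hE : FlatMod.IsFinLocFreeOfRank (n + 1) E) : genOpen q g.hom hinv = ⊤ := by
  refine eq_top_iff.2 fun z _ => ?_
  obtain ⟨U, hzU, ⟨φ⟩⟩ := hE (p z)
  obtain ⟨k, hk⟩ := exists_genAt_eSec φ (q := q) hinv hzU
  refine mem_genOpen.2 ⟨U, g.inv.app U (bas φ k), hzU, ?_⟩
  rwa [show g.hom.app U (g.inv.app U (bas φ k)) = bas φ k from congr($(g.inv_hom_id).app U (bas φ k))]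

theorem exists_ancestors {r : ℕ} {M : Fin (r + 1) → X.Modules} (e : M (Fin.last r) ⟶ E)
    (a : ∀ i : Fin r, M (Fin.castSucc i) ⟶ M (Fin.succ i)) :
    ∃ f : ∀ i, M i ⟶ E, f (Fin.last r) = e ∧ ∀ i, a i ≫ f (Fin.succ i) = f (Fin.castSucc i) := by
  refine ⟨fun i => Fin.reverseInduction (motive := fun i => M i ⟶ E) e (fun i g => a i ≫ g) i,
    Fin.reverseInduction_last, fun i => by simp⟩

theorem kappa_mem {r : ℕ} {δ : X → ℤ} (hX : Cyc.IsSetup X δ) {L : Fin r → X.Modules}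
    (hL : ∀ i, PicF.IsInvertible (L i)) {t : (i : Fin r) → (ξ : X) → Cyc.secFibre (L i) ξ}
    (ht : ∀ i ξ, t i ξ ≠ 0) {k : ℤ} {α : AlgebraicCycle X ℤ} (hα : α ∈ Cyc.Zk X δ k)
    {κ : Finset (Fin r) → AlgebraicCycle X ℤ} (hκ0 : κ ∅ = α)
    (hκ : ∀ (I : Finset (Fin r)) (i : Fin r), (∀ i' ∈ I, i' < i) → ⇑(κ (insert i I)) = Cyc.c1CapFun δ (L i) ⇑(κ I) (t i))
    (I : Finset (Fin r)) : κ I ∈ Cyc.Zk X δ (k - I.card) := by
  classical
  induction I using Finset.induction_on_max with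
  | empty => simpa [hκ0] using hα
  | insert i I hlt IH =>
    have h : capCyc hX (hL i) (κ I) (ht i) = κ (insert i I) := DFunLike.coe_injective (hκ I i hlt).symm
    rw [← h, Finset.card_insert_of_notMem fun hmem => lt_irrefl i (hlt i hmem)]
    refine CycCommLib.capCyc_mem_Zk hX (hL i) ?_ (ht i)
    rwa [show k - ((I.card + 1 : ℕ) : ℤ) + 1 = k - I.card by push_cast; ring]

/-- The product formula for a filtered bundle. -/
theorem isChernCap_filtered [IsProper p] (B : Bun p O1 n) {q : pb p E ⟶ O1}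
    (hE : FlatMod.IsFinLocFreeOfRank (n + 1) E) (hP : KRR.IsProjBundle p E O1 q)
    (M : Fin (n + 2) → X.Modules) (h0 : IsZero (M 0)) (e : M (Fin.last (n + 1)) ≅ E)
    (L : Fin (n + 1) → X.Modules) (hL : ∀ i, PicF.IsInvertible (L i))
    (a : ∀ i : Fin (n + 1), M (Fin.castSucc i) ⟶ M (Fin.succ i)) (b : ∀ i : Fin (n + 1), M (Fin.succ i) ⟶ L i)
    (hab : ∀ i, a i ≫ b i = 0) (hex : ∀ i, (ShortComplex.mk (a i) (b i) (hab i)).ShortExact)
    {k : ℤ} {α : AlgebraicCycle X ℤ} (hα : α ∈ Cyc.Zk X B.δX k)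
    {t : (i : Fin (n + 1)) → (ξ : X) → Cyc.secFibre (L i) ξ} (ht : ∀ i ξ, t i ξ ≠ 0)
    {κ : Finset (Fin (n + 1)) → AlgebraicCycle X ℤ} (hκ0 : κ ∅ = α)
    (hκ : ∀ (I : Finset (Fin (n + 1))) (i : Fin (n + 1)), (∀ i' ∈ I, i' < i) →
      ⇑(κ (insert i I)) = Cyc.c1CapFun B.δX (L i) ⇑(κ I) (t i)) :
    Cyc.IsChernCap p B.δX B.δP O1 (n + 1) k α
      fun j => ∑ I ∈ Finset.powersetCard (j : ℕ) Finset.univ, κ I := by
  classical
  haveI := hP.epi
  haveI := B.flat
  obtain ⟨f, hflast, hf⟩ := exists_ancestors e.hom a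
  have hκm := kappa_mem B.hX hL ht hα hκ0 hκ
  have hσm : ∀ j : Fin (n + 2), (∑ I ∈ Finset.powersetCard (j : ℕ) Finset.univ, κ I) ∈
      Cyc.Zk X B.δX (k - ((j : ℕ) : ℤ)) := fun j x hx => by
    rw [Bun.cyc_sum_apply]
    refine Finset.sum_eq_zero fun I hI => hκm I x ?_
    rwa [(Finset.mem_powersetCard.1 hI).2]
  refine (B.isChernCap_iff _ _ _).2 ⟨?_, hσm, fun s => ?_⟩
  · simp [hκ0]
  let pre : ℕ → Finset (Finset (Fin (n + 1))) := fun i => (Finset.univ.filter fun j : Fin (n + 1) => (j : ℕ) < i).powerset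
  let F : ℕ → Finset (Fin (n + 1)) → AlgebraicCycle P ℤ := fun i I =>
    ((-1 : ℤ) ^ I.card) • B.caps s (B.pull (κ I)) (i - I.card)
  let G : ℕ → AlgebraicCycle P ℤ := fun i => ∑ I ∈ pre i, F i I
  have hcard : ∀ {i : ℕ} {I : Finset (Fin (n + 1))}, I ∈ pre i → I.card ≤ i := fun {i I} hI => by
    calc I.card = (I.image Fin.val).card := (Finset.card_image_of_injective _ Fin.val_injective).symm
      _ ≤ (Finset.range i).card := Finset.card_le_card fun x hx => by
          obtain ⟨j, hj, rfl⟩ := Finset.mem_image.1 hx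
          exact Finset.mem_range.2 (Finset.mem_filter.1 (Finset.mem_powerset.1 hI hj)).2
      _ = i := Finset.card_range i
  have hterm : ∀ {i : ℕ} {I : Finset (Fin (n + 1))}, I ∈ pre i →
      B.caps s (B.pull (κ I)) (i - I.card) ∈ Cyc.Zk P B.δP (k + n - i) := fun {i I} hI => by
    have := B.caps_mem s (B.pull_mem (hκm I)) (i - I.card)
    rwa [show k - (I.card : ℤ) + n - ((i - I.card : ℕ) : ℤ) = k + n - i by have := hcard hI; omega] at this
  have hGm : ∀ i : ℕ, G i ∈ Cyc.Zk P B.δP (k + n - i) := fun i z hz => by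
    simp only [G, Bun.cyc_sum_apply]
    exact Finset.sum_eq_zero fun I hI => smul_mem_Zk _ (hterm hI) z hz
  have claim : ∀ i : Fin (n + 2), ∃ D, D ∈ Cyc.Zk P B.δP (k + n - (i : ℕ)) ∧
      (∀ x ∈ genOpen q (f i) B.hinv, D x = 0) ∧ Cyc.RatEquiv B.δP (k + n - (i : ℕ)) (G i) D := by
    intro i
    induction i using Fin.induction with
    | zero =>
      refine ⟨G 0, by simpa using hGm 0, fun x hx => ?_, CycCommLib.ratEquiv_refl _⟩
      rw [genOpen_eq_bot_of_zero q B.hinv (h0.eq_of_src _ _)] at hx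
      exact hx.elim
    | succ i IH =>
      obtain ⟨D, hD, hDs, hDG⟩ := IH
      rw [Fin.val_castSucc] at hD hDG
      rw [← hf i] at hDs
      have hk : k + (n : ℤ) - (i : ℕ) = k + n - ((i.succ : Fin (n + 2)) : ℕ) + 1 := by
        rw [Fin.val_succ]; push_cast; ring
      rw [hk] at hD hDG
      let w : (ξ : P) → Cyc.secFibre (pb p (L i)) ξ := fun ξ => pbFib p (L i) ξ (t i (p ξ))
      have hw : ∀ ξ, w ξ ≠ 0 := fun ξ => CycC1Lib.pbFib_ne_zero p (hL i) (ht i _)
      have hLp : PicF.IsInvertible (pb p (L i)) := AmpleDevLib.isInvertible_pb p (hL i)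
      obtain ⟨D', hD', hD's, hstep⟩ := exists_step q (f i.succ) (hex i) B.hinv B.hP (hL i) hD hDs (s.ne 0) hw
      refine ⟨D', hD', hD's, CycCommLib.ratEquiv_trans B.hP ?_ hstep⟩
      have hGm' : G i ∈ Cyc.Zk P B.δP (k + n - ((i.succ : Fin (n + 2)) : ℕ) + 1) := hk ▸ hGm i
      have hO := CycCommLib.c1Cap_congr B.hP B.hinv hGm' hD hDG (s.ne 0) (s.ne 0)
        (γ := capCyc B.hP B.hinv (G i) (s.ne 0)) (γ' := capCyc B.hP B.hinv D (s.ne 0)) rfl rfl
      have hLc := CycCommLib.c1Cap_congr B.hP hLp hGm' hD hDG hw hw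
        (γ := capCyc B.hP hLp (G i) hw) (γ' := capCyc B.hP hLp D hw) rfl rfl
      have hGO : Cyc.RatEquiv B.δP (k + n - ((i.succ : Fin (n + 2)) : ℕ)) (∑ I ∈ pre i, F ((i : ℕ) + 1) I)
          (capCyc B.hP B.hinv (G i) (s.ne 0)) := by
        simp only [G, F, cap_sum]
        refine ratEquiv_finset_sum B.hP _ _ _ fun I hI => ratEquiv_smul B.hP _ ?_
        rw [show (i : ℕ) + 1 - I.card = ((i : ℕ) - I.card) + 1 by have := hcard hI; omega]
        exact CycC1Lib.ratEquiv_c1Cap B.hP B.hinv _ (hk ▸ hterm hI) (s.ne _) (s.ne 0) _ _ (B.caps_succ s _ _) rfl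
      have hmax : ∀ I ∈ pre i, ∀ i' ∈ I, i' < i := fun I hI i' hi' =>
        (Finset.mem_filter.1 (Finset.mem_powerset.1 hI hi')).2
      have hni : ∀ I ∈ pre i, i ∉ I := fun I hI h => lt_irrefl i (hmax I hI i h)
      have hGL : Cyc.RatEquiv B.δP (k + n - ((i.succ : Fin (n + 2)) : ℕ))
          (∑ I ∈ pre i, ((-1 : ℤ) ^ I.card) • B.caps s (B.pull (κ (insert i I))) ((i : ℕ) - I.card))
          (capCyc B.hP hLp (G i) hw) := by
        simp only [G, F, cap_sum]
        refine ratEquiv_finset_sum B.hP _ _ _ fun I hI => ratEquiv_smul B.hP _ ?_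
        have hins : B.pull (κ (insert i I)) = capCyc B.hP hLp (B.pull (κ I)) hw :=
          DFunLike.coe_injective ((congrArg (Cyc.pullFun p B.δP B.δX n) (hκ I i (hmax I hI))).trans
            (CycC1Lib.pullFun_c1Cap p B.hP B.hX B.hgen (hL i) (κ I) (ht i)))
        rw [hins]
        refine CycCommLib.ratEquiv_symm B.hP ?_
        have := B.cap_caps_comm hLp hw (B.pull_mem (hκm I)) s ((i : ℕ) - I.card)
        rwa [show k - (I.card : ℤ) + n - (((i : ℕ) - I.card : ℕ) : ℤ) - 1 = k + n - ((i.succ : Fin (n + 2)) : ℕ) by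
          have := hcard hI; rw [Fin.val_succ]; omega] at this
      have hsplit : G ((i.succ : Fin (n + 2)) : ℕ) = (∑ I ∈ pre i, F ((i : ℕ) + 1) I) -
          ∑ I ∈ pre i, ((-1 : ℤ) ^ I.card) • B.caps s (B.pull (κ (insert i I))) ((i : ℕ) - I.card) := by
        have hpre : pre ((i.succ : Fin (n + 2)) : ℕ) = pre i ∪ (pre i).image (insert i) := by
          simp only [pre]
          rw [← Finset.powerset_insert]
          congr 1
          ext j
          simp only [Fin.val_succ, Finset.mem_filter, Finset.mem_univ, true_and, Finset.mem_insert, Fin.ext_iff]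
          omega
        have hdisj : Disjoint (pre i) ((pre i).image (insert i)) := Finset.disjoint_left.2 fun I hI hI' => by
          obtain ⟨J, -, rfl⟩ := Finset.mem_image.1 hI'
          exact hni _ hI (Finset.mem_insert_self i J)
        show ∑ I ∈ pre ((i.succ : Fin (n + 2)) : ℕ), F ((i.succ : Fin (n + 2)) : ℕ) I = _
        rw [hpre, Finset.sum_union hdisj, Finset.sum_image (fun I hI J hJ h => by
          rw [← Finset.erase_insert (hni I hI), ← Finset.erase_insert (hni J hJ), h]), Fin.val_succ,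
          sub_eq_add_neg, ← Finset.sum_neg_distrib]
        refine congrArg _ (Finset.sum_congr rfl fun I hI => ?_)
        simp only [F, Finset.card_insert_of_notMem (hni I hI), Nat.add_sub_add_right, pow_succ, mul_neg_one, neg_smul]
      show Cyc.RatEquivZero _ _ _
      rw [hsplit]
      refine CycCommLib.ratEquivZero_add B.hP (CycCommLib.ratEquiv_trans B.hP hGO hO)
        (CycCommLib.ratEquiv_symm B.hP (CycCommLib.ratEquiv_trans B.hP hGL hLc)) fun z => ?_
      simp only [show ∀ (A C : AlgebraicCycle P ℤ) (z : P), (A - C) z = A z - C z from fun _ _ _ => rfl]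
      ring
  obtain ⟨D, hD, hDs, hDG⟩ := claim (Fin.last (n + 1))
  rw [hflast, genOpen_eq_top_of_iso B.hinv e hE] at hDs
  have hD0 : D = 0 := DFunLike.ext _ _ fun x => hDs x trivial
  rw [hD0, Fin.val_last] at hDG
  have hG0 : Cyc.RatEquivZero B.δP (k + n - ((n + 1 : ℕ) : ℤ)) (G (n + 1)) := ratEquiv_zero_iff.1 hDG
  rw [show k + (n : ℤ) - ((n + 1 : ℕ) : ℤ) = k - 1 by push_cast; ring] at hG0
  have hG : B.relCyc s (fun j => ∑ I ∈ Finset.powersetCard (j : ℕ) Finset.univ, κ I) =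
      ((-1 : ℤ) ^ (n + 1)) • G (n + 1) := by
    have hpre : pre (n + 1) = (Finset.univ : Finset (Fin (n + 1))).powerset := by
      simp only [pre]
      congr 1
      exact Finset.filter_true_of_mem fun j _ => j.2
    simp only [G, hpre]
    rw [Finset.sum_powerset, Finset.card_univ, Fintype.card_fin,
      Finset.sum_range (fun j => ∑ I ∈ Finset.powersetCard j _, F (n + 1) I), Finset.smul_sum, Bun.relCyc,
      ← Equiv.sum_comp Fin.revPerm (fun i => _ • _)]
    refine Finset.sum_congr rfl fun j _ => ?_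
    have hpull : ∀ (S : Finset (Finset (Fin (n + 1)))), B.pull (∑ I ∈ S, κ I) = ∑ I ∈ S, B.pull (κ I) := fun S =>
      map_sum (AddMonoidHom.ofMapSub B.pull B.pull_sub) _ _
    simp only [Fin.revPerm_apply, Fin.rev_rev, hpull, B.caps_sum', Finset.smul_sum, F]
    refine Finset.sum_congr rfl fun I hI => ?_
    rw [(Finset.mem_powersetCard.1 hI).2, smul_smul, ← pow_add]
    have hj := j.2
    have hr : ((Fin.rev j : Fin (n + 2)) : ℕ) = n + 1 - j := by rw [Fin.val_rev]; omega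
    rw [hr, show n + 1 + (j : ℕ) = (n + 1 - (j : ℕ)) + 2 * (j : ℕ) by omega, pow_add _ _ (2 * (j : ℕ)), pow_mul]
    simp
  rw [hG]
  exact ratEquivZero_smul B.hP _ hG0

end CycPBLib

end
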