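import Mathlib
import Groth.Agent.CycPBLib.Comm
import Groth.Agent.CycBivLib.GysinCore
import Groth.Agent.CycCommLib.Gysin

/-!
# Chern caps and Gysin maps
-/

set_option autoImplicit false
set_option linter.style.haveILetI false
set_option linter.unusedSectionVars false

universe u

open AlgebraicGeometry CategoryTheory CategoryTheory.Limits Opposite

noncomputable section

namespace CycPBLib

open CycC1Lib (pbFib capCyc)

/-- The Gysin cycle. -/
def gysCyc {X D : Scheme.{u}} {δ : X → ℤ} (hX : Cyc.IsSetup X δ) {L : X.Modules} (hL : PicF.IsInvertible L)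
    (i : D ⟶ X) [IsClosedImmersion i] (s : L.presheaf.obj (Opposite.op ⊤)) {w : (ξ : X) → Cyc.secFibre L ξ}
    (hw : ∀ ξ, w ξ ≠ 0) (α : AlgebraicCycle X ℤ) : AlgebraicCycle D ℤ :=
  CycGysLib.restrictCyc i (capCyc hX hL α (CycGysLib.gysinChoice_ne_zero s hw))

section
variable {X D : Scheme.{u}} {δ : X → ℤ} (hX : Cyc.IsSetup X δ) {L : X.Modules} (hL : PicF.IsInvertible L)
  (i : D ⟶ X) [IsClosedImmersion i] (s : L.presheaf.obj (Opposite.op ⊤)) {w : (ξ : X) → Cyc.secFibre L ξ}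
  (hw : ∀ ξ, w ξ ≠ 0)

theorem gysCyc_mem {k : ℤ} {α : AlgebraicCycle X ℤ} (hα : α ∈ Cyc.Zk X δ k) :
    gysCyc hX hL i s hw α ∈ Cyc.Zk D (fun d => δ (i d)) (k - 1) := fun d hd =>
  CycCommLib.capCyc_mem_Zk hX hL (m := k - 1) (by rwa [sub_add_cancel]) (CycGysLib.gysinChoice_ne_zero s hw) (i d) hd

theorem gysCyc_sum {ι : Type*} (S : Finset ι) (c : ι → ℤ) (α : ι → AlgebraicCycle X ℤ) :
    gysCyc hX hL i s hw (∑ a ∈ S, c a • α a) = ∑ a ∈ S, c a • gysCyc hX hL i s hw (α a) :=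
  DFunLike.ext _ _ fun d => by
    show capCyc hX hL (∑ a ∈ S, c a • α a) (CycGysLib.gysinChoice_ne_zero s hw) (i d) = _
    rw [cap_sum hX hL, Bun.cyc_sum_apply, Bun.cyc_sum_apply]
    refine Finset.sum_congr rfl fun a _ => ?_
    rw [smul_apply, smul_apply]
    rfl

end

variable {X D P PD : Scheme.{u}} {p : P ⟶ X} {O1 : P.Modules} {n : ℕ} {pD : PD ⟶ D} {i' : PD ⟶ P} {i : D ⟶ X}
  (B : Bun p O1 n) (BD : Bun pD ((Scheme.Modules.pullback i').obj O1) n)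

/-- Chern caps commute with Gysin maps. -/
theorem isChernCap_gysin [IsProper p] [IsClosedImmersion i] (hsq : IsPullback i' pD p i)
    (hδD : BD.δX = fun d => B.δX (i d)) (hδP : BD.δP = fun y => B.δP (i' y)) {L : X.Modules}
    (hL : PicF.IsInvertible L) {s : L.presheaf.obj (Opposite.op ⊤)} (hD : Cyc.IsZeroSchemeOf i L s)
    {w : (ξ : X) → Cyc.secFibre L ξ} (hw : ∀ ξ, w ξ ≠ 0) {k : ℤ} {α : AlgebraicCycle X ℤ}
    {γ : Fin (n + 2) → AlgebraicCycle X ℤ} (hγ : Cyc.IsChernCap p B.δX B.δP O1 (n + 1) k α γ) :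
    Cyc.IsChernCap pD BD.δX BD.δP ((Scheme.Modules.pullback i').obj O1) (n + 1) (k - 1)
      (gysCyc B.hX hL i s hw α) fun j => gysCyc B.hX hL i s hw (γ j) := by
  haveI := B.flat
  haveI : IsClosedImmersion i' := MorphismProperty.of_isPullback hsq.flip ‹IsClosedImmersion i›
  obtain ⟨h1, h2, h3⟩ := (B.isChernCap_iff _ _ _).1 hγ
  have hmem : ∀ j : Fin (n + 2), gysCyc B.hX hL i s hw (γ j) ∈ Cyc.Zk D BD.δX (k - 1 - ((j : ℕ) : ℤ)) := fun j => by
    rw [hδD, show k - 1 - ((j : ℕ) : ℤ) = k - ((j : ℕ) : ℤ) - 1 by ring]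
    exact gysCyc_mem B.hX hL i s hw (h2 j)
  refine (BD.isChernCap_iff _ _ _).2 ⟨by rw [h1], hmem, fun t => ?_⟩
  let M := (Scheme.Modules.pullback p).obj L
  have hM : PicF.IsInvertible M := AmpleDevLib.isInvertible_pb p hL
  let s' := CycGysLib.pbSec p s
  have hD' : Cyc.IsZeroSchemeOf i' M s' := CycBivLib.isZeroSchemeOf_square hsq hL hD
  let w' : (ξ : P) → Cyc.secFibre M ξ := fun ξ => pbFib p L ξ (w (p ξ))
  have hw' : ∀ ξ, w' ξ ≠ 0 := fun ξ => CycC1Lib.pbFib_ne_zero p hL (hw _)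
  let G : AlgebraicCycle P ℤ → AlgebraicCycle PD ℤ := gysCyc B.hP hM i' s' hw'
  have hGmem : ∀ {m : ℤ} {A : AlgebraicCycle P ℤ}, A ∈ Cyc.Zk P B.δP m → G A ∈ Cyc.Zk PD BD.δP (m - 1) :=
    fun hA => by rw [hδP]; exact gysCyc_mem B.hP hM i' s' hw' hA
  let t₀ : Bun.Secs O1 := ⟨B.std.t, B.std.ne⟩
  let t₁ := pullSecs i' B.hinv t₀
  have hstep : ∀ {m : ℤ} {A : AlgebraicCycle P ℤ}, A ∈ Cyc.Zk P B.δP m → ∀ l : ℕ,
      Cyc.RatEquiv BD.δP (m - l - 1) (G (B.caps t₀ A l)) (BD.caps t₁ (G A) l) := by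
    intro m A hA l
    induction l with
    | zero => exact CycCommLib.ratEquiv_refl _
    | succ l IH =>
      have hl := B.caps_mem t₀ hA l
      let mid := capCyc BD.hP BD.hinv (G (B.caps t₀ A l)) (t₁.ne l)
      have e1 : Cyc.RatEquiv BD.δP (m - (l : ℕ) - 2) (G (B.caps t₀ A (l + 1))) mid := by
        rw [hδP]
        refine CycCommLib.gysin_cap B.hP hM hD' B.hinv (B.caps t₀ A l) hl hw' (t₀.ne l) (t₁.ne l)
          (B.caps t₀ A (l + 1)) (B.caps_succ t₀ A l) _ rfl _ _ (fun _ => rfl) ?_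
        show Cyc.c1CapFun BD.δP _ _ _ = _
        rw [hδP]
        rfl
      have e2 : Cyc.RatEquiv BD.δP (m - (l : ℕ) - 2) mid (BD.caps t₁ (G A) (l + 1)) := by
        refine CycCommLib.c1Cap_congr BD.hP BD.hinv ?_ ?_ ?_ (t₁.ne l) (t₁.ne l) rfl (BD.caps_succ t₁ _ l)
        · rw [show m - (l : ℕ) - 2 + 1 = m - (l : ℕ) - 1 by ring]
          exact hGmem hl
        · rw [show m - (l : ℕ) - 2 + 1 = m - 1 - (l : ℕ) by ring]
          exact BD.caps_mem t₁ (hGmem hA) l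
        · rwa [show m - (l : ℕ) - 2 + 1 = m - (l : ℕ) - 1 by ring]
      rw [show m - ((l + 1 : ℕ) : ℤ) - 1 = m - (l : ℕ) - 2 by push_cast; ring]
      exact CycCommLib.ratEquiv_trans BD.hP e1 e2
  have hterm : ∀ a : Fin (n + 2), Cyc.RatEquiv BD.δP (k - 1 - 1)
      (G (B.caps t₀ (B.pull (γ (Fin.rev a))) (a : ℕ)))
      (BD.caps t₁ (BD.pull (gysCyc B.hX hL i s hw (γ (Fin.rev a)))) (a : ℕ)) := by
    intro a
    have e1 := hstep (B.pull_mem (h2 (Fin.rev a))) (a : ℕ)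
    have e0 : Cyc.RatEquiv BD.δP (k - ((Fin.rev a : Fin (n + 2)) : ℕ) - 1 + n) (G (B.pull (γ (Fin.rev a))))
        (BD.pull (gysCyc B.hX hL i s hw (γ (Fin.rev a)))) := by
      rw [hδP]
      refine CycBivLib.gysin_pull_core B.hX B.hP B.hgen hsq hL hD hM (Iso.refl _) hD' (γ (Fin.rev a))
        (by rw [sub_add_cancel]; exact h2 _) hw hw' _ _ (fun _ => rfl) ?_
      show Cyc.pullFun pD BD.δP BD.δX _ _ = _
      rw [hδP, hδD]
      rfl
    have hGp : G (B.pull (γ (Fin.rev a))) ∈ Cyc.Zk PD BD.δP (k - ((Fin.rev a : Fin (n + 2)) : ℕ) - 1 + n) := by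
      rw [show k - ((Fin.rev a : Fin (n + 2)) : ℕ) - 1 + (n : ℤ) = k - ((Fin.rev a : Fin (n + 2)) : ℕ) + n - 1 by ring]
      exact hGmem (B.pull_mem (h2 _))
    have e2 := BD.caps_ratEquiv hGp (D' := BD.pull (gysCyc B.hX hL i s hw (γ (Fin.rev a)))) (by
      have := BD.pull_mem (hmem (Fin.rev a))
      rwa [show k - 1 - ((Fin.rev a : Fin (n + 2)) : ℕ) + (n : ℤ) = k - ((Fin.rev a : Fin (n + 2)) : ℕ) - 1 + n by ring] at this)
      t₁ t₁ e0 (a : ℕ)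
    have hk : k - ((Fin.rev a : Fin (n + 2)) : ℕ) + (n : ℤ) - (a : ℕ) - 1 = k - 1 - 1 := by
      have := a.2; rw [Fin.val_rev]; omega
    rw [hk] at e1
    rw [show k - ((Fin.rev a : Fin (n + 2)) : ℕ) - 1 + (n : ℤ) - (a : ℕ) = k - 1 - 1 by omega] at e2
    exact CycCommLib.ratEquiv_trans BD.hP e1 e2
  have hrel : Cyc.RatEquivZero BD.δP (k - 1 - 1) (G (B.relCyc t₀ γ)) := by
    rw [hδP]
    refine CycCommLib.gysin_ratEquivZero B.hP hM hD' ?_ ((sub_add_cancel (k - 1) 1).symm ▸ h3 t₀) hw' fun _ => rfl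
    rw [sub_add_cancel]
    intro z hz
    rw [Bun.relCyc, Bun.cyc_sum_apply]
    exact Finset.sum_eq_zero fun a _ => smul_mem_Zk _ (B.term_mem t₀ h2 a) z hz
  rw [show G (B.relCyc t₀ γ) = _ from gysCyc_sum B.hP hM i' s' hw' Finset.univ _ _] at hrel
  refine BD.relCyc_change hmem t₁ t ?_
  have hd := Bun.ratEquivZero_finset_sum BD.hP Finset.univ
    (fun a : Fin (n + 2) => ((-1 : ℤ) ^ (a : ℕ)) • (BD.caps t₁ (BD.pull (gysCyc B.hX hL i s hw (γ (Fin.rev a)))) (a : ℕ) -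
      G (B.caps t₀ (B.pull (γ (Fin.rev a))) (a : ℕ))))
    fun a _ => ratEquivZero_smul BD.hP _ (CycCommLib.ratEquiv_symm BD.hP (hterm a))
  refine CycCommLib.ratEquivZero_add BD.hP hd hrel fun z => ?_
  simp only [smul_sub, Finset.sum_sub_distrib]
  exact (sub_add_cancel _ _).symm

end CycPBLib

end
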