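import Mathlib
import Groth.Agent.CycPBLib.Comm
import Groth.Agent.CohCmpLib.RankOne

/-!
# Chern classes of invertible modules
-/

set_option autoImplicit false
set_option linter.style.haveILetI false
set_option linter.unusedSectionVars false

universe u

open AlgebraicGeometry CategoryTheory CategoryTheory.Limits Opposite

noncomputable section

namespace CycPBLib

open CycC1Lib (pbFib capCyc)
open CycBivLib (fibMap)

variable {X P : Scheme.{u}} {p : P ⟶ X} {O1 : P.Modules}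

/-- The first Chern cap of an invertible module is the cap with its first Chern class. -/
theorem ratEquiv_c1_of_rank_one [IsProper p] (B : Bun p O1 0) {L : X.Modules} (hL : PicF.IsInvertible L)
    {q : (Scheme.Modules.pullback p).obj L ⟶ O1} (hP : KRR.IsProjBundle p L O1 q) {k : ℤ}
    {α : AlgebraicCycle X ℤ} (hα : α ∈ Cyc.Zk X B.δX k) {γ : Fin 2 → AlgebraicCycle X ℤ}
    (hγ : Cyc.IsChernCap p B.δX B.δP O1 1 k α γ) {s : (ξ : X) → Cyc.secFibre L ξ} (hs : ∀ ξ, s ξ ≠ 0) :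
    Cyc.RatEquiv B.δX (k - 1) (γ 1) (capCyc B.hX hL α hs) := by
  haveI := B.hP.1
  haveI := hP.epi
  haveI := CohCmpLib.isIso_of_epi_rank_one (CohCmpLib.rank_one_pullback p ((CohCmpLib.invertible_iff_rank_one L).1 hL))
    hP.invertible q
  have hM : PicF.IsInvertible ((Scheme.Modules.pullback p).obj L) := AmpleDevLib.isInvertible_pb p hL
  let σ : (ξ : P) → Cyc.secFibre ((Scheme.Modules.pullback p).obj L) ξ := fun ξ => pbFib p L ξ (s (p ξ))
  have hσ : ∀ ξ, σ ξ ≠ 0 := fun ξ => CycC1Lib.pbFib_ne_zero p hL (hs _)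
  let t : Bun.Secs O1 :=
    ⟨fun _ ξ => fibMap (asIso q).hom ξ (σ ξ), fun _ ξ => CycBivLib.fibMap_ne_zero (asIso q) (hσ ξ)⟩
  obtain ⟨h1, h2, h3⟩ := (B.isChernCap_iff _ _ _).1 hγ
  have hα0 : B.pull α ∈ Cyc.Zk P B.δP (k - 1 + 1) := by simpa using B.pull_mem hα
  let c₁ := B.caps t (B.pull α) 1
  have hc : ⇑c₁ = Cyc.c1CapFun B.δP ((Scheme.Modules.pullback p).obj L) ⇑(B.pull α) σ := by
    rw [show c₁ = B.caps t (B.pull α) (0 + 1) from rfl, B.caps_succ]
    exact CycBivLib.c1CapFun_fibMap B.hP hM (asIso q) _ σ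
  have hpush : ∀ {j : ℤ} {D : AlgebraicCycle X ℤ}, D ∈ Cyc.Zk X B.δX j →
      Cyc.RatEquiv B.δX j (AlgebraicCycle.map p B.δP B.δX (B.pull D)) D := fun hD => B.push_caps hD t
  let D' := AlgebraicCycle.map p B.δP B.δX (B.pull α)
  have hD' : D' ∈ Cyc.Zk X B.δX (k - 1 + 1) := map_mem_Zk p hα0
  have hmap : AlgebraicCycle.map p B.δP B.δX c₁ = capCyc B.hX hL D' hs :=
    DFunLike.ext _ _ fun y => CycC1Lib.map_c1Cap B.hP B.hX p B.hδ hL (B.pull α) hs c₁ hc y
  have e1 : Cyc.RatEquiv B.δX (k - 1) (capCyc B.hX hL D' hs) (capCyc B.hX hL α hs) :=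
    CycCommLib.c1Cap_congr B.hX hL hD' (by simpa using hα) (by simpa using hpush hα) hs hs rfl rfl
  have e2 : Cyc.RatEquiv B.δX (k - 1) (AlgebraicCycle.map p B.δP B.δX (B.pull (γ 1)))
      (AlgebraicCycle.map p B.δP B.δX c₁) := by
    refine CycPushLib.ratEquiv_map B.hP B.hX p B.hδ (ratEquiv_apply_eq (h3 t) fun z => ?_)
    show B.pull (γ 1) z - c₁ z = _
    rw [Bun.relCyc, Bun.cyc_sum_apply, Fin.sum_univ_two, smul_apply, smul_apply]
    simp only [Fin.val_zero, Fin.val_one, pow_zero, one_mul, pow_one, neg_one_mul]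
    rw [show Fin.rev (0 : Fin 2) = 1 from rfl, show Fin.rev (1 : Fin 2) = 0 from rfl, h1]
    exact sub_eq_add_neg _ _
  have e0 := hpush (h2 1)
  simp only [Fin.val_one, Nat.cast_one] at e0
  rw [hmap] at e2
  exact CycCommLib.ratEquiv_trans B.hX (CycCommLib.ratEquiv_symm B.hX e0) (CycCommLib.ratEquiv_trans B.hX e2 e1)

end CycPBLib

end
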