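import Mathlib
import Groth.Agent.CycPBLib.WhitMain
import Groth.Agent.CycPBLib.RankOne

/-!
# Invertible subsheaves
-/

set_option autoImplicit false
set_option linter.style.haveILetI false
set_option linter.unusedSectionVars false

universe u

open AlgebraicGeometry CategoryTheory CategoryTheory.Limits
open KFlatLib (pb)
open CycC1Lib (capCyc)

noncomputable section

namespace CycPBLib

variable {X P Q : Scheme.{u}} {p : P ⟶ X} {p' : Q ⟶ X} {O1 : P.Modules} {O1' : Q.Modules} {E F L : X.Modules}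
  {q : pb p E ⟶ O1} {q' : pb p' F ⟶ O1'} {m : ℕ}

/-- The projective bundle of an invertible module. -/
theorem isProjBundle_line (hL : PicF.IsInvertible L) :
    KRR.IsProjBundle (𝟙 X) L L ((Scheme.Modules.pullbackId X).hom.app L) where
  invertible := (CohCmpLib.invertible_iff_rank_one L).1 hL
  epi := inferInstance
  univ T g M hM s hs := by
    haveI := CohCmpLib.isIso_of_epi_rank_one
      (CohCmpLib.rank_one_pullback g ((CohCmpLib.invertible_iff_rank_one L).1 hL)) hM s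
    let c : pb g L ⟶ pb g L := (Scheme.Modules.pullbackCongr (Category.comp_id g)).inv.app L ≫
      (Scheme.Modules.pullbackComp g (𝟙 X)).inv.app L ≫ (Scheme.Modules.pullback g).map ((Scheme.Modules.pullbackId X).hom.app L)
    haveI : IsIso c := inferInstance
    refine ⟨g, ⟨Category.comp_id g, (asIso c).symm ≪≫ asIso s, ?_⟩, ?_⟩
    · refine Eq.trans ?_ ((asIso c).hom_inv_id_assoc s)
      simp only [c, asIso_hom, Iso.trans_hom, Iso.symm_hom, Category.assoc]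
    · rintro h ⟨hh, -⟩
      rwa [Category.comp_id] at hh

/-- Chern caps of an extension by an invertible module. -/
theorem ratEquiv_sub_line [IsProper p] [IsProper p'] {δ : X → ℤ} {δP : P → ℤ} {δQ : Q → ℤ} (hX : Cyc.IsSetup X δ)
    (hPs : Cyc.IsSetup P δP) (hQs : Cyc.IsSetup Q δQ) (hδ : Cyc.DeltaCompat p δP δ) (hδ' : Cyc.DeltaCompat p' δQ δ)
    (hE : FlatMod.IsFinLocFreeOfRank (m + 1) E) (hP : KRR.IsProjBundle p E O1 q)
    (hF : FlatMod.IsFinLocFreeOfRank m F) (hQ : KRR.IsProjBundle p' F O1' q')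
    (hL : PicF.IsInvertible L) (a : L ⟶ E) (b : E ⟶ F) (hab : a ≫ b = 0)
    (hex : (ShortComplex.mk a b hab).ShortExact) {k : ℤ} {α : AlgebraicCycle X ℤ}
    {γ : Fin (m + 2) → AlgebraicCycle X ℤ} (hγ : Cyc.IsChernCap p δ δP O1 (m + 1) k α γ)
    {γ' : Fin (m + 1) → AlgebraicCycle X ℤ} (hγ' : Cyc.IsChernCap p' δ δQ O1' m k α γ')
    {t : (ξ : X) → Cyc.secFibre L ξ} (ht : ∀ ξ, t ξ ≠ 0) (j : Fin (m + 2)) :
    Cyc.RatEquiv δ (k - ((j : ℕ) : ℤ)) (γ j)
      ((if h : (j : ℕ) < m + 1 then γ' ⟨j, h⟩ else 0) +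
        (if 1 ≤ (j : ℕ) then capCyc hX hL (γ' ⟨(j : ℕ) - 1, by omega⟩) ht else 0)) := by
  classical
  have hP₁ := isProjBundle_line hL
  have hδ₁ : Cyc.DeltaCompat (𝟙 X) δ δ := CycBivLib.deltaCompat_restrict (δ := δ) (𝟙 X)
  obtain ⟨B, hBX, hBP⟩ := exists_bun' (n := 0) ((CohCmpLib.invertible_iff_rank_one L).1 hL) hP₁ hX hX hδ₁
  have hmem : ∀ c : Fin (m + 1), γ' c ∈ Cyc.Zk X δ (k - ((c : ℕ) : ℤ)) := hγ'.2.1
  have hex' : ∀ c : Fin (m + 1), ∃ e : Fin 2 → AlgebraicCycle X ℤ,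
      Cyc.IsChernCap (𝟙 X) δ δ L 1 (k - ((c : ℕ) : ℤ)) (γ' c) e ∧
        Cyc.RatEquiv δ (k - ((c : ℕ) : ℤ) - 1) (e 1) (capCyc hX hL (γ' c) ht) := fun c => by
    subst hBX
    obtain ⟨e, he⟩ := B.exists_chern (hmem c)
    have h1 := ratEquiv_c1_of_rank_one B hL hP₁ (hmem c) he ht
    rw [hBP] at he
    exact ⟨e, he, h1⟩
  choose ε hε hε1 using hex'
  have h := ratEquiv_whitney hX hPs hX hQs hδ hδ₁ hδ' (Nat.add_comm 1 m) hE hP
    ((CohCmpLib.invertible_iff_rank_one L).1 hL) hP₁ hF hQ a b hab hex hγ' hε hγ j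
  refine CycCommLib.ratEquiv_trans hX h ?_
  simp only [whitTup, show ∀ f : Fin (1 + 1) → AlgebraicCycle X ℤ, ∑ a, f a = f 0 + f 1 from fun f => Fin.sum_univ_two f,
    Fin.val_zero, Fin.val_one, zero_add]
  have hA : (∑ c : Fin (m + 1), if (c : ℕ) = (j : ℕ) then ε c 0 else 0) =
      if h : (j : ℕ) < m + 1 then γ' ⟨j, h⟩ else 0 := by
    split_ifs with hj
    · rw [Finset.sum_eq_single (⟨j, hj⟩ : Fin (m + 1)) (fun c _ hc => if_neg fun h => hc (Fin.ext h))
        (by simp), if_pos rfl, (hε _).1]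
    · exact Finset.sum_eq_zero fun c _ => if_neg fun h => hj (by omega)
  rw [hA]
  show Cyc.RatEquivZero _ _ (_ - _)
  rw [add_sub_add_left_eq_sub]
  split_ifs with hj
  · rw [Finset.sum_eq_single (⟨(j : ℕ) - 1, by omega⟩ : Fin (m + 1))
      (fun c _ hc => if_neg fun h => hc (Fin.ext (show (c : ℕ) = (j : ℕ) - 1 by omega))) (by simp),
      if_pos (show 1 + ((j : ℕ) - 1) = (j : ℕ) by omega)]
    have := hε1 ⟨(j : ℕ) - 1, by omega⟩
    rwa [show k - (((⟨(j : ℕ) - 1, by omega⟩ : Fin (m + 1)) : ℕ) : ℤ) - 1 = k - ((j : ℕ) : ℤ) by simp only; omega] at this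
  · rw [sub_zero, Finset.sum_eq_zero fun c _ => if_neg (by omega)]
    exact CycCommLib.ratEquivZero_of_forall_eq_zero fun _ => rfl

end CycPBLib

end
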